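import Mathlib

/-!
Nagata's criterion for factoriality and a criterion for normality.
-/

universe u v

namespace GrassLib

theorem ufd_of_isLocalization {R : Type u} [CommRing R] [IsDomain R] [UniqueFactorizationMonoid R]
    (M : Submonoid R) (L : Type v) [CommRing L] [IsDomain L] [Algebra R L] [IsLocalization M L] :
    UniqueFactorizationMonoid L := by
  rw [UniqueFactorizationMonoid.iff_exists_prime_mem_of_isPrime]
  intro P hP hPp
  obtain ⟨hPR, hdisj⟩ := (IsLocalization.isPrime_iff_isPrime_disjoint M L P).1 hPp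
  have hne : P.under R ≠ ⊥ := by
    intro h
    apply hP
    rw [← IsLocalization.map_under M L P, h, Ideal.map_bot]
  obtain ⟨p, hp, hpp⟩ := hPR.exists_mem_prime_of_ne_bot hne
  refine ⟨algebraMap R L p, hp, ?_⟩
  have hne' : algebraMap R L p ≠ 0 := by
    have h0 : ∀ m ∈ M, m ≠ (0 : R) := by
      intro m hm h0
      exact (Set.disjoint_left.1 hdisj hm) (by rw [h0]; exact Ideal.zero_mem _)
    rw [Ne, IsLocalization.map_eq_zero_iff M]
    rintro ⟨m, hm⟩
    rcases mul_eq_zero.1 hm with h | h
    · exact h0 m m.2 h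
    · exact hpp.ne_zero h
  rw [← Ideal.span_singleton_prime hne']
  have hmap : (Ideal.span {algebraMap R L p} : Ideal L) =
      Ideal.map (algebraMap R L) (Ideal.span {p}) := by
    rw [Ideal.map_span, Set.image_singleton]
  rw [hmap]
  refine IsLocalization.isPrime_of_isPrime_disjoint M L _
    ((Ideal.span_singleton_prime hpp.ne_zero).2 hpp) ?_
  exact Disjoint.mono_right ((Ideal.span_singleton_le_iff_mem _).2 hp) hdisj

variable {R : Type u} [CommRing R] [IsDomain R] [IsNoetherianRing R]

/-- Nagata's criterion. -/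
theorem ufd_of_away (x : R) (hx : Prime x) (L : Type v) [CommRing L] [IsDomain L] [Algebra R L]
    [IsLocalization.Away x L] [UniqueFactorizationMonoid L] : UniqueFactorizationMonoid R := by
  rw [UniqueFactorizationMonoid.iff_exists_prime_mem_of_isPrime]
  intro P hP hPp
  by_cases hxP : x ∈ P
  · exact ⟨x, hxP, hx⟩
  have hdisj : Disjoint (Submonoid.powers x : Set R) P := by
    rw [Set.disjoint_left]
    rintro y ⟨k, rfl⟩ hy
    exact hxP (hPp.mem_of_pow_mem k hy)
  have hinj : Function.Injective (algebraMap R L) :=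
    IsLocalization.injective L (powers_le_nonZeroDivisors_of_noZeroDivisors hx.ne_zero)
  have hPL : (P.map (algebraMap R L)).IsPrime :=
    IsLocalization.isPrime_of_isPrime_disjoint (Submonoid.powers x) L P hPp hdisj
  have hPLne : P.map (algebraMap R L) ≠ ⊥ := by
    intro h
    exact hP ((Ideal.map_eq_bot_iff_of_injective hinj).1 h)
  obtain ⟨q, hq, hqp⟩ := hPL.exists_mem_prime_of_ne_bot hPLne
  obtain ⟨⟨a₀, ⟨_, j, rfl⟩⟩, ha₀⟩ := IsLocalization.surj (Submonoid.powers x) q
  simp only at ha₀
  have hu : ∀ k : ℕ, IsUnit (algebraMap R L (x ^ k)) := fun k =>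
    IsLocalization.map_units L (⟨x ^ k, k, rfl⟩ : Submonoid.powers x)
  have ha0 : a₀ ≠ 0 := by
    rintro rfl
    rw [map_zero, mul_eq_zero] at ha₀
    rcases ha₀ with h | h
    · exact hqp.ne_zero h
    · exact (hu j).ne_zero h
  obtain ⟨k, a, hxa, rfl⟩ := WfDvdMonoid.max_power_factor ha0 hx.irreducible
  have hassoc : Associated q (algebraMap R L a) := by
    refine (associated_mul_unit_right q _ (hu j)).trans ?_
    rw [ha₀, map_mul]
    exact associated_unit_mul_left _ _ (hu k)
  have hqa : Prime (algebraMap R L a) := hassoc.prime hqp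
  refine ⟨a, ?_, ?_, ?_, ?_⟩
  · rw [← IsLocalization.under_map_of_isPrime_disjoint (Submonoid.powers x) L hPp hdisj]
    obtain ⟨u, hu'⟩ := hassoc
    rw [Ideal.mem_comap, ← hu']
    exact Ideal.mul_mem_right _ _ hq
  · rintro rfl
    exact hqa.ne_zero (map_zero _)
  · intro h
    exact hqa.not_isUnit (h.map _)
  · intro b c hbc
    have key : ∀ b : R, algebraMap R L a ∣ algebraMap R L b → a ∣ b := by
      rintro b ⟨r, hr⟩
      obtain ⟨⟨r₀, ⟨_, m, rfl⟩⟩, hr₀⟩ := IsLocalization.surj (Submonoid.powers x) r
      simp only at hr₀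
      have heq : b * x ^ m = a * r₀ := by
        apply hinj
        rw [map_mul, map_mul, hr, ← hr₀]
        ring
      have hdvd : x ^ m ∣ r₀ := hx.pow_dvd_of_dvd_mul_left m hxa ⟨b, by rw [← heq]; ring⟩
      obtain ⟨r₁, rfl⟩ := hdvd
      refine ⟨r₁, mul_right_cancel₀ (pow_ne_zero m hx.ne_zero) ?_⟩
      rw [heq]; ring
    obtain ⟨y, hy⟩ := hbc
    rcases hqa.dvd_or_dvd (a := algebraMap R L b) (b := algebraMap R L c)
      ⟨algebraMap R L y, by rw [← map_mul, ← map_mul, hy]⟩ with h | h
    · exact Or.inl (key b h)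
    · exact Or.inr (key c h)

omit [IsNoetherianRing R] in
/-- A domain with a reduced hypersurface section and normal complement is normal. -/
theorem isIntegrallyClosed_of_away (x : R) (hx : x ≠ 0)
    (hred : (Ideal.span {x}).IsRadical) (L : Type v) [CommRing L] [IsDomain L] [Algebra R L]
    [IsLocalization.Away x L] [IsIntegrallyClosed L] : IsIntegrallyClosed R := by
  let F := FractionRing R
  have hM : Submonoid.powers x ≤ nonZeroDivisors R :=
    powers_le_nonZeroDivisors_of_noZeroDivisors hx
  let : Algebra L F := (IsLocalization.lift (M := Submonoid.powers x) (g := algebraMap R F)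
    fun y => IsUnit.mk0 _ (IsFractionRing.to_map_ne_zero_of_mem_nonZeroDivisors (hM y.2))).toAlgebra
  have : IsScalarTower R L F := IsScalarTower.of_algebraMap_eq fun r =>
    (IsLocalization.lift_eq (M := Submonoid.powers x) _ r).symm
  have : IsFractionRing L F :=
    IsFractionRing.isFractionRing_of_isDomain_of_isLocalization (Submonoid.powers x) L F
  rw [isIntegrallyClosed_iff F]
  intro y hy
  obtain ⟨l, rfl⟩ := IsIntegrallyClosed.algebraMap_eq_of_integral (R := L) (hy.tower_top)
  obtain ⟨⟨r, ⟨_, k, rfl⟩⟩, hr⟩ := IsLocalization.surj (Submonoid.powers x) l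
  simp only at hr
  have hrk : algebraMap L F l * algebraMap R F (x ^ k) = algebraMap R F r := by
    rw [IsScalarTower.algebraMap_apply R L F, IsScalarTower.algebraMap_apply R L F r, ← map_mul, hr]
  generalize algebraMap L F l = y at hy hrk
  clear hr l
  induction k generalizing r with
  | zero => exact ⟨r, by rw [← hrk, pow_zero, map_one, mul_one]⟩
  | succ k ih =>
    obtain ⟨p, hmonic, hp⟩ := hy
    have h1 : Polynomial.aeval (x ^ (k + 1) • y) (p.scaleRoots (x ^ (k + 1))) = 0 := by
      rw [Algebra.smul_def]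
      exact Polynomial.scaleRoots_aeval_eq_zero hp
    have h2 : (p.scaleRoots (x ^ (k + 1))).eval r = 0 := by
      apply IsFractionRing.injective R F
      rw [map_zero, ← h1, Algebra.smul_def, mul_comm, hrk,
        Polynomial.aeval_algebraMap_apply]
      simp
    have hmem : r ∈ Ideal.span {x} := by
      refine hred ⟨p.natDegree, ?_⟩
      have h3 : (p.scaleRoots (x ^ (k + 1))).eval r - r ^ p.natDegree ∈ Ideal.span {x} := by
        rw [Polynomial.eval_eq_sum_range, Polynomial.natDegree_scaleRoots, Finset.sum_range_succ]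
        simp only [Polynomial.coeff_scaleRoots, hmonic.coeff_natDegree, Nat.sub_self, pow_zero,
          one_mul, mul_one, add_sub_cancel_right]
        refine Ideal.sum_mem _ fun i hi => ?_
        have : x ∣ (x ^ (k + 1)) ^ (p.natDegree - i) := by
          rw [← pow_mul]
          refine dvd_pow_self x (Nat.mul_ne_zero (Nat.succ_ne_zero k) ?_)
          have := Finset.mem_range.1 hi
          omega
        exact Ideal.mem_span_singleton.2 ((this.mul_left _).mul_right _)
      rw [h2, zero_sub, neg_mem_iff] at h3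
      exact h3
    obtain ⟨r', rfl⟩ := Ideal.mem_span_singleton.1 hmem
    refine ih r' ?_
    have hxne : algebraMap R F x ≠ 0 := fun h => hx (IsFractionRing.injective R F (by rw [h, map_zero]))
    refine mul_left_cancel₀ hxne ?_
    rw [← map_mul (algebraMap R F) x r', ← hrk, pow_succ, map_mul]
    ring

end GrassLib
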