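import Groth.Agent.GrassLib.RegMod

/-!
Cohen–Macaulayness of the quotient by a regular element.
-/

universe u

open IsLocalRing

namespace GrassLib

open LocCoh

theorem isCohenMacaulayRing_quotient_span {R : Type u} [CommRing R] [IsCohenMacaulayRing R]
    (y : R) (hy : IsSMulRegular R y) : IsCohenMacaulayRing (R ⧸ Ideal.span {y}) := by
  refine { isCohenMacaulayLocalRing_localization := fun P hP => ?_ }
  set p := P.comap (Ideal.Quotient.mk (Ideal.span {y})) with hp
  have hyp : y ∈ p := by
    rw [hp, Ideal.mem_comap, (Ideal.Quotient.eq_zero_iff_mem (I := Ideal.span {y})).2 (Ideal.mem_span_singleton_self y)]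
    exact P.zero_mem
  have := IsCohenMacaulayRing.isCohenMacaulayLocalRing_localization (R := R) p
  let Rp := Localization.AtPrime p
  let y' : Rp := algebraMap R Rp y
  have hy'm : y' ∈ maximalIdeal Rp := by
    rw [← Localization.AtPrime.map_eq_maximalIdeal]; exact Ideal.mem_map_of_mem _ hyp
  have hy' : IsSMulRegular Rp y' := hy.of_flat
  have hmap : (Ideal.span {y}).map (algebraMap R Rp) = Ideal.span {y'} := by
    rw [Ideal.map_span, Set.image_singleton]
  let B := Rp ⧸ (Ideal.span {y}).map (algebraMap R Rp)
  have : Nontrivial B := Ideal.Quotient.nontrivial_iff.2 (by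
    rw [hmap]
    exact fun h => (maximalIdeal.isMaximal Rp).ne_top
      (top_le_iff.1 (h ▸ (Ideal.span_singleton_le_iff_mem _).2 hy'm)))
  have : IsLocalRing B := IsLocalRing.of_surjective' _ Ideal.Quotient.mk_surjective
  let e : QuotSMulTop y' Rp ≃ₗ[Rp] B := Submodule.quotEquivOfEq _ _ (by
    rw [hmap, ← Submodule.ideal_span_singleton_smul]; simp)
  have hBcm : IsCohenMacaulayLocalRing B := by
    have h := (Groth.Agent.Depth.isCohenMacaulayModule_quotSMulTop_iff (R := Rp) (M := Rp)
      hy'm hy').2 Groth.Agent.Depth.isCohenMacaulayModule_self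
    rw [IsCohenMacaulayModule, Module.supportDim_eq_of_equiv e,
      Groth.Agent.Depth.depth_congr e, Module.supportDim_quotient_eq_ringKrullDim,
      ← Groth.Agent.Depth.depth_eq_of_surjective (R := Rp) (S := B) (M := B)
        Ideal.Quotient.mk_surjective] at h
    exact Groth.Agent.Depth.isCohenMacaulayLocalRing_iff.2 h
  have hsub : Algebra.algebraMapSubmonoid (R ⧸ Ideal.span {y}) p.primeCompl = P.primeCompl := by
    ext z
    constructor
    · rintro ⟨x, hx, rfl⟩
      exact hx
    · intro hz
      obtain ⟨x, rfl⟩ := Ideal.Quotient.mk_surjective z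
      exact ⟨x, hz, rfl⟩
  have : IsLocalization.AtPrime B P := by
    rw [IsLocalization.AtPrime, ← hsub]
    infer_instance
  exact isCohenMacaulayLocalRing_of_ringEquiv
    (IsLocalization.algEquiv P.primeCompl B (Localization.AtPrime P)).toRingEquiv

theorem isCohenMacaulayRing_of_ringEquiv {A B : Type u} [CommRing A] [CommRing B]
    [IsCohenMacaulayRing A] (e : A ≃+* B) : IsCohenMacaulayRing B := by
  have : IsNoetherianRing B := isNoetherianRing_of_ringEquiv A e
  refine { isCohenMacaulayLocalRing_localization := fun p hp => ?_ }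
  have := IsCohenMacaulayRing.isCohenMacaulayLocalRing_localization (R := A) (p.comap (e : A →+* B))
  refine isCohenMacaulayLocalRing_of_ringEquiv
    (IsLocalization.ringEquivOfRingEquiv (M := (p.comap (e : A →+* B)).primeCompl) (T := p.primeCompl)
      (Localization.AtPrime (p.comap (e : A →+* B))) (Localization.AtPrime p) e ?_)
  ext z
  simp only [Submonoid.mem_map]
  constructor
  · rintro ⟨a, ha, rfl⟩
    exact ha
  · intro hz
    exact ⟨e.symm z, fun h => hz (by simpa using h), e.apply_symm_apply z⟩

end GrassLib
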