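import Groth.Agent.GrassLib.Schubert

/-!
Degrees under the Plücker comorphism.
-/

universe u

open MvPolynomial Matrix

namespace GrassLib

open W4bk4grassmannian

variable {d n : ℕ} {K : Type u} [Field K]

theorem triMap_X_isHomogeneous (τ θ : Idx d n) : (triMap K τ (X θ)).IsHomogeneous d := by
  rw [triMap, evalMat_X, Matrix.det_apply]
  refine IsHomogeneous.sum _ _ _ fun σ _ => ?_
  have hp : (∏ i, (triMat K τ).submatrix θ.1 id (σ i) i).IsHomogeneous d := by
    have := IsHomogeneous.prod Finset.univ (fun i => (triMat K τ).submatrix θ.1 id (σ i) i)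
      (fun _ : Fin d => 1) fun i _ => by
        simp only [Matrix.submatrix_apply, id_eq, triMat, Matrix.of_apply]
        split_ifs
        · exact isHomogeneous_X _ _
        · exact isHomogeneous_zero _ _ _
    simpa using this
  rcases Int.units_eq_one_or (Equiv.Perm.sign σ) with h | h <;> rw [h]
  · simpa using hp
  · simpa using hp.neg

theorem triMap_isHomogeneous (τ : Idx d n) {P : PlRing K d n} {k : ℕ} (hP : P.IsHomogeneous k) :
    (triMap K τ P).IsHomogeneous (d * k) :=
  hP.aeval _ (fun θ => by simpa [triMap, evalMat] using triMap_X_isHomogeneous τ θ)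

theorem triMap_homogeneousComponent (hd : 0 < d) (τ : Idx d n) (P : PlRing K d n) (k : ℕ) :
    homogeneousComponent (d * k) (triMap K τ P) = triMap K τ (homogeneousComponent k P) := by
  conv_lhs => rw [← sum_homogeneousComponent P, map_sum, map_sum]
  by_cases hk : k ∈ Finset.range (P.totalDegree + 1)
  · rw [Finset.sum_eq_single_of_mem k hk]
    · exact homogeneousComponent_eq_self
        (triMap_isHomogeneous τ (homogeneousComponent_isHomogeneous k P))
    · intro j _ hj
      rw [homogeneousComponent_of_mem (triMap_isHomogeneous τ (homogeneousComponent_isHomogeneous j P)),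
        if_neg]
      exact fun h => hj (Nat.eq_of_mul_eq_mul_left hd h).symm
  · rw [homogeneousComponent_eq_zero (φ := P) (n := k) (by simp only [Finset.mem_range] at hk; omega), map_zero]
    refine Finset.sum_eq_zero fun j hj => ?_
    rw [homogeneousComponent_of_mem (triMap_isHomogeneous τ (homogeneousComponent_isHomogeneous j P)),
      if_neg]
    exact fun h => hk ((Nat.eq_of_mul_eq_mul_left hd h) ▸ hj)

theorem triMap_eq_C_of_totalDegree_lt (hd : 0 < d) (τ : Idx d n) (P : PlRing K d n)
    (h : (triMap K τ P).totalDegree < d) : triMap K τ P = C (P.coeff 0) := by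
  have h0 := triMap_homogeneousComponent hd τ P 0
  rw [mul_zero, homogeneousComponent_zero, homogeneousComponent_zero, ← MvPolynomial.algebraMap_eq,
    ← MvPolynomial.algebraMap_eq, AlgHom.commutes] at h0
  conv_lhs => rw [← sum_homogeneousComponent (triMap K τ P)]
  rw [Finset.sum_eq_single_of_mem 0 (by simp)]
  · rw [homogeneousComponent_zero]
    exact h0
  · intro j hj hj0
    have hjle : j ≤ (triMap K τ P).totalDegree := Nat.lt_succ_iff.1 (Finset.mem_range.1 hj)
    conv_lhs => rw [← sum_homogeneousComponent P, map_sum, map_sum]
    refine Finset.sum_eq_zero fun i _ => ?_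
    rw [homogeneousComponent_of_mem (triMap_isHomogeneous τ (homogeneousComponent_isHomogeneous i P)),
      if_neg]
    rintro rfl
    have : 1 ≤ i := Nat.pos_of_ne_zero fun h => hj0 (by simp [h])
    have := Nat.le_mul_of_pos_right d this
    omega

end GrassLib
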