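import Groth.Agent.GrassLib.Chart
import Groth.Agent.GrassLib.Grading

/-!
Normality and factoriality of Schubert cones.
-/

universe u

open MvPolynomial

namespace GrassLib

open W4bk4grassmannian

variable {d n : ℕ} {K : Type u} [Field K] [Infinite K]

theorem constantCoeff_mem_of_mem (hd : 0 < d) {w : Idx d n} {P : PlRing K d n}
    (hP : P ∈ schubertVanishing K d n w) : constantCoeff P = 0 := by
  have : Nonempty (Fin d) := ⟨⟨0, hd⟩⟩
  have h := (mem_schubertVanishing_iff w P).1 hP 0 fun φ _ => by simp
  have hev : evalMinors K d n 0 = (aeval fun _ : Idx d n => (0 : K) : PlRing K d n →ₐ[K] K) := by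
    refine MvPolynomial.algHom_ext fun θ => ?_
    simp [evalMinors]
  rw [hev] at h
  simpa [constantCoeff] using h

theorem sup_span_X_isPrime_of_minimal (hd : 0 < d) {w : Idx d n} (hw : ¬ ∃ φ : Idx d n, φ < w) :
    (schubertVanishing K d n w ⊔ Ideal.span {X w}).IsPrime := by
  have h : schubertVanishing K d n w ⊔ Ideal.span {X w} =
      RingHom.ker (constantCoeff : PlRing K d n →+* K) := by
    refine le_antisymm (sup_le (fun P hP => RingHom.mem_ker.2 (constantCoeff_mem_of_mem hd hP))
      ((Ideal.span_singleton_le_iff_mem _).2 (by simp))) fun P hP => ?_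
    rw [RingHom.mem_ker, constantCoeff_eq] at hP
    rw [MvPolynomial.as_sum P]
    refine Ideal.sum_mem _ fun e he => ?_
    have he0 : e ≠ 0 := by
      rintro rfl
      exact (MvPolynomial.mem_support_iff.1 he) hP
    obtain ⟨θ, hθ⟩ := Finsupp.support_nonempty_iff.2 he0
    rw [MvPolynomial.monomial_eq]
    refine Ideal.mul_mem_left _ _ (Ideal.prod_mem _ hθ
      (Ideal.pow_mem_of_mem _ ?_ _ (Nat.pos_of_ne_zero (Finsupp.mem_support_iff.1 hθ))))
    by_cases hθw : θ = w
    · subst hθw
      exact Ideal.mem_sup_right (Ideal.subset_span (Set.mem_singleton _))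
    · exact Ideal.mem_sup_left (X_mem_schubertVanishing fun hle => hw ⟨θ, lt_of_le_of_ne hle hθw⟩)
  rw [h]
  exact RingHom.ker_isPrime _

theorem sup_span_X_isRadical (hd : 0 < d) (w : Idx d n) :
    (schubertVanishing K d n w ⊔ Ideal.span {X w}).IsRadical := by
  by_cases hex : ∃ φ : Idx d n, φ < w
  · rw [sup_span_X_eq_iInf hd w hex]
    rintro P ⟨k, hk⟩
    simp only [Ideal.mem_iInf] at hk ⊢
    exact fun φ hφ => (schubertVanishing_isPrime hd φ).mem_of_pow_mem k (hk φ hφ)
  · exact (sup_span_X_isPrime_of_minimal hd hex).isRadical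

theorem comap_span_mk (I : Ideal (PlRing K d n)) (P : PlRing K d n) :
    (Ideal.span {Ideal.Quotient.mk I P}).comap (Ideal.Quotient.mk I) = I ⊔ Ideal.span {P} := by
  rw [← Set.image_singleton, ← Ideal.map_span,
    Ideal.comap_map_of_surjective' _ Ideal.Quotient.mk_surjective, Ideal.mk_ker, sup_comm]

theorem isIntegrallyClosed_schubert (hd : 0 < d) (τ : Idx d n) :
    IsDomain (PlRing K d n ⧸ schubertVanishing K d n τ) ∧
      IsIntegrallyClosed (PlRing K d n ⧸ schubertVanishing K d n τ) := by
  have := schubertVanishing_isPrime (K := K) hd τ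
  refine ⟨inferInstance, ?_⟩
  obtain ⟨L, _, _, hloc, hdom, hufd⟩ := exists_chart (K := K) hd τ
  refine isIntegrallyClosed_of_away (Ideal.Quotient.mk (schubertVanishing K d n τ) (X τ)) ?_ ?_ L
  · rw [Ne, Ideal.Quotient.eq_zero_iff_mem, X_mem_schubertVanishing_iff hd]
    exact fun h => h le_rfl
  · rintro r ⟨k, hk⟩
    obtain ⟨P, rfl⟩ := Ideal.Quotient.mk_surjective r
    rw [← Ideal.mem_comap, comap_span_mk]
    refine sup_span_X_isRadical hd τ ⟨k, ?_⟩
    rw [← comap_span_mk, Ideal.mem_comap, map_pow]
    exact hk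

theorem prime_mk_X_iff (hd : 0 < d) (τ : Idx d n) :
    Prime (Ideal.Quotient.mk (schubertVanishing K d n τ) (X τ)) ↔
      (schubertVanishing K d n τ ⊔ Ideal.span {X τ}).IsPrime := by
  have := schubertVanishing_isPrime (K := K) hd τ
  have hne : Ideal.Quotient.mk (schubertVanishing K d n τ) (X τ) ≠ 0 := by
    rw [Ne, Ideal.Quotient.eq_zero_iff_mem, X_mem_schubertVanishing_iff hd]
    exact fun h => h le_rfl
  rw [← Ideal.span_singleton_prime hne, ← comap_span_mk]
  refine ⟨fun h => Ideal.comap_isPrime _ _, fun h => ?_⟩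
  rw [← Ideal.map_comap_of_surjective (Ideal.Quotient.mk (schubertVanishing K d n τ))
    Ideal.Quotient.mk_surjective (Ideal.span {Ideal.Quotient.mk (schubertVanishing K d n τ) (X τ)})]
  refine Ideal.map_isPrime_of_surjective Ideal.Quotient.mk_surjective ?_
  rw [Ideal.mk_ker, comap_span_mk]
  exact le_sup_left

theorem prime_mk_X_iff_subsingleton (hd : 0 < d) (τ : Idx d n) :
    Prime (Ideal.Quotient.mk (schubertVanishing K d n τ) (X τ)) ↔ (divisors τ).Subsingleton := by
  classical
  rw [prime_mk_X_iff hd]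
  by_cases hex : ∃ φ : Idx d n, φ < τ
  · obtain ⟨φ₀, hφ₀⟩ := hex
    obtain ⟨φ, hφ, -⟩ := exists_divisor_ge hφ₀
    rw [sup_span_X_eq_iInf hd τ ⟨φ₀, hφ₀⟩]
    refine ⟨fun h => ?_, fun h => ?_⟩
    · have hfin : (⨅ ψ ∈ divisors τ, schubertVanishing K d n ψ) =
          (Set.toFinset (divisors τ)).inf (schubertVanishing K d n) := by
        rw [Finset.inf_eq_iInf]; simp
      rw [hfin] at h
      obtain ⟨χ, hχ, hχle⟩ := h.inf_le'.1 le_rfl
      intro a ha b hb
      have key : ∀ a ∈ divisors τ, a = χ := by
        intro a ha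
        have hle : a ≤ χ := by
          by_contra hnle
          refine (X_mem_schubertVanishing_iff (K := K) hd).1 ?_ (le_refl a)
          exact Finset.inf_le (f := schubertVanishing K d n) (Set.mem_toFinset.2 ha)
            (hχle (X_mem_schubertVanishing hnle))
        by_contra hne
        have := wt_lt_of_lt (lt_of_le_of_ne hle hne)
        have := (mem_divisors_iff.1 ha).2
        have := (mem_divisors_iff.1 (Set.mem_toFinset.1 hχ)).2
        omega
      rw [key a ha, key b hb]
    · have hset : divisors τ = {φ} := Set.eq_singleton_iff_unique_mem.2 ⟨hφ, fun x hx => h hx hφ⟩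
      rw [hset, iInf_singleton]
      exact schubertVanishing_isPrime hd φ
  · refine iff_of_true (sup_span_X_isPrime_of_minimal hd hex) fun a ha => ?_
    exact absurd ⟨a, ha.1⟩ hex

theorem irreducible_mk_X (hd : 0 < d) (τ : Idx d n) :
    Irreducible (Ideal.Quotient.mk (schubertVanishing K d n τ) (X τ)) := by
  set J := schubertVanishing K d n τ with hJ
  have hunit : ∀ P : PlRing K d n, triMap K τ P ≠ 0 → (triMap K τ P).totalDegree < d →
      IsUnit (Ideal.Quotient.mk J P) := by
    intro P hne hlt
    have hC := triMap_eq_C_of_totalDegree_lt hd τ P hlt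
    have hc : P.coeff 0 ≠ 0 := by
      intro h0
      rw [h0, map_zero] at hC
      exact hne hC
    have heq : Ideal.Quotient.mk J P = Ideal.Quotient.mk J (C (P.coeff 0)) := by
      rw [Ideal.Quotient.eq, hJ, schubertVanishing_eq_ker hd, RingHom.mem_ker, map_sub, hC,
        ← MvPolynomial.algebraMap_eq, ← MvPolynomial.algebraMap_eq, AlgHom.commutes, sub_self]
    rw [heq]
    exact ((isUnit_iff_ne_zero.2 hc).map C).map _
  have hXne : triMap K τ (X τ) ≠ 0 := triMap_X_ne_zero le_rfl
  refine ⟨fun hu => ?_, fun a b hab => ?_⟩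
  · obtain ⟨u, hu⟩ := hu.exists_right_inv
    obtain ⟨Q, rfl⟩ := Ideal.Quotient.mk_surjective u
    rw [← map_mul, ← map_one (Ideal.Quotient.mk J), Ideal.Quotient.eq] at hu
    have := constantCoeff_mem_of_mem hd hu
    simp at this
  · obtain ⟨P, rfl⟩ := Ideal.Quotient.mk_surjective a
    obtain ⟨Q, rfl⟩ := Ideal.Quotient.mk_surjective b
    rw [← map_mul, Ideal.Quotient.eq, hJ, schubertVanishing_eq_ker hd, RingHom.mem_ker, map_sub,
      map_mul, sub_eq_zero] at hab
    have hP : triMap K τ P ≠ 0 := fun h => hXne (by rw [hab, h, zero_mul])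
    have hQ : triMap K τ Q ≠ 0 := fun h => hXne (by rw [hab, h, mul_zero])
    have hdeg : (triMap K τ P).totalDegree + (triMap K τ Q).totalDegree = d := by
      rw [← totalDegree_mul_of_isDomain hP hQ, ← hab]
      exact (triMap_X_isHomogeneous τ τ).totalDegree hXne
    by_cases h : (triMap K τ P).totalDegree < d
    · exact Or.inl (hunit P hP h)
    · exact Or.inr (hunit Q hQ (by omega))

theorem ufd_iff_prime (hd : 0 < d) (τ : Idx d n) :
    UniqueFactorizationMonoid (PlRing K d n ⧸ schubertVanishing K d n τ) ↔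
      Prime (Ideal.Quotient.mk (schubertVanishing K d n τ) (X τ)) := by
  have := schubertVanishing_isPrime (K := K) hd τ
  refine ⟨fun h => UniqueFactorizationMonoid.irreducible_iff_prime.1 (irreducible_mk_X hd τ),
    fun h => ?_⟩
  obtain ⟨L, _, _, hloc, hdom, hufd⟩ := exists_chart (K := K) hd τ
  exact ufd_of_away _ h L

omit [Infinite K] in
theorem subsingleton_divisors_iff (τ : Idx d n) :
    (divisors τ).Subsingleton ↔
      ∃ s : ℕ, (∀ t : Fin d, t.val < s → (τ.1 t).val = t.val) ∧
        ∀ t t' : Fin d, s ≤ t.val → t.val + 1 = t'.val → (τ.1 t).val + 1 = (τ.1 t').val := by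
  classical
  constructor
  · intro h
    by_cases hall : ∀ t : Fin d, (τ.1 t).val = t.val
    · exact ⟨d, fun t _ => hall t, fun t t' hs _ => absurd t.isLt (by omega)⟩
    push Not at hall
    obtain ⟨s₀, hs₀mem, hs₀min⟩ := (Finset.univ.filter fun t : Fin d => (τ.1 t).val ≠ t.val)
      |>.exists_min_image id (by obtain ⟨t, ht⟩ := hall; exact ⟨t, by simp [ht]⟩)
    have hs₀ : (τ.1 s₀).val ≠ s₀.val := (Finset.mem_filter.1 hs₀mem).2
    have hlow : ∀ t : Fin d, t < s₀ → (τ.1 t).val = t.val := fun t ht => by
      by_contra hne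
      exact absurd (hs₀min t (Finset.mem_filter.2 ⟨Finset.mem_univ _, hne⟩)) (not_le_of_gt ht)
    refine ⟨s₀.val, fun t ht => hlow t ht, fun t t' hst htt' => ?_⟩
    by_contra hgap
    have htlt : t < t' := Fin.lt_def.2 (by omega)
    have hmono := Fin.lt_def.1 (τ.2 htlt)
    -- decrementing an entry
    have dec : ∀ s : Fin d, 0 < (τ.1 s).val →
        (∀ u : Fin d, u.val + 1 = s.val → (τ.1 u).val + 1 < (τ.1 s).val) →
        ∃ φ ∈ divisors τ, (φ.1 s).val + 1 = (τ.1 s).val := by
      intro s hpos hprev
      set x : Fin n := ⟨(τ.1 s).val - 1, by have := (τ.1 s).isLt; omega⟩ with hx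
      have hsm : StrictMono (Function.update τ.1 s x) := by
        intro a b hab
        simp only [Function.update_apply]
        split_ifs with ha hb hb
        · exact absurd (ha.trans hb.symm) hab.ne
        · subst ha
          have := Fin.lt_def.1 (τ.2 hab)
          rw [Fin.lt_def]
          simp only [hx]
          omega
        · subst hb
          rw [Fin.lt_def] at hab ⊢
          simp only [hx]
          rcases Nat.lt_or_ge (a.val + 1) b.val with h1 | h1
          · have := Fin.lt_def.1 (τ.2 (show a < (⟨b.val - 1, by omega⟩ : Fin d) from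
              Fin.lt_def.2 (by simp only; omega)))
            have := hprev ⟨b.val - 1, by omega⟩ (by simp only; omega)
            omega
          · have := hprev a (by omega)
            omega
        · exact τ.2 hab
      have hle : (⟨_, hsm⟩ : Idx d n) ≤ τ := fun a => by
        show Function.update τ.1 s x a ≤ τ.1 a
        simp only [Function.update_apply]
        split_ifs with ha
        · subst ha; rw [Fin.le_def]; simp only [hx]; omega
        · exact le_rfl
      refine ⟨⟨_, hsm⟩, mem_divisors_iff.2 ⟨lt_of_le_of_ne hle fun he => ?_, ?_⟩, ?_⟩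
      · have := congrFun (congrArg Subtype.val he) s
        simp only [Function.update_self, hx, Fin.ext_iff] at this
        omega
      · simp only [wt]
        rw [← Finset.add_sum_erase _ _ (Finset.mem_univ s),
          ← Finset.add_sum_erase (f := fun a => (τ.1 a).val) _ (Finset.mem_univ s)]
        simp only [Function.update_self]
        rw [Finset.sum_congr rfl fun a ha => by rw [Function.update_of_ne (Finset.ne_of_mem_erase ha)]]
        simp only [hx]
        omega
      · simp only [Function.update_self, hx]; omega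
    obtain ⟨φ₁, hφ₁, h₁⟩ := dec t' (by omega) fun u hu => by
      obtain rfl : u = t := Fin.ext (by omega)
      omega
    have hs₀pos : s₀.val < (τ.1 s₀).val := lt_of_le_of_ne (val_le_idx τ s₀) hs₀.symm
    obtain ⟨φ₂, hφ₂, h₂⟩ := dec s₀ (by omega) fun u hu => by
      rw [hlow u (Fin.lt_def.2 (by omega))]
      omega
    obtain rfl := h hφ₁ hφ₂
    have h12 := (mem_divisors_iff.1 hφ₁).2
    have hle := hφ₁.1.le
    have hne : t' ≠ s₀ := fun h => by rw [h] at htt'; omega
    have : ∑ a, (φ₁.1 a).val + 2 ≤ ∑ a, (τ.1 a).val := by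
      rw [← Finset.add_sum_erase _ _ (Finset.mem_univ t'),
        ← Finset.add_sum_erase (Finset.univ.erase t') _ (Finset.mem_erase.2 ⟨hne.symm, Finset.mem_univ s₀⟩),
        ← Finset.add_sum_erase (f := fun a => (τ.1 a).val) _ (Finset.mem_univ t'),
        ← Finset.add_sum_erase (f := fun a => (τ.1 a).val) (Finset.univ.erase t')
          (Finset.mem_erase.2 ⟨hne.symm, Finset.mem_univ s₀⟩)]
      have hrest : ∑ a ∈ (Finset.univ.erase t').erase s₀, (φ₁.1 a).val ≤
          ∑ a ∈ (Finset.univ.erase t').erase s₀, (τ.1 a).val :=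
        Finset.sum_le_sum fun a _ => hle a
      omega
    simp only [wt] at h12
    omega
  · rintro ⟨s, hlow, hrun⟩ φ hφ ψ hψ
    have key : ∀ φ ∈ divisors τ, ∃ u : Fin d, u.val = s ∧ (φ.1 u).val + 1 = (τ.1 u).val ∧
        ∀ a, a ≠ u → φ.1 a = τ.1 a := by
      intro φ hφ
      obtain ⟨φ', u, hle, hlt, hw, hu, hrest⟩ := exists_pred hφ.1
      obtain rfl : φ = φ' := by
        by_contra hne
        have := wt_lt_of_lt (lt_of_le_of_ne hle hne)
        have := (mem_divisors_iff.1 hφ).2
        omega
      refine ⟨u, ?_, hu, hrest⟩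
      by_contra hne
      rcases Nat.lt_or_ge u.val s with h1 | h1
      · have := hlow u h1
        have := val_le_idx φ u
        omega
      · have hp : u.val - 1 < d := by omega
        have := hrun ⟨u.val - 1, hp⟩ u (by simp only; omega) (by simp only; omega)
        have h2 := Fin.lt_def.1 (φ.2 (show (⟨u.val - 1, hp⟩ : Fin d) < u from
          Fin.lt_def.2 (by simp only; omega)))
        rw [hrest ⟨u.val - 1, hp⟩ (fun h => by
          have := congrArg Fin.val h; simp only at this; omega)] at h2
        omega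
    obtain ⟨u, hu, hu1, hu2⟩ := key φ hφ
    obtain ⟨v, hv, hv1, hv2⟩ := key ψ hψ
    obtain rfl : u = v := Fin.ext (by omega)
    refine Subtype.ext (funext fun a => ?_)
    by_cases ha : a = u
    · subst ha; exact Fin.ext (by omega)
    · rw [hu2 a ha, hv2 a ha]

end GrassLib
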