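import Groth.Agent.GrassLib.SMT
import Groth.Agent.GrassLib.Factorial

/-!
Standard monomials on Richardson varieties and primality of the least Plücker coordinate.
-/

universe u v

open MvPolynomial Matrix

namespace GrassLib

open W4bk4grassmannian

variable {d n : ℕ}

theorem det_submatrix_eq_zero_of_support' {R : Type v} [CommRing R] (B : Matrix (Fin n) (Fin d) R)
    (v : Idx d n) (hB : ∀ i t, i < v.1 t → B i t = 0) (θ : Idx d n) (h : ¬ v ≤ θ) :
    (B.submatrix θ.1 id).det = 0 := by
  obtain ⟨t₀, ht₀⟩ : ∃ t₀, θ.1 t₀ < v.1 t₀ := by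
    by_contra hcon
    push Not at hcon
    exact h fun t => hcon t
  rw [Matrix.det_apply]
  refine Finset.sum_eq_zero fun σ _ => smul_eq_zero_of_right _ ?_
  obtain ⟨c, hc, hc'⟩ : ∃ c, t₀ ≤ c ∧ σ c ≤ t₀ := by
    by_contra hcon
    push Not at hcon
    have := Finset.card_le_card_of_injOn σ
      (s := Finset.Ici t₀) (t := Finset.Ioi t₀)
      (fun x hx => by simpa using hcon x (by simpa using hx)) σ.injective.injOn
    simp only [Fin.card_Ici, Fin.card_Ioi] at this
    omega
  refine Finset.prod_eq_zero (Finset.mem_univ c) ?_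
  simp only [Matrix.submatrix_apply, id_eq]
  exact hB _ _ (lt_of_le_of_lt (θ.2.monotone hc') (lt_of_lt_of_le ht₀ (v.2.monotone hc)))

variable {K : Type u} [Field K]

/-- The generic matrix supported between `v` and `w`. -/
noncomputable def bandMat (K : Type u) [CommRing K] {d n : ℕ} (v w : Idx d n) :
    Matrix (Fin n) (Fin d) (MatRing K d n) :=
  Matrix.of fun i t => if v.1 t ≤ i ∧ i ≤ w.1 t then X (i, t) else 0

/-- The comorphism of the band matrix. -/
noncomputable def bandMap (K : Type u) [CommRing K] {d n : ℕ} (v w : Idx d n) :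
    PlRing K d n →ₐ[K] MatRing K d n :=
  evalMat (bandMat K v w)

theorem bandMat_specialise (v : Idx d n) {w' w : Idx d n} (h : w' ≤ w) :
    (bandMat K v w).map (aeval fun p => if p.1 ≤ w'.1 p.2 then X p else 0) = bandMat K v w' := by
  ext i t : 2
  simp only [Matrix.map_apply, bandMat, Matrix.of_apply]
  by_cases hit : v.1 t ≤ i ∧ i ≤ w.1 t
  · rw [if_pos hit, aeval_X]
    simp [hit.1]
  · rw [if_neg hit, map_zero, if_neg fun h' => hit ⟨h'.1, h'.2.trans (h t)⟩]

theorem bandMap_X_eq_zero (v w θ : Idx d n) (h : ¬ θ ≤ w ∨ ¬ v ≤ θ) : bandMap K v w (X θ) = 0 := by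
  rw [bandMap, evalMat_X]
  rcases h with h | h
  · exact det_submatrix_eq_zero_of_support _ w
      (fun i t hit => by simp [bandMat, not_le.2 hit]) θ h
  · exact det_submatrix_eq_zero_of_support' _ v
      (fun i t hit => by simp [bandMat, not_le.2 hit]) θ h

theorem bandMap_X_ne_zero {v w θ : Idx d n} (h₁ : v ≤ θ) (h₂ : θ ≤ w) :
    bandMap K v w (X θ) ≠ 0 := by
  intro h0
  have h1 := congrArg (aeval fun p : Fin n × Fin d => if p.1 = θ.1 p.2 then (1 : K) else 0) h0
  rw [map_zero, bandMap, comp_evalMat, evalMat_X] at h1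
  refine one_ne_zero (α := K) ?_
  rw [← h1]
  refine (Matrix.det_one (n := Fin d)).symm.trans (congrArg Matrix.det ?_)
  ext s t
  simp only [Matrix.submatrix_apply, Matrix.map_apply, bandMat, Matrix.of_apply, id_eq,
    Matrix.one_apply]
  by_cases hst : s = t
  · subst hst
    simp [h₁ s, h₂ s]
  · have : θ.1 s ≠ θ.1 t := θ.2.injective.ne hst
    split_ifs <;> simp [this]

theorem bandMap_mon_indep (hd : 0 < d) (v w : Idx d n) (S : Finset (Multiset (Idx d n)))
    (c : Multiset (Idx d n) → K) (hS : ∀ s ∈ S, IsStd s ∧ ∀ θ ∈ s, v ≤ θ ∧ θ ≤ w)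
    (h : bandMap K v w (∑ s ∈ S, c s • mon K s) = 0) : ∀ s ∈ S, c s = 0 := by
  classical
  induction w using WellFoundedLT.induction generalizing S c with
  | _ w ih =>
    suffices H : ∀ N, ∀ (S : Finset (Multiset (Idx d n))) (c : Multiset (Idx d n) → K),
        (∀ s ∈ S, (IsStd s ∧ ∀ θ ∈ s, v ≤ θ ∧ θ ≤ w) ∧ s.card < N) →
        bandMap K v w (∑ s ∈ S, c s • mon K s) = 0 → ∀ s ∈ S, c s = 0 from
      H (S.sup Multiset.card + 1) S c
        (fun s hs => ⟨hS s hs, Nat.lt_succ_of_le (Finset.le_sup hs)⟩) h
    intro N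
    induction N with
    | zero => intro S c hS _ s hs; exact absurd (hS s hs).2 (Nat.not_lt_zero _)
    | succ N ihN =>
      intro S c hS h
      have hsmall : ∀ w' < w, ∀ s ∈ S, (∀ θ ∈ s, θ ≤ w') → c s = 0 := by
        intro w' hw' s hs hsw'
        have hρ : ∀ P, aeval (fun p => if p.1 ≤ w'.1 p.2 then (X p : MatRing K d n) else 0)
            (bandMap K v w P) = bandMap K v w' P := fun P => by
          rw [bandMap, comp_evalMat, bandMat_specialise v hw'.le]
          rfl
        refine ih w' hw' (S.filter fun s => ∀ θ ∈ s, θ ≤ w') c ?_ ?_ s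
          (Finset.mem_filter.2 ⟨hs, hsw'⟩)
        · intro s hs
          exact ⟨(hS s (Finset.mem_filter.1 hs).1).1.1, fun θ hθ =>
            ⟨((hS s (Finset.mem_filter.1 hs).1).1.2 θ hθ).1, (Finset.mem_filter.1 hs).2 θ hθ⟩⟩
        · have h' := congrArg (aeval fun p => if p.1 ≤ w'.1 p.2 then (X p : MatRing K d n) else 0) h
          rw [hρ, map_zero, map_sum] at h'
          rw [map_sum, Finset.sum_filter]
          refine Eq.trans (Finset.sum_congr rfl fun s _ => ?_) h'
          split_ifs with hle
          · rfl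
          · push Not at hle
            obtain ⟨θ, hθ, hθ'⟩ := hle
            obtain ⟨s', rfl⟩ := Multiset.exists_cons_of_mem hθ
            rw [map_smul, mon_cons, map_mul, bandMap_X_eq_zero v w' θ (Or.inl hθ'), zero_mul,
              smul_zero]
      have hzero : ∀ s ∈ S, s = 0 → c s = 0 := by
        intro s hs hs0
        have h' := congrArg (constantCoeff (R := K) (σ := Fin n × Fin d)) h
        rw [map_zero, map_sum, map_sum, Finset.sum_eq_single s] at h'
        · subst hs0
          simpa [constantCoeff_smul, smul_eq_mul] using h'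
        · intro b _ hb
          obtain ⟨θ, hθ⟩ := Multiset.exists_mem_of_ne_zero (hs0 ▸ hb)
          obtain ⟨b', rfl⟩ := Multiset.exists_cons_of_mem hθ
          have h0 : constantCoeff (bandMap K v w (X θ)) = 0 := by
            rw [bandMap, evalMat_X, RingHom.map_det]
            refine Matrix.det_eq_zero_of_row_eq_zero ⟨0, hd⟩ fun j => ?_
            simp only [RingHom.mapMatrix_apply, Matrix.map_apply, Matrix.submatrix_apply, bandMat,
              Matrix.of_apply, id_eq]
            split_ifs <;> simp
          rw [map_smul, constantCoeff_smul, mon_cons, map_mul, map_mul, h0, zero_mul, smul_zero]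
        · exact fun hn => absurd hs hn
      intro s hs
      by_contra hcs
      have htop : ∀ s ∈ S, c s ≠ 0 → w ∈ s := by
        intro s hs hcs
        obtain ⟨m, hm, hmax⟩ := (hS s hs).1.1.exists_max fun h0 => hcs (hzero s hs h0)
        rcases eq_or_lt_of_le ((hS s hs).1.2 m hm).2 with h | h
        · exact h ▸ hm
        · exact absurd (hsmall m h s hs hmax) hcs
      have hvw : v ≤ w := ((hS s hs).1.2 w (htop s hs hcs)).1
      set S' := (S.filter fun s => c s ≠ 0).image fun s => s.erase w with hS'
      have hinj : ∀ a ∈ S.filter (fun s => c s ≠ 0), ∀ b ∈ S.filter (fun s => c s ≠ 0),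
          a.erase w = b.erase w → a = b := by
        intro a ha b hb hab
        rw [Finset.mem_filter] at ha hb
        rw [← Multiset.cons_erase (htop a ha.1 ha.2), ← Multiset.cons_erase (htop b hb.1 hb.2), hab]
      have hsum : ∑ s ∈ S, c s • mon K s = X w * ∑ t ∈ S', c (w ::ₘ t) • mon K t := by
        rw [hS', Finset.sum_image hinj, Finset.mul_sum, Finset.sum_filter]
        refine Finset.sum_congr rfl fun s hs => ?_
        split_ifs with hcs
        · rw [Multiset.cons_erase (htop s hs hcs), mul_smul_comm, ← mon_cons,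
            Multiset.cons_erase (htop s hs hcs)]
        · rw [not_not.1 hcs, zero_smul]
      rw [hsum, map_mul] at h
      have h' := (mul_eq_zero.1 h).resolve_left (bandMap_X_ne_zero hvw le_rfl)
      have hfil : s ∈ S.filter (fun s => c s ≠ 0) := Finset.mem_filter.2 ⟨hs, hcs⟩
      have h0 := ihN S' (fun t => c (w ::ₘ t)) ?_ h' (s.erase w) (Finset.mem_image_of_mem _ hfil)
      · simp only [Multiset.cons_erase (htop s hs hcs)] at h0
        exact hcs h0
      · intro t ht
        obtain ⟨s, hs, rfl⟩ := Finset.mem_image.1 ht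
        rw [Finset.mem_filter] at hs
        refine ⟨⟨(hS s hs.1).1.1.mono (Multiset.erase_le _ _),
          fun θ hθ => (hS s hs.1).1.2 θ (Multiset.mem_of_mem_erase hθ)⟩, ?_⟩
        have := (hS s hs.1).2
        have := Multiset.card_erase_add_one (htop s hs.1 hs.2)
        omega

variable [Infinite K]

theorem isPrime_sup_span_least (hd : 0 < d) (hdn : d < n) (w ι : Idx d n)
    (hι : ∀ t, (ι.1 t).val = t.val) :
    (schubertVanishing K d n w ⊔ Ideal.span {X ι}).IsPrime := by
  classical
  have hι' : ∀ θ : Idx d n, ι ≤ θ := fun θ t => by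
    rw [Fin.le_def, hι]; exact val_le_idx θ t
  by_cases hw : w = ι
  · subst hw
    exact sup_span_X_isPrime_of_minimal hd fun ⟨φ, hφ⟩ => hφ.not_ge (hι' φ)
  -- the unique cover of the least index
  let v : Idx d n := ⟨fun t => if t.val + 1 = d then ⟨d, hdn⟩ else ⟨t.val, by omega⟩,
    fun a b hab => by
      have := Fin.lt_def.1 hab
      simp only
      split_ifs <;> simp only [Fin.mk_lt_mk] <;> omega⟩
  have hv : ∀ θ : Idx d n, θ ≠ ι → v ≤ θ := by
    intro θ hθ t
    rw [Fin.le_def]
    simp only [v]
    split_ifs with ht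
    · simp only
      by_contra hlt
      refine hθ (Subtype.ext (funext fun s => Fin.ext ?_))
      rw [hι]
      have key : ∀ k, ∀ hk : s.val + k < d,
          (θ.1 s).val + k ≤ (θ.1 ⟨s.val + k, hk⟩).val := by
        intro k
        induction k with
        | zero => intro hk; exact le_rfl
        | succ k ih =>
          intro hk
          have h1 := ih (by omega)
          have h2 := Fin.lt_def.1 (θ.2 (show (⟨s.val + k, by omega⟩ : Fin d) < ⟨s.val + (k + 1), hk⟩ from
            Fin.lt_def.2 (by simp only; omega)))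
          omega
      have h2 := key (t.val - s.val) (by omega)
      have h3 : (⟨s.val + (t.val - s.val), by omega⟩ : Fin d) = t := Fin.ext (by simp only; omega)
      rw [h3] at h2
      have := val_le_idx θ s
      omega
    · exact val_le_idx θ t
  have hιv : ¬ v ≤ ι := fun h => by
    have := Fin.le_def.1 (h ⟨d - 1, by omega⟩)
    rw [hι] at this
    simp only [v, show d - 1 + 1 = d by omega, if_true] at this
    omega
  have hle : schubertVanishing K d n w ⊔ Ideal.span {X ι} = RingHom.ker (bandMap K v w) := by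
    refine le_antisymm (sup_le (fun P hP => ?_) ((Ideal.span_singleton_le_iff_mem _).2
      (bandMap_X_eq_zero v w ι (Or.inr hιv)))) fun P hP => ?_
    · rw [schubertVanishing_eq_ker hd, RingHom.mem_ker] at hP
      have hmap : (triMat K w).map (aeval fun p => if v.1 p.2 ≤ p.1 then (X p : MatRing K d n) else 0) =
          bandMat K v w := by
        ext i t : 2
        simp only [Matrix.map_apply, triMat, bandMat, Matrix.of_apply]
        by_cases hit : i ≤ w.1 t
        · rw [if_pos hit, aeval_X]; simp [hit]
        · rw [if_neg hit, map_zero, if_neg fun h => hit h.2]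
      rw [RingHom.mem_ker, bandMap, ← hmap, ← comp_evalMat]
      change (aeval _) (triMap K w P) = 0
      rw [hP, map_zero]
    · obtain ⟨y, hy, z, hz, rfl⟩ := Submodule.mem_sup.1 (mem_stdSpan_sup (plIdealTop K) le_rfl P)
      have hzJ : z ∈ schubertVanishing K d n w :=
        vanishing_le_schubertVanishing w (plIdealTop_le_vanishing hz)
      refine add_mem ?_ (Ideal.mem_sup_left hzJ)
      have hz0 : bandMap K v w z = 0 := by
        rw [schubertVanishing_eq_ker hd, RingHom.mem_ker] at hzJ
        have hmap : (triMat K w).map (aeval fun p => if v.1 p.2 ≤ p.1 then (X p : MatRing K d n) else 0) =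
            bandMat K v w := by
          ext i t : 2
          simp only [Matrix.map_apply, triMat, bandMat, Matrix.of_apply]
          by_cases hit : i ≤ w.1 t
          · rw [if_pos hit, aeval_X]; simp [hit]
          · rw [if_neg hit, map_zero, if_neg fun h => hit h.2]
        rw [bandMap, ← hmap, ← comp_evalMat]
        change (aeval _) (triMap K w z) = 0
        rw [hzJ, map_zero]
      rw [RingHom.mem_ker, map_add, hz0, add_zero] at hP
      obtain ⟨S, c, hS, rfl⟩ := exists_sum_of_mem_stdSpan hy
      refine Ideal.sum_mem _ fun s hs => ?_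
      by_cases hcs : c s = 0
      · rw [hcs, zero_smul]; exact Ideal.zero_mem _
      refine Submodule.smul_of_tower_mem _ _ ?_
      by_cases hgood : ∀ θ ∈ s, v ≤ θ ∧ θ ≤ w
      · refine absurd (bandMap_mon_indep hd v w (S.filter fun s => ∀ θ ∈ s, v ≤ θ ∧ θ ≤ w) c
          (fun s hs => ⟨(hS s (Finset.mem_filter.1 hs).1).1, (Finset.mem_filter.1 hs).2⟩) ?_ s
          (Finset.mem_filter.2 ⟨hs, hgood⟩)) hcs
        rw [map_sum] at hP
        rw [map_sum, Finset.sum_filter]
        refine Eq.trans (Finset.sum_congr rfl fun s _ => ?_) hP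
        split_ifs with hle
        · rfl
        · push Not at hle
          obtain ⟨θ, hθ, hθ'⟩ := hle
          obtain ⟨s', rfl⟩ := Multiset.exists_cons_of_mem hθ
          rw [map_smul, mon_cons, map_mul, bandMap_X_eq_zero v w θ, zero_mul, smul_zero]
          by_cases hvθ : v ≤ θ
          · exact Or.inl (hθ' hvθ)
          · exact Or.inr hvθ
      · push Not at hgood
        obtain ⟨θ, hθ, hθ'⟩ := hgood
        by_cases hθι : θ = ι
        · exact mon_mem_of_mem (Ideal.mem_sup_right (Ideal.mem_span_singleton_self _)) (hθι ▸ hθ)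
        · exact Ideal.mem_sup_left (mon_mem_of_mem (X_mem_schubertVanishing (hθ' (hv θ hθι))) hθ)
  rw [hle]
  exact RingHom.ker_isPrime _

theorem prime_mk_least (hd : 0 < d) (hdn : d < n) (w ι : Idx d n) (hι : ∀ t, (ι.1 t).val = t.val) :
    Prime (Ideal.Quotient.mk (schubertVanishing K d n w) (X ι)) := by
  have := schubertVanishing_isPrime (K := K) hd w
  have hne : Ideal.Quotient.mk (schubertVanishing K d n w) (X ι) ≠ 0 := by
    rw [Ne, Ideal.Quotient.eq_zero_iff_mem, X_mem_schubertVanishing_iff hd]
    exact fun h => h fun t => by rw [Fin.le_def, hι]; exact val_le_idx w t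
  have hP := isPrime_sup_span_least (K := K) hd hdn w ι hι
  rw [← Ideal.span_singleton_prime hne,
    ← Ideal.map_comap_of_surjective (Ideal.Quotient.mk (schubertVanishing K d n w))
      Ideal.Quotient.mk_surjective (Ideal.span {Ideal.Quotient.mk (schubertVanishing K d n w) (X ι)}),
    comap_span_mk]
  exact Ideal.map_isPrime_of_surjective Ideal.Quotient.mk_surjective (by rw [Ideal.mk_ker]; exact le_sup_left)

end GrassLib
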