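import Mathlib
import Groth.Prelude.Def_W4bk4grassmannianPl

/-!
Evaluation of Plücker polynomials at the minors of a matrix over any algebra, and the vanishing of the shuffle
relations at such minors.
-/

universe u v

open MvPolynomial Equiv Matrix

namespace GrassLib

open W4bk4grassmannian

/-- The sign of a permutation of `Fin N` is the parity of its number of inversions. -/
theorem sign_eq_pow_inv {N : ℕ} (σ : Equiv.Perm (Fin N)) :
    Equiv.Perm.sign σ =
      (-1 : ℤˣ) ^ (Finset.univ.filter fun p : Fin N × Fin N => p.1 < p.2 ∧ σ p.2 < σ p.1).card := by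
  rw [Equiv.Perm.sign_eq_prod_prod_Ioi, ← Finset.prod_const, Finset.prod_filter,
    Fintype.prod_prod_type]
  refine Finset.prod_congr rfl fun i _ => ?_
  rw [← Finset.prod_filter_mul_prod_filter_not Finset.univ (fun j => i < j)]
  have h2 : ∏ j ∈ Finset.univ.filter (fun j => ¬ i < j),
      (if i < j ∧ σ j < σ i then (-1 : ℤˣ) else 1) = 1 := by
    refine Finset.prod_eq_one fun j hj => if_neg ?_
    exact fun h => (Finset.mem_filter.1 hj).2 h.1
  rw [h2, mul_one]
  refine Finset.prod_congr (by ext j; simp) fun j hj => ?_
  have hij : i < j := (Finset.mem_filter.1 hj).2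
  rcases lt_trichotomy (σ i) (σ j) with h | h | h
  · rw [if_pos h, if_neg]
    exact fun h' => (lt_asymm h) h'.2
  · exact absurd (σ.injective h) hij.ne
  · rw [if_neg (lt_asymm h), if_pos ⟨hij, h⟩]

variable {K : Type u} [CommRing K] {d n : ℕ}

/-- Evaluation of Plücker polynomials at the minors of a matrix over a `K`-algebra. -/
noncomputable def evalMat {R : Type v} [CommRing R] [Algebra K R] (B : Matrix (Fin n) (Fin d) R) :
    PlRing K d n →ₐ[K] R :=
  MvPolynomial.aeval fun θ : Idx d n => (B.submatrix θ.1 id).det

variable {R : Type v} [CommRing R] [Algebra K R]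

@[simp] theorem evalMat_X (B : Matrix (Fin n) (Fin d) R) (θ : Idx d n) :
    evalMat (K := K) B (X θ) = (B.submatrix θ.1 id).det := by
  simp [evalMat]

theorem evalMinors_eq (A : Matrix (Fin n) (Fin d) K) :
    evalMinors K d n A = evalMat (K := K) A := rfl

theorem comp_evalMat {R' : Type*} [CommRing R'] [Algebra K R'] (f : R →ₐ[K] R')
    (B : Matrix (Fin n) (Fin d) R) (P : PlRing K d n) :
    f (evalMat B P) = evalMat (K := K) (B.map f) P := by
  have h : f.comp (evalMat B) = evalMat (K := K) (B.map f) := by
    apply MvPolynomial.algHom_ext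
    intro θ
    simp only [AlgHom.coe_comp, Function.comp_apply, evalMat_X, AlgHom.map_det]
    rfl
  exact AlgHom.congr_fun h P

theorem image_card_iff_injective (a : Fin d → Fin n) :
    (Finset.univ.image a).card = d ↔ Function.Injective a := by
  conv_lhs => rhs; rw [← Finset.card_fin d]
  rw [Finset.card_image_iff, Finset.coe_univ, Set.injOn_univ]

/-- The permutation sorting an injective tuple. -/
noncomputable def sortPerm (a : Fin d → Fin n) (h : (Finset.univ.image a).card = d) :
    Equiv.Perm (Fin d) :=
  Equiv.ofBijective
    (fun t => ((Finset.univ.image a).orderIsoOfFin h).symm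
      ⟨a t, Finset.mem_image_of_mem a (Finset.mem_univ t)⟩)
    (Finite.injective_iff_bijective.1 fun s t hst =>
      (image_card_iff_injective a).1 h
        (congrArg Subtype.val (((Finset.univ.image a).orderIsoOfFin h).symm.injective hst)))

theorem sortIdx_sortPerm (a : Fin d → Fin n) (h : (Finset.univ.image a).card = d) (t : Fin d) :
    (sortIdx d n a h).1 (sortPerm a h t) = a t := by
  show Finset.orderEmbOfFin _ h _ = a t
  rw [← Finset.coe_orderIsoOfFin_apply]
  simp only [sortPerm, Equiv.ofBijective_apply, OrderIso.apply_symm_apply]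

theorem sign_sortPerm (a : Fin d → Fin n) (h : (Finset.univ.image a).card = d) :
    Equiv.Perm.sign (sortPerm a h) = (-1 : ℤˣ) ^ invCount d n a := by
  rw [sign_eq_pow_inv, invCount]
  congr 2
  ext p
  simp only [Finset.mem_filter, Finset.mem_univ, true_and]
  rw [← sortIdx_sortPerm a h p.2, ← sortIdx_sortPerm a h p.1, (sortIdx d n a h).2.lt_iff_lt]

theorem det_tuple_eq (B : Matrix (Fin n) (Fin d) R) (a : Fin d → Fin n)
    (h : (Finset.univ.image a).card = d) :
    (B.submatrix a id).det =
      (-1 : R) ^ invCount d n a * (B.submatrix (sortIdx d n a h).1 id).det := by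
  have h1 : B.submatrix a id = (B.submatrix (sortIdx d n a h).1 id).submatrix (sortPerm a h) id := by
    ext s t
    simp [sortIdx_sortPerm]
  rw [h1, Matrix.det_permute, sign_sortPerm]
  push_cast
  ring

theorem det_tuple_eq_zero (B : Matrix (Fin n) (Fin d) R) (a : Fin d → Fin n)
    (h : (Finset.univ.image a).card ≠ d) : (B.submatrix a id).det = 0 := by
  rw [Ne, image_card_iff_injective, Function.not_injective_iff] at h
  obtain ⟨s, t, hst, hne⟩ := h
  exact Matrix.det_zero_of_row_eq hne (by ext k; simp [hst])

theorem evalMat_coord (B : Matrix (Fin n) (Fin d) R) (a : Fin d → Fin n) :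
    evalMat (K := K) B (coord K d n a) = (B.submatrix a id).det := by
  unfold coord
  split_ifs with h
  · rw [det_tuple_eq B a h, map_mul, map_pow, map_neg, map_one, evalMat_X]
  · rw [map_zero, det_tuple_eq_zero B a h]

theorem extend_update {α β γ : Type*} [DecidableEq α] [DecidableEq β] {e : α → β}
    (he : Function.Injective e) (x : α → γ) (B : β → γ) (s : α) (u : γ) :
    Function.extend e (Function.update x s u) B = Function.update (Function.extend e x B) (e s) u := by
  funext b
  by_cases hb : ∃ a, e a = b
  · obtain ⟨a, rfl⟩ := hb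
    rw [he.extend_apply]
    by_cases ha : a = s
    · subst ha
      simp
    · rw [Function.update_of_ne ha, Function.update_of_ne (he.ne ha), he.extend_apply]
  · rw [Function.extend_apply' _ _ _ hb, Function.update_of_ne, Function.extend_apply' _ _ _ hb]
    rintro rfl
    exact hb ⟨s, rfl⟩

/-- Determinant with some of the rows fixed, as an alternating map in the remaining rows. -/
noncomputable def fixRows {k : ℕ} (e : Fin k → Fin d) (he : Function.Injective e)
    (B : Fin d → Fin d → R) : (Fin d → R) [⋀^Fin k]→ₗ[R] R where
  toFun x := Matrix.detRowAlternating (Function.extend e x B)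
  map_update_add' := by
    intro _ x s u w
    rw [extend_update he, extend_update he, extend_update he]
    exact AlternatingMap.map_update_add _ _ _ _ _
  map_update_smul' := by
    intro _ x s c u
    rw [extend_update he, extend_update he]
    exact AlternatingMap.map_update_smul _ _ _ _ _
  map_eq_zero_of_eq' := by
    intro x s t hst hne
    refine AlternatingMap.map_eq_zero_of_eq _ _ (i := e s) (j := e t) ?_ (he.ne hne)
    rw [he.extend_apply, he.extend_apply, hst]

theorem fixRows_apply {k : ℕ} (e : Fin k → Fin d) (he : Function.Injective e)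
    (B : Fin d → Fin d → R) (x : Fin k → Fin d → R) :
    fixRows e he B x = Matrix.det (Matrix.of (Function.extend e x B)) := rfl

theorem alternating_eq_zero_of_lt {N : ℕ} (hN : d < N) (f : (Fin d → R) [⋀^Fin N]→ₗ[R] R) :
    f = 0 := by
  apply Module.Basis.ext_alternating (Pi.basisFun R (Fin d))
  intro w hw
  exact absurd (Fintype.card_le_of_injective w hw) (by simp only [Fintype.card_fin]; omega)

end GrassLib
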