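import Groth.Agent.GrassLib.Cell

/-!
The shape of the straightening relation of a skew pair.
-/

universe u

open MvPolynomial Matrix

namespace GrassLib

open W4bk4grassmannian

variable {d n : ℕ}

theorem cnt_eq_sum (v : ℕ) (θ : Idx d n) :
    cnt v θ = ∑ t, if v ≤ (θ.1 t).val then 1 else 0 :=
  Finset.card_filter _ _

theorem cnt_eq_countP (v : ℕ) (θ : Idx d n) :
    cnt v θ = (rowsOf θ).countP (fun x => v ≤ x.val) := by
  rw [cnt_eq_sum, rowsOf]
  have h : (Multiset.countP (fun x : Fin n => v ≤ x.val)) (∑ t, ({θ.1 t} : Multiset (Fin n))) =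
      ∑ t, Multiset.countP (fun x : Fin n => v ≤ x.val) ({θ.1 t} : Multiset (Fin n)) :=
    map_sum (Multiset.countPAddMonoidHom (fun x : Fin n => v ≤ x.val)) _ _
  rw [h]
  refine Finset.sum_congr rfl fun t _ => ?_
  by_cases hv : v ≤ (θ.1 t).val
  · rw [if_pos hv, ← Multiset.cons_zero, Multiset.countP_cons_of_pos (p := fun x : Fin n => v ≤ x.val) 0 hv,
      Multiset.countP_zero]
  · rw [if_neg hv, ← Multiset.cons_zero, Multiset.countP_cons_of_neg (p := fun x : Fin n => v ≤ x.val) 0 hv,
      Multiset.countP_zero]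

theorem le_iff_cnt {θ θ' : Idx d n} : θ ≤ θ' ↔ ∀ v, cnt v θ ≤ cnt v θ' :=
  ⟨fun h v => cnt_le_cnt h v, fun h => le_of_cnt fun v _ => h v⟩

theorem eq_of_cnt {θ θ' : Idx d n} (h : ∀ v, cnt v θ = cnt v θ') : θ = θ' :=
  le_antisymm (le_iff_cnt.2 fun v => (h v).le) (le_iff_cnt.2 fun v => (h v).ge)

theorem filter_mono_or (v : ℕ) (a b : Idx d n) :
    (Finset.univ.filter fun t => v ≤ (a.1 t).val) ⊆ Finset.univ.filter (fun t => v ≤ (b.1 t).val) ∨
      (Finset.univ.filter fun t => v ≤ (b.1 t).val) ⊆ Finset.univ.filter (fun t => v ≤ (a.1 t).val) := by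
  by_contra hcon
  rw [not_or, Finset.not_subset, Finset.not_subset] at hcon
  obtain ⟨⟨s, hs, hs'⟩, t, ht, ht'⟩ := hcon
  simp only [Finset.mem_filter, Finset.mem_univ, true_and] at hs hs' ht ht'
  rcases le_total s t with h | h
  · exact ht' (le_trans hs (Fin.le_def.1 (a.2.monotone h)))
  · exact hs' (le_trans ht (Fin.le_def.1 (b.2.monotone h)))

theorem cnt_sup (v : ℕ) (a b : Idx d n) :
    cnt v (W4bk4grassmannian.sup a b) = max (cnt v a) (cnt v b) := by
  have h : (Finset.univ.filter fun t => v ≤ ((W4bk4grassmannian.sup a b).1 t).val) =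
      (Finset.univ.filter fun t => v ≤ (a.1 t).val) ∪ Finset.univ.filter (fun t => v ≤ (b.1 t).val) := by
    ext t
    simp only [W4bk4grassmannian.sup, Finset.mem_filter, Finset.mem_univ, true_and, Finset.mem_union]
    rcases le_total (a.1 t) (b.1 t) with h | h
    · rw [max_eq_right h]
      exact ⟨Or.inr, fun h' => h'.elim (fun h'' => h''.trans (Fin.le_def.1 h)) id⟩
    · rw [max_eq_left h]
      exact ⟨Or.inl, fun h' => h'.elim id fun h'' => h''.trans (Fin.le_def.1 h)⟩
  unfold cnt
  rw [h]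
  rcases filter_mono_or v a b with hab | hab
  · rw [Finset.union_eq_right.2 hab, max_eq_right (Finset.card_le_card hab)]
  · rw [Finset.union_eq_left.2 hab, max_eq_left (Finset.card_le_card hab)]

theorem cnt_inf (v : ℕ) (a b : Idx d n) :
    cnt v (W4bk4grassmannian.inf a b) = min (cnt v a) (cnt v b) := by
  have h : (Finset.univ.filter fun t => v ≤ ((W4bk4grassmannian.inf a b).1 t).val) =
      (Finset.univ.filter fun t => v ≤ (a.1 t).val) ∩ Finset.univ.filter (fun t => v ≤ (b.1 t).val) := by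
    ext t
    simp only [W4bk4grassmannian.inf, Finset.mem_filter, Finset.mem_univ, true_and, Finset.mem_inter]
    rcases le_total (a.1 t) (b.1 t) with h | h
    · rw [min_eq_left h]
      exact ⟨fun h' => ⟨h', h'.trans (Fin.le_def.1 h)⟩, And.left⟩
    · rw [min_eq_right h]
      exact ⟨fun h' => ⟨h'.trans (Fin.le_def.1 h), h'⟩, And.right⟩
  unfold cnt
  rw [h]
  rcases filter_mono_or v a b with hab | hab
  · rw [Finset.inter_eq_left.2 hab, min_eq_left (Finset.card_le_card hab)]
  · rw [Finset.inter_eq_right.2 hab, min_eq_right (Finset.card_le_card hab)]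

theorem wt_sup_add_inf (a b : Idx d n) :
    wt (W4bk4grassmannian.sup a b) + wt (W4bk4grassmannian.inf a b) = wt a + wt b := by
  simp only [wt, W4bk4grassmannian.sup, W4bk4grassmannian.inf, ← Finset.sum_add_distrib]
  refine Finset.sum_congr rfl fun t _ => ?_
  rcases le_total (a.1 t) (b.1 t) with h | h
  · rw [max_eq_right h, min_eq_left h, add_comm]
  · rw [max_eq_left h, min_eq_right h]

theorem le_sup_left' (a b : Idx d n) : a ≤ W4bk4grassmannian.sup a b := fun _ => le_max_left _ _
theorem le_sup_right' (a b : Idx d n) : b ≤ W4bk4grassmannian.sup a b := fun _ => le_max_right _ _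
theorem inf_le_left' (a b : Idx d n) : W4bk4grassmannian.inf a b ≤ a := fun _ => min_le_left _ _
theorem inf_le_sup' (a b : Idx d n) :
    W4bk4grassmannian.inf a b ≤ W4bk4grassmannian.sup a b :=
  (inf_le_left' a b).trans (le_sup_left' a b)
theorem sup_le' {a b c : Idx d n} (ha : a ≤ c) (hb : b ≤ c) : W4bk4grassmannian.sup a b ≤ c :=
  fun t => max_le (ha t) (hb t)

theorem sq_lt_of_skew {τ φ α β : Idx d n} (h₁ : ¬ τ ≤ φ) (h₂ : ¬ φ ≤ τ)
    (hα : W4bk4grassmannian.sup τ φ ≤ α) (hwt : wt α + wt β = wt τ + wt φ) :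
    wt τ ^ 2 + wt φ ^ 2 < wt α ^ 2 + wt β ^ 2 := by
  have h3 : wt τ < wt α := by
    refine lt_of_lt_of_le (wt_lt_of_lt (lt_of_le_of_ne (le_sup_left' τ φ) fun h => h₂ ?_))
      (Finset.sum_le_sum fun t _ => hα t)
    exact (le_sup_right' τ φ).trans_eq h.symm
  have h4 : wt φ < wt α := by
    refine lt_of_lt_of_le (wt_lt_of_lt (lt_of_le_of_ne (le_sup_right' τ φ) fun h => h₁ ?_))
      (Finset.sum_le_sum fun t _ => hα t)
    exact (le_sup_left' τ φ).trans_eq h.symm
  obtain ⟨p, hp⟩ := Nat.exists_eq_add_of_lt h3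
  have h5 : wt φ = wt β + (p + 1) := by omega
  have h6 : wt φ < wt τ + (p + 1) := by omega
  rw [hp, h5]
  nlinarith [h6, h5]

/-- The matrix whose `t`-th column has ones in the rows `sup_t` and `inf_t`. -/
def twoPathMat (K : Type u) [CommRing K] {d n : ℕ} (τ φ : Idx d n) : Matrix (Fin n) (Fin d) K :=
  Matrix.of fun i t => if i = τ.1 t ∨ i = φ.1 t then 1 else 0

theorem det_twoPath (K : Type u) [CommRing K] {τ φ : Idx d n} (a : Fin d → Fin n) (ha : StrictMono a)
    (hsel : ∀ t, a t = τ.1 t ∨ a t = φ.1 t) :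
    ((twoPathMat K τ φ).submatrix a id).det = 1 := by
  classical
  rw [Matrix.det_apply, Finset.sum_eq_single 1]
  · simp only [Equiv.Perm.sign_one, one_smul, Equiv.Perm.coe_one, id_eq]
    exact Finset.prod_eq_one fun t _ => by simp [twoPathMat, hsel t]
  · intro σ _ hσ
    refine smul_eq_zero_of_right _ ?_
    by_contra hne
    have hall : ∀ t, a (σ t) = τ.1 t ∨ a (σ t) = φ.1 t := by
      intro t
      by_contra hcon
      exact hne (Finset.prod_eq_zero (Finset.mem_univ t) (by simp [twoPathMat, hcon]))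
    obtain ⟨t₀, ht₀mem, ht₀min⟩ := (Finset.univ.filter fun t => σ t ≠ t).exists_min_image id (by
      obtain ⟨t, ht⟩ : ∃ t, σ t ≠ t := by
        by_contra hcon; push Not at hcon; exact hσ (Equiv.ext hcon)
      exact ⟨t, by simp [ht]⟩)
    have ht₀ : σ t₀ ≠ t₀ := (Finset.mem_filter.1 ht₀mem).2
    have hfix : ∀ t, t < t₀ → σ t = t := fun t ht => by
      by_contra h
      exact absurd (ht₀min t (Finset.mem_filter.2 ⟨Finset.mem_univ _, h⟩)) (not_le_of_gt ht)
    have hu : t₀ < σ t₀ := by
      refine lt_of_le_of_ne ?_ ht₀.symm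
      by_contra h
      rw [not_le] at h
      exact ht₀ (σ.injective (hfix _ h))
    have ht₁ : t₀ < σ.symm t₀ := by
      refine lt_of_le_of_ne ?_ fun h => ht₀ (by conv_lhs => rw [h]; simp)
      by_contra h
      rw [not_le] at h
      have := hfix _ h
      rw [Equiv.apply_symm_apply] at this
      exact h.ne this.symm
    have h1 := hall (σ.symm t₀)
    rw [Equiv.apply_symm_apply] at h1
    have h2 := hall t₀
    have h3 := hsel t₀
    have h4 := ha hu
    have h5 := τ.2 ht₁
    have h6 := φ.2 ht₁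
    simp only [Fin.lt_def, Fin.ext_iff] at h1 h2 h3 h4 h5 h6
    omega
  · intro h; exact absurd (Finset.mem_univ _) h

variable {K : Type u} [Field K] [Infinite K]

/-- The straightening relation of a skew pair. -/
theorem exists_expansion (hd : 0 < d) (τ φ : Idx d n) (h₁ : ¬ τ ≤ φ) (h₂ : ¬ φ ≤ τ) :
    ∃ g ∈ Submodule.span K {f : PlRing K d n | ∃ α β : Idx d n, β ≤ α ∧
        W4bk4grassmannian.sup τ φ < α ∧ β < W4bk4grassmannian.inf τ φ ∧
        wt α + wt β = wt τ + wt φ ∧ (∀ v, cnt v α + cnt v β = cnt v τ + cnt v φ) ∧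
        f = X α * X β},
      X τ * X φ - X (W4bk4grassmannian.sup τ φ) * X (W4bk4grassmannian.inf τ φ) - g ∈
        vanishing K d n := by
  classical
  set S' := W4bk4grassmannian.sup τ φ with hS'
  set I' := W4bk4grassmannian.inf τ φ with hI'
  have hmon : mon K ({τ, φ} : Multiset (Idx d n)) = X τ * X φ := by simp [mon]
  have hstr := straighten (plIdealTop K) (fun i j r hr => Ideal.subset_span ⟨i, j, r, hr, rfl⟩)
    ({τ, φ} : Multiset (Idx d n))
  rw [hmon] at hstr
  obtain ⟨y, hy, z, hz, hyz⟩ := Submodule.mem_sup.1 hstr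
  have hy' : y ∈ stdSpan K (fun t => Straight ({τ, φ} : Multiset (Idx d n)) t) := by
    refine Submodule.span_mono ?_ hy
    rintro _ ⟨t, ht, rfl⟩
    exact ⟨t, ht.1, ht, rfl⟩
  obtain ⟨S, c, hS, rfl⟩ := exists_sum_of_mem_stdSpan hy'
  have hzJ : z ∈ vanishing K d n := plIdealTop_le_vanishing hz
  -- every term is a pair above `sup` and below `inf`
  have hshape : ∀ t ∈ S, c t ≠ 0 → ∃ α β : Idx d n, t = {α, β} ∧ β ≤ α ∧ S' ≤ α ∧
      wt α + wt β = wt τ + wt φ ∧ (∀ v, cnt v α + cnt v β = cnt v τ + cnt v φ) := by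
    intro t ht hct
    obtain ⟨hstd, hcard, hcont, -⟩ := (hS t ht).2
    obtain ⟨α, β, rfl⟩ := Multiset.card_eq_two.1 (hcard.trans (by simp))
    obtain ⟨α, β, heq, hβα⟩ : ∃ α' β', ({α, β} : Multiset (Idx d n)) = {α', β'} ∧ β' ≤ α' := by
      rcases hstd α (by simp) β (by simp) with h | h
      · exact ⟨β, α, Multiset.pair_comm _ _, h⟩
      · exact ⟨α, β, rfl, h⟩
    rw [heq] at hcont ht hct ⊢
    have hrows : rowsOf α + rowsOf β = rowsOf τ + rowsOf φ := by
      simpa [content] using hcont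
    have hcnt : ∀ v, cnt v α + cnt v β = cnt v τ + cnt v φ := fun v => by
      simp only [cnt_eq_countP, ← Multiset.countP_add, hrows]
    refine ⟨α, β, rfl, hβα, ?_, ?_, hcnt⟩
    · by_contra hle
      refine hct (coeff_eq_zero_of_mem hd (τ := α) (fun s hs => (hS s hs).1) ?_ _ ht ?_)
      · have hor : ¬ τ ≤ α ∨ ¬ φ ≤ α := by
          by_contra h
          push Not at h
          exact hle (sup_le' h.1 h.2)
        have h0 : X τ * X φ ∈ schubertVanishing K d n α := by
          rcases hor with h | h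
          · exact Ideal.mul_mem_right _ _ (X_mem_schubertVanishing h)
          · exact Ideal.mul_mem_left _ _ (X_mem_schubertVanishing h)
        rw [← hyz] at h0
        exact ((schubertVanishing K d n α).add_mem_iff_left
          (vanishing_le_schubertVanishing α hzJ)).1 h0
      · intro θ hθ
        simp only [Multiset.insert_eq_cons, Multiset.mem_cons, Multiset.mem_singleton] at hθ
        rcases hθ with rfl | rfl
        · exact le_rfl
        · exact hβα
    · have h := congrArg (fun m : Multiset (Fin n) => (m.map Fin.val).sum) hrows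
      simp only [Multiset.map_add, Multiset.sum_add] at h
      have hw : ∀ θ : Idx d n, ((rowsOf θ).map Fin.val).sum = wt θ := fun θ => by
        rw [rowsOf, ← Multiset.coe_mapAddMonoidHom, map_sum, wt, ← Multiset.coe_sumAddMonoidHom,
          map_sum]
        simp
      rwa [hw, hw, hw, hw] at h
  -- pairs other than `{sup, inf}` are strictly outside
  have hcl : ∀ α β : Idx d n, S' ≤ α → (∀ v, cnt v α + cnt v β = cnt v τ + cnt v φ) →
      (α = S' ∧ β = I') ∨ (S' < α ∧ β < I') := by
    intro α β hα hcnt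
    have hβ : β ≤ I' := le_iff_cnt.2 fun v => by
      have h1 := cnt_le_cnt hα v
      rw [hS', cnt_sup] at h1
      rw [hI', cnt_inf]
      have := hcnt v
      omega
    by_cases hαS : α = S'
    · refine Or.inl ⟨hαS, eq_of_cnt fun v => ?_⟩
      have := hcnt v
      rw [hαS, hS', cnt_sup] at this
      rw [hI', cnt_inf]
      omega
    · refine Or.inr ⟨lt_of_le_of_ne hα (Ne.symm hαS), lt_of_le_of_ne hβ fun hβI => hαS ?_⟩
      refine eq_of_cnt fun v => ?_
      have := hcnt v
      rw [hβI, hI', cnt_inf] at this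
      rw [hS', cnt_sup]
      omega
  -- evaluation at the two path matrix
  set A := twoPathMat K τ φ with hA
  have hone : ∀ θ : Idx d n, (∀ t, θ.1 t = τ.1 t ∨ θ.1 t = φ.1 t) → evalMinors K d n A (X θ) = 1 :=
    fun θ hθ => by rw [evalMinors_eq, evalMat_X]; exact det_twoPath K θ.1 θ.2 hθ
  have hzero : ∀ α : Idx d n, ¬ α ≤ S' → evalMinors K d n A (X α) = 0 := fun α hα => by
    rw [evalMinors_eq, evalMat_X]
    refine det_submatrix_eq_zero_of_support A S' (fun i t hit => ?_) α hα
    simp only [hA, twoPathMat, Matrix.of_apply]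
    rw [if_neg]
    rintro (rfl | rfl)
    · exact absurd hit (not_lt.2 (le_max_left _ _))
    · exact absurd hit (not_lt.2 (le_max_right _ _))
  have hmem : evalMinors K d n A z = 0 := by
    have := hzJ
    simp only [vanishing, Ideal.mem_iInf, RingHom.mem_ker, AlgHom.toRingHom_eq_coe,
      RingHom.coe_coe] at this
    exact this A
  have heval := congrArg (evalMinors K d n A) hyz
  rw [map_add, hmem, add_zero, map_sum, map_mul, hone τ (fun t => Or.inl rfl),
    hone φ (fun t => Or.inr rfl), one_mul] at heval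
  have hother : ∀ t ∈ S, t ≠ {S', I'} → evalMinors K d n A (c t • mon K t) = 0 := by
    intro t ht hne
    by_cases hct : c t = 0
    · rw [hct, zero_smul, map_zero]
    obtain ⟨α, β, rfl, -, hα, -, hcnt⟩ := hshape t ht hct
    rcases hcl α β hα hcnt with ⟨rfl, rfl⟩ | ⟨hlt, -⟩
    · exact absurd rfl hne
    · rw [map_smul, show mon K ({α, β} : Multiset (Idx d n)) = X α * X β by simp [mon], map_mul,
        hzero α (not_le_of_gt hlt), zero_mul, smul_zero]
  have hin : ({S', I'} : Multiset (Idx d n)) ∈ S := by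
    by_contra h
    rw [Finset.sum_eq_zero fun t ht => hother t ht fun he => h (he ▸ ht)] at heval
    exact zero_ne_one heval
  have hsel : ∀ θ, θ = S' ∨ θ = I' → ∀ t, θ.1 t = τ.1 t ∨ θ.1 t = φ.1 t := by
    rintro θ (rfl | rfl) t
    · exact max_choice _ _
    · exact min_choice _ _
  have hmonSI : mon K ({S', I'} : Multiset (Idx d n)) = X S' * X I' := by simp [mon]
  rw [Finset.sum_eq_single_of_mem _ hin fun t ht hne => hother t ht hne, map_smul, hmonSI, map_mul,
    hone S' (hsel S' (Or.inl rfl)), hone I' (hsel I' (Or.inr rfl)), mul_one, smul_eq_mul, mul_one]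
    at heval
  refine ⟨∑ t ∈ S.erase {S', I'}, c t • mon K t, Submodule.sum_mem _ fun t ht => ?_, ?_⟩
  · obtain ⟨hne, ht⟩ := Finset.mem_erase.1 ht
    by_cases hct : c t = 0
    · rw [hct, zero_smul]; exact Submodule.zero_mem _
    obtain ⟨α, β, rfl, hβα, hα, hwt, hcnt⟩ := hshape t ht hct
    rcases hcl α β hα hcnt with ⟨rfl, rfl⟩ | ⟨hlt, hlt'⟩
    · exact absurd rfl hne
    · exact Submodule.smul_mem _ _ (Submodule.subset_span
        ⟨α, β, hβα, hlt, hlt', hwt, hcnt, by simp [mon]⟩)
  · rw [← hyz, ← Finset.add_sum_erase _ _ hin, heval, one_smul, hmonSI]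
    convert hzJ using 1
    ring

end GrassLib
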