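import Groth.Agent.GrassLib.Schubert

/-!
Standard monomial theory for unions and intersections of Schubert varieties; Schubert divisors.
-/

universe u v

open MvPolynomial

namespace GrassLib

open W4bk4grassmannian

variable {d n : ℕ}

theorem val_le_idx (θ : Idx d n) (t : Fin d) : t.val ≤ (θ.1 t).val := by
  have h : (Finset.Iio t).card ≤ (Finset.Iio (θ.1 t)).card :=
    Finset.card_le_card_of_injOn θ.1 (fun x hx => by
      simpa using θ.2 (by simpa using hx)) θ.2.injective.injOn
  simpa using h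

theorem codeg_add (θ : Idx d n) : codeg θ + ∑ t : Fin d, t.val = wt θ := by
  rw [codeg, wt, ← Finset.sum_add_distrib]
  exact Finset.sum_congr rfl fun t _ => Nat.sub_add_cancel (val_le_idx θ t)

theorem mem_divisors_iff {φ w : Idx d n} : φ ∈ divisors w ↔ φ < w ∧ wt φ + 1 = wt w := by
  have h1 := codeg_add φ
  have h2 := codeg_add w
  constructor
  · rintro ⟨ha, hb⟩; exact ⟨ha, by omega⟩
  · rintro ⟨ha, hb⟩; exact ⟨ha, by omega⟩

theorem wt_lt_of_lt {φ w : Idx d n} (h : φ < w) : wt φ < wt w := by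
  obtain ⟨t, ht⟩ : ∃ t, φ.1 t < w.1 t := by
    by_contra hcon
    push Not at hcon
    exact h.not_ge fun t => hcon t
  exact Finset.sum_lt_sum (fun s _ => h.le s) ⟨t, Finset.mem_univ _, ht⟩

/-- Decreasing one entry of an index. -/
theorem exists_pred {τ w : Idx d n} (h : τ < w) :
    ∃ (φ : Idx d n) (s : Fin d), τ ≤ φ ∧ φ < w ∧ wt φ + 1 = wt w ∧
      (φ.1 s).val + 1 = (w.1 s).val ∧ ∀ t, t ≠ s → φ.1 t = w.1 t := by
  classical
  have hne : (Finset.univ.filter fun t : Fin d => τ.1 t < w.1 t).Nonempty := by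
    by_contra hcon
    rw [Finset.not_nonempty_iff_eq_empty, Finset.filter_eq_empty_iff] at hcon
    exact h.not_ge fun t => not_lt.1 (hcon (Finset.mem_univ t))
  obtain ⟨s, hsmem, hsmin⟩ :=
    (Finset.univ.filter fun t : Fin d => τ.1 t < w.1 t).exists_min_image id hne
  have hs : τ.1 s < w.1 s := (Finset.mem_filter.1 hsmem).2
  have heq : ∀ t, t < s → τ.1 t = w.1 t := fun t ht => by
    rcases eq_or_lt_of_le (h.le t) with h' | h'
    · exact h'
    · exact absurd (hsmin t (Finset.mem_filter.2 ⟨Finset.mem_univ _, h'⟩)) (not_le_of_gt ht)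
  have hs' : (τ.1 s).val < (w.1 s).val := hs
  set x : Fin n := ⟨(w.1 s).val - 1, by have := (w.1 s).isLt; omega⟩ with hx
  have hmono : StrictMono (Function.update w.1 s x) := by
    intro a b hab
    simp only [Function.update_apply]
    split_ifs with ha hb hb
    · exact absurd (ha.trans hb.symm) hab.ne
    · subst ha
      have := w.2 hab
      rw [Fin.lt_def] at this ⊢
      simp only [hx]
      omega
    · subst hb
      have h1 := τ.2 hab
      rw [heq a hab] at h1
      rw [Fin.lt_def] at h1 ⊢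
      simp only [hx]
      omega
    · exact w.2 hab
  refine ⟨⟨_, hmono⟩, s, fun t => ?_, ?_, ?_, ?_, fun t ht => Function.update_of_ne ht _ _⟩
  · show τ.1 t ≤ Function.update w.1 s x t
    simp only [Function.update_apply]
    split_ifs with ht
    · subst ht; rw [Fin.le_def]; simp only [hx]; omega
    · exact h.le t
  · refine lt_of_le_of_ne (fun t => ?_) fun he => ?_
    · show Function.update w.1 s x t ≤ w.1 t
      simp only [Function.update_apply]
      split_ifs with ht
      · subst ht; rw [Fin.le_def]; simp only [hx]; omega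
      · exact le_rfl
    · have := congrFun (congrArg Subtype.val he) s
      simp only [Function.update_self, hx, Fin.ext_iff] at this
      omega
  · simp only [wt]
    rw [← Finset.add_sum_erase _ _ (Finset.mem_univ s),
      ← Finset.add_sum_erase (f := fun t => (w.1 t).val) _ (Finset.mem_univ s)]
    simp only [Function.update_self]
    rw [Finset.sum_congr rfl fun t ht => by rw [Function.update_of_ne (Finset.ne_of_mem_erase ht)]]
    simp only [hx]
    omega
  · simp only [Function.update_self, hx]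
    omega

theorem exists_divisor_ge {τ w : Idx d n} (h : τ < w) : ∃ φ ∈ divisors w, τ ≤ φ := by
  obtain ⟨φ, s, h1, h2, h3, -⟩ := exists_pred h
  exact ⟨φ, mem_divisors_iff.2 ⟨h2, h3⟩, h1⟩

variable {K : Type u} [CommRing K]

theorem span_le_of_mon_mem {U : Multiset (Idx d n) → Prop} {I : Ideal (PlRing K d n)}
    (h : ∀ s, IsStd s → U s → mon K s ∈ I) : stdSpan K U ≤ I.restrictScalars K := by
  refine Submodule.span_le.2 ?_
  rintro _ ⟨s, h1, h2, rfl⟩
  exact h s h1 h2

theorem span_std_mod_eq_top (I : Ideal (PlRing K d n)) (hI : plIdealTop K ≤ I)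
    (U : ∀ m, (Fin m → Idx d n) → Prop)
    (hU : ∀ {m} (c : Fin m → Idx d n), Antitone c → ¬ U m c → chainMon K c ∈ I) :
    Submodule.span K (Set.range fun c : (Σ m : ℕ, {c : Fin m → Idx d n // Antitone c ∧ U m c}) =>
      Ideal.Quotient.mk I (chainMon K c.2.1)) = ⊤ := by
  rw [eq_top_iff]
  rintro x -
  obtain ⟨P, rfl⟩ := Ideal.Quotient.mk_surjective x
  have hP := mem_span_mons P
  refine (Submodule.span_le.2 ?_ : Submodule.span K _ ≤
    (Submodule.span K _).comap (Ideal.Quotient.mkₐ K I).toLinearMap) hP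
  rintro _ ⟨s, rfl⟩
  have hs := straighten I (fun i j r hr => hI (Ideal.subset_span ⟨i, j, r, hr, rfl⟩)) s
  refine (sup_le (Submodule.span_le.2 ?_) ?_ : _ ≤
    (Submodule.span K _).comap (Ideal.Quotient.mkₐ K I).toLinearMap) hs
  · rintro _ ⟨t, ht, rfl⟩
    obtain ⟨c, hc, hcm, hce⟩ := exists_antitone_of_isStd ht.1
    rw [← hce, ← chainMon_eq_mon, SetLike.mem_coe, Submodule.mem_comap]
    by_cases hUc : U _ c
    · exact Submodule.subset_span ⟨⟨_, c, hc, hUc⟩, rfl⟩
    · rw [AlgHom.toLinearMap_apply, Ideal.Quotient.mkₐ_eq_mk,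
        Ideal.Quotient.eq_zero_iff_mem.2 (hU c hc hUc)]
      exact Submodule.zero_mem _
  · intro z hz
    rw [Submodule.mem_comap, AlgHom.toLinearMap_apply, Ideal.Quotient.mkₐ_eq_mk,
      Ideal.Quotient.eq_zero_iff_mem.2 hz]
    exact Submodule.zero_mem _

section Field

variable {F : Type u} [Field F] [Infinite F]

/-- Standard monomials on a union of Schubert varieties are linearly independent. -/
theorem linearIndependent_chains (hd : 0 < d) (T : Set (Idx d n)) (I : Ideal (PlRing F d n))
    (hI : ∀ τ ∈ T, I ≤ schubertVanishing F d n τ) (U : ∀ m, (Fin m → Idx d n) → Prop)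
    (hU : ∀ {m} (c : Fin m → Idx d n), U m c → ∃ τ ∈ T, ∀ k, c k ≤ τ) :
    LinearIndependent F (fun c : (Σ m : ℕ, {c : Fin m → Idx d n // Antitone c ∧ U m c}) =>
      Ideal.Quotient.mk I (chainMon F c.2.1)) := by
  classical
  rw [linearIndependent_iff']
  intro S g hsum c₀ hc₀
  let toM : (Σ m : ℕ, {c : Fin m → Idx d n // Antitone c ∧ U m c}) →
      Multiset (Idx d n) := fun c => Multiset.ofList (List.ofFn c.2.1)
  have hinj : Function.Injective toM := by
    rintro ⟨m, c, hc⟩ ⟨m', c', hc'⟩ h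
    have h' := antitone_multiset_injective hc.1 hc'.1 h
    simp only [Sigma.mk.injEq] at h'
    obtain ⟨rfl, h'⟩ := h'
    obtain rfl := eq_of_heq h'
    rfl
  obtain ⟨τ, hτ, hle⟩ := hU _ c₀.2.2.2
  have hmem : ∑ t ∈ S.image toM, Function.extend toM g 0 t • mon F t ∈
      schubertVanishing F d n τ := by
    rw [Finset.sum_image fun a _ b _ h => hinj h]
    simp only [hinj.extend_apply]
    refine hI τ hτ ((Ideal.Quotient.eq_zero_iff_mem).1 ?_)
    rw [map_sum]
    refine Eq.trans (Finset.sum_congr rfl fun c _ => ?_) hsum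
    rw [← chainMon_eq_mon, ← Ideal.Quotient.mkₐ_eq_mk F, map_smul]
  have h0 := coeff_eq_zero_of_mem hd (τ := τ) (fun s hs => ?_) hmem (toM c₀)
    (Finset.mem_image_of_mem _ hc₀) (fun θ hθ => ?_)
  · rwa [hinj.extend_apply] at h0
  · obtain ⟨c, -, rfl⟩ := Finset.mem_image.1 hs
    exact isStd_of_antitone c.2.2.1
  · simp only [toM, Multiset.mem_coe, List.mem_ofFn] at hθ
    obtain ⟨k, rfl⟩ := hθ
    exact hle k

theorem le_inf_iff' {θ a b : Idx d n} :
    θ ≤ W4bk4grassmannian.inf a b ↔ θ ≤ a ∧ θ ≤ b :=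
  ⟨fun h => ⟨fun t => (h t).trans (min_le_left _ _), fun t => (h t).trans (min_le_right _ _)⟩,
    fun h t => le_min (h.1 t) (h.2 t)⟩

theorem sup_schubertVanishing (hd : 0 < d) (a b : Idx d n) :
    schubertVanishing F d n a ⊔ schubertVanishing F d n b =
      schubertVanishing F d n (W4bk4grassmannian.inf a b) := by
  refine le_antisymm (sup_le (schubertVanishing_mono fun t => min_le_left _ _)
    (schubertVanishing_mono fun t => min_le_right _ _)) fun P hP => ?_
  have h := mem_iInf_schubert hd {W4bk4grassmannian.inf a b} (P := P)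
    fun x hx => by rw [Set.mem_singleton_iff.1 hx]; exact hP
  refine (sup_le (span_le_of_mon_mem fun s hs hU => ?_) ?_ :
    _ ≤ (schubertVanishing F d n a ⊔ schubertVanishing F d n b).restrictScalars F) h
  · obtain ⟨θ, hθ, hθle⟩ := hU _ rfl
    rw [le_inf_iff', not_and_or] at hθle
    rcases hθle with h' | h'
    · exact Ideal.mem_sup_left (mon_mem_of_mem (X_mem_schubertVanishing h') hθ)
    · exact Ideal.mem_sup_right (mon_mem_of_mem (X_mem_schubertVanishing h') hθ)
  · exact fun z hz => Ideal.mem_sup_left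
      (vanishing_le_schubertVanishing a (plIdealTop_le_vanishing hz))

theorem sup_span_X_eq_iInf (hd : 0 < d) (τ : Idx d n) (hτ : ∃ φ : Idx d n, φ < τ) :
    schubertVanishing F d n τ ⊔ Ideal.span {X τ} =
      ⨅ φ ∈ divisors τ, schubertVanishing F d n φ := by
  refine le_antisymm (le_iInf₂ fun φ hφ => ?_) fun P hP => ?_
  · refine sup_le (schubertVanishing_mono hφ.1.le) ((Ideal.span_singleton_le_iff_mem _).2 ?_)
    exact X_mem_schubertVanishing hφ.1.not_ge
  simp only [Ideal.mem_iInf] at hP
  have h := mem_iInf_schubert hd (divisors τ) (P := P) hP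
  refine (sup_le (span_le_of_mon_mem fun s hs hU => ?_) ?_ :
    _ ≤ (schubertVanishing F d n τ ⊔ Ideal.span {X τ}).restrictScalars F) h
  · by_cases hle : ∀ θ ∈ s, θ ≤ τ
    · have hτs : τ ∈ s := by
        by_cases h0 : s = 0
        · obtain ⟨φ₀, hφ₀⟩ := hτ
          obtain ⟨φ, hφ, -⟩ := exists_divisor_ge hφ₀
          obtain ⟨θ, hθ, -⟩ := hU φ hφ
          rw [h0] at hθ
          exact absurd hθ (Multiset.notMem_zero θ)
        obtain ⟨m, hm, hmax⟩ := hs.exists_max h0
        rcases eq_or_lt_of_le (hle m hm) with h' | h'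
        · exact h' ▸ hm
        · obtain ⟨φ, hφ, hmφ⟩ := exists_divisor_ge h'
          obtain ⟨θ, hθ, hθ'⟩ := hU φ hφ
          exact absurd ((hmax θ hθ).trans hmφ) hθ'
      exact Ideal.mem_sup_right (mon_mem_of_mem (Ideal.subset_span (Set.mem_singleton _)) hτs)
    · push Not at hle
      obtain ⟨θ, hθ, hθτ⟩ := hle
      exact Ideal.mem_sup_left (mon_mem_of_mem (X_mem_schubertVanishing hθτ) hθ)
  · exact fun z hz => Ideal.mem_sup_left
      (vanishing_le_schubertVanishing τ (plIdealTop_le_vanishing hz))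

end Field

end GrassLib
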