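import Groth.Agent.GrassLib.RegMod
import Groth.Agent.GrassLib.SMT
import Groth.Agent.GrassLib.Grading
import Groth.Agent.GrassLib.Expansion

/-!
Regular sequences on Schubert cones and their unions; Cohen–Macaulayness.
-/

universe u

open MvPolynomial

namespace GrassLib

open W4bk4grassmannian

variable {d n : ℕ} {K : Type u} [Field K]

/-- The sum of the coordinates of level `k`. -/
noncomputable def lsum (K : Type u) [CommRing K] (d n k : ℕ) : PlRing K d n :=
  ∑ θ ∈ Finset.univ.filter (fun θ : Idx d n => codeg θ = k), X θ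

/-- The sequence of level sums. -/
noncomputable def levels (K : Type u) [CommRing K] (d n : ℕ) : ℕ → List (PlRing K d n)
  | 0 => [lsum K d n 0]
  | c + 1 => lsum K d n (c + 1) :: levels K d n c

theorem levels_length (c : ℕ) : (levels K d n c).length = c + 1 := by
  induction c with
  | zero => rfl
  | succ c ih => simp [levels, ih]

theorem mem_levels {c k : ℕ} (h : k ≤ c) : lsum K d n k ∈ levels K d n c := by
  induction c with
  | zero => simp [levels, Nat.le_zero.1 h]
  | succ c ih =>
    rcases Nat.eq_or_lt_of_le h with rfl | h'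
    · simp [levels]
    · exact List.mem_cons_of_mem _ (ih (by omega))

theorem lsum_isHomogeneous (k : ℕ) : (lsum K d n k).IsHomogeneous 1 :=
  IsHomogeneous.sum _ _ _ fun θ _ => isHomogeneous_X K θ

theorem isHomogeneous_of_mem_levels {c : ℕ} {f : PlRing K d n} (h : f ∈ levels K d n c) :
    f.IsHomogeneous 1 := by
  induction c with
  | zero => simp only [levels, List.mem_singleton] at h; exact h ▸ lsum_isHomogeneous 0
  | succ c ih =>
    rcases List.mem_cons.1 h with h | h
    · exact h ▸ lsum_isHomogeneous _
    · exact ih h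

theorem codeg_lt_of_lt {φ w : Idx d n} (h : φ < w) : codeg φ < codeg w := by
  have := codeg_add φ; have := codeg_add w; have := wt_lt_of_lt h; omega

theorem not_le_of_codeg {φ w : Idx d n} (h : codeg w ≤ codeg φ) (hne : φ ≠ w) : ¬ φ ≤ w :=
  fun hle => absurd (codeg_lt_of_lt (lt_of_le_of_ne hle hne)) (not_lt.2 h)

theorem lsum_sub_X_mem (w : Idx d n) :
    lsum K d n (codeg w) - X w ∈ schubertVanishing K d n w := by
  classical
  rw [lsum, ← Finset.sum_erase_eq_sub (by simp : w ∈ Finset.univ.filter fun θ : Idx d n => codeg θ = codeg w)]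
  refine Ideal.sum_mem _ fun θ hθ => X_mem_schubertVanishing ?_
  obtain ⟨hne, hθ⟩ := Finset.mem_erase.1 hθ
  exact not_le_of_codeg (Finset.mem_filter.1 hθ).2.ge hne

theorem sup_span_lsum (w : Idx d n) :
    schubertVanishing K d n w ⊔ Ideal.span {lsum K d n (codeg w)} =
      schubertVanishing K d n w ⊔ Ideal.span {X w} := by
  have h := lsum_sub_X_mem (K := K) w
  refine le_antisymm (sup_le le_sup_left ((Ideal.span_singleton_le_iff_mem _).2 ?_))
    (sup_le le_sup_left ((Ideal.span_singleton_le_iff_mem _).2 ?_))
  · rw [show lsum K d n (codeg w) = (lsum K d n (codeg w) - X w) + X w by ring]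
    exact add_mem (Ideal.mem_sup_left h) (Ideal.mem_sup_right (Ideal.subset_span rfl))
  · rw [show (X w : PlRing K d n) = lsum K d n (codeg w) - (lsum K d n (codeg w) - X w) by ring]
    exact sub_mem (Ideal.mem_sup_right (Ideal.subset_span rfl)) (Ideal.mem_sup_left h)

variable [Infinite K]

theorem lsum_nzd (hd : 0 < d) (w : Idx d n) (x : PlRing K d n)
    (hx : lsum K d n (codeg w) * x ∈ schubertVanishing K d n w) :
    x ∈ schubertVanishing K d n w := by
  refine ((schubertVanishing_isPrime hd w).mem_or_mem hx).resolve_left fun h => ?_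
  refine (X_mem_schubertVanishing_iff (K := K) hd).1 ?_ (le_refl w)
  rw [show (X w : PlRing K d n) = lsum K d n (codeg w) - (lsum K d n (codeg w) - X w) by ring]
  exact sub_mem h (lsum_sub_X_mem w)

theorem sup_inf_schubert (hd : 0 < d) (w : Idx d n) (T : Finset (Idx d n)) :
    schubertVanishing K d n w ⊔ T.inf (schubertVanishing K d n) =
      (T.image (W4bk4grassmannian.inf w)).inf (schubertVanishing K d n) := by
  classical
  refine le_antisymm (Finset.le_inf fun χ hχ => ?_) fun P hP => ?_
  · obtain ⟨τ, hτ, rfl⟩ := Finset.mem_image.1 hχ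
    exact sup_le (schubertVanishing_mono fun t => min_le_left _ _)
      ((Finset.inf_le hτ).trans (schubertVanishing_mono fun t => min_le_right _ _))
  · have h := mem_iInf_schubert hd (↑(T.image (W4bk4grassmannian.inf w))) (P := P)
      fun χ hχ => Finset.inf_le (f := schubertVanishing K d n) (Finset.mem_coe.1 hχ) hP
    refine (sup_le (span_le_of_mon_mem fun s hs hU => ?_) ?_ :
      _ ≤ (schubertVanishing K d n w ⊔ T.inf (schubertVanishing K d n)).restrictScalars K) h
    · by_cases hle : ∀ θ ∈ s, θ ≤ w
      · refine Ideal.mem_sup_right ((Submodule.mem_finsetInf).2 fun τ hτ => ?_)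
        obtain ⟨θ, hθ, hθ'⟩ := hU _ (Finset.mem_coe.2 (Finset.mem_image_of_mem _ hτ))
        refine mon_mem_of_mem (X_mem_schubertVanishing fun hle' => hθ' ?_) hθ
        exact le_inf_iff'.2 ⟨hle θ hθ, hle'⟩
      · push Not at hle
        obtain ⟨θ, hθ, hθw⟩ := hle
        exact Ideal.mem_sup_left (mon_mem_of_mem (X_mem_schubertVanishing hθw) hθ)
    · exact fun z hz => Ideal.mem_sup_left
        (vanishing_le_schubertVanishing w (plIdealTop_le_vanishing hz))

theorem inf_mem_divisors {p w τ : Idx d n} (hw : w ∈ divisors p) (hτ : τ ∈ divisors p)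
    (hne : w ≠ τ) : W4bk4grassmannian.inf w τ ∈ divisors w := by
  have hw' := (mem_divisors_iff.1 hw).2
  have hτ' := (mem_divisors_iff.1 hτ).2
  have h1 : wt (W4bk4grassmannian.sup w τ) ≤ wt p :=
    Finset.sum_le_sum fun t _ => Fin.le_def.1 (sup_le' hw.1.le hτ.1.le t)
  have hnle : ¬ τ ≤ w := fun h => by
    have := wt_lt_of_lt (lt_of_le_of_ne h hne.symm); omega
  have h2 : w < W4bk4grassmannian.sup w τ :=
    lt_of_le_of_ne (le_sup_left' w τ) fun h => hnle (h.symm ▸ le_sup_right' w τ)
  have h3 := wt_lt_of_lt h2
  have h4 := wt_sup_add_inf w τ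
  refine mem_divisors_iff.2 ⟨lt_of_le_of_ne (inf_le_left' w τ) fun h => ?_, by omega⟩
  rw [h] at h4; omega

/-- The induction step on unions of divisors. -/
theorem regMod_union_aux (hd : 0 < d) (c : ℕ)
    (hA : ∀ w : Idx d n, codeg w = c → RegMod (schubertVanishing K d n w) (levels K d n c))
    (hB : ∀ c', c = c' + 1 → ∀ p : Idx d n, codeg p = c → ∀ T : Finset (Idx d n),
      (∀ τ ∈ T, τ ∈ divisors p) → RegMod (T.inf (schubertVanishing K d n)) (levels K d n c'))
    (p : Idx d n) (hp : codeg p = c + 1) (T : Finset (Idx d n)) (hT : ∀ τ ∈ T, τ ∈ divisors p) :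
    RegMod (T.inf (schubertVanishing K d n)) (levels K d n c) := by
  classical
  induction T using Finset.induction_on with
  | empty => rw [Finset.inf_empty]; exact regMod_top _
  | @insert w T hwT ih =>
    have hw := hT w (Finset.mem_insert_self _ _)
    have hT' : ∀ τ ∈ T, τ ∈ divisors p := fun τ h => hT τ (Finset.mem_insert_of_mem h)
    have hwc : codeg w = c := by have := hw.2; omega
    rw [Finset.inf_insert]
    rcases T.eq_empty_or_nonempty with rfl | _
    · rw [Finset.inf_empty, inf_top_eq]; exact hA w hwc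
    have hXB : X w ∈ T.inf (schubertVanishing K d n) := by
      refine (Submodule.mem_finsetInf).2 fun τ hτ => X_mem_schubertVanishing ?_
      exact not_le_of_codeg (by have := (hT' τ hτ).2; omega) fun h => hwT (h ▸ hτ)
    have hf : lsum K d n (codeg w) ∈
        schubertVanishing K d n w ⊔ T.inf (schubertVanishing K d n) := by
      rw [show lsum K d n (codeg w) = (lsum K d n (codeg w) - X w) + X w by ring]
      exact add_mem (Ideal.mem_sup_left (lsum_sub_X_mem w)) (Ideal.mem_sup_right hXB)
    cases c with
    | zero =>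
      exact regMod_glue _ _ _ _ (hA w hwc) (ih hT') (hwc ▸ hf) trivial
    | succ c' =>
      refine regMod_glue _ _ _ _ (hA w hwc) (ih hT') (hwc ▸ hf) ?_
      rw [sup_inf_schubert hd]
      refine hB c' rfl w hwc _ fun χ hχ => ?_
      obtain ⟨τ, hτ, rfl⟩ := Finset.mem_image.1 hχ
      exact inf_mem_divisors hw (hT' τ hτ) fun h => hwT (h ▸ hτ)

theorem regMod_levels (hd : 0 < d) : ∀ c : ℕ,
    (∀ w : Idx d n, codeg w = c → RegMod (schubertVanishing K d n w) (levels K d n c)) ∧
      ∀ p : Idx d n, codeg p = c + 1 → ∀ T : Finset (Idx d n), (∀ τ ∈ T, τ ∈ divisors p) →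
        RegMod (T.inf (schubertVanishing K d n)) (levels K d n c)
  | 0 => by
    have hA : ∀ w : Idx d n, codeg w = 0 → RegMod (schubertVanishing K d n w) (levels K d n 0) :=
      fun w hw => ⟨fun x hx => lsum_nzd hd w x (hw.symm ▸ hx), trivial⟩
    exact ⟨hA, fun p hp T hT => regMod_union_aux hd 0 hA (fun c' h => absurd h (by omega)) p hp T hT⟩
  | c + 1 => by
    classical
    obtain ⟨-, hB⟩ := regMod_levels hd c
    have hA : ∀ w : Idx d n, codeg w = c + 1 →
        RegMod (schubertVanishing K d n w) (levels K d n (c + 1)) := by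
      intro w hw
      refine ⟨fun x hx => lsum_nzd hd w x (hw.symm ▸ hx), ?_⟩
      have hex : ∃ φ : Idx d n, φ < w := by
        let φ : Idx d n := ⟨fun s => ⟨s.val, lt_of_le_of_lt (val_le_idx w s) (w.1 s).isLt⟩,
          fun a b h => Fin.mk_lt_mk.2 (Fin.lt_def.1 h)⟩
        refine ⟨φ, lt_of_le_of_ne (fun s => Fin.le_def.2 (val_le_idx w s)) fun h => ?_⟩
        have h0 : codeg w = 0 := by
          rw [← h, codeg]; exact Finset.sum_eq_zero fun t _ => Nat.sub_self _
        omega
      rw [← hw, sup_span_lsum, sup_span_X_eq_iInf hd w hex]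
      have hfin : (⨅ φ ∈ divisors w, schubertVanishing K d n φ) =
          (Set.toFinset (divisors w)).inf (schubertVanishing K d n) := by
        rw [Finset.inf_eq_iInf]; simp
      rw [hfin]
      exact hB w hw _ fun τ hτ => Set.mem_toFinset.1 hτ
    exact ⟨hA, fun p hp T hT => regMod_union_aux hd (c + 1) hA
      (fun c' h => by obtain rfl : c = c' := by omega
                      exact hB) p hp T hT⟩

/-- Products of distinct coordinates of one level only involve higher coordinates. -/
theorem X_mul_X_mem (hd : 0 < d) (I : Ideal (PlRing K d n)) (hI : plIdealTop K ≤ I) {k : ℕ}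
    (hhigh : ∀ θ : Idx d n, k < codeg θ → X θ ∈ I) {θ θ' : Idx d n} (hθ : codeg θ = k)
    (hθ' : codeg θ' = k) (hne : θ ≠ θ') : X θ * X θ' ∈ I := by
  classical
  have h := mem_iInf_schubert hd {τ : Idx d n | codeg τ ≤ k} (P := (X θ * X θ' : PlRing K d n))
    (fun τ hτ => by
      by_cases hle : θ ≤ τ
      · by_cases hle' : θ' ≤ τ
        · refine absurd ?_ hne
          have e1 : θ = τ := by
            by_contra h; have := codeg_lt_of_lt (lt_of_le_of_ne hle h); simp at hτ; omega
          have e2 : θ' = τ := by
            by_contra h; have := codeg_lt_of_lt (lt_of_le_of_ne hle' h); simp at hτ; omega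
          rw [e1, e2]
        · exact Ideal.mul_mem_left _ _ (X_mem_schubertVanishing hle')
      · exact Ideal.mul_mem_right _ _ (X_mem_schubertVanishing hle))
  refine (sup_le (span_le_of_mon_mem fun s hs hU => ?_) ?_ : _ ≤ I.restrictScalars K) h
  · have hne0 : s ≠ 0 := by
      rintro rfl
      obtain ⟨x, hx, -⟩ := hU θ (le_of_eq hθ)
      exact Multiset.notMem_zero x hx
    obtain ⟨m, hm, hmax⟩ := hs.exists_max hne0
    refine mon_mem_of_mem (hhigh m ?_) hm
    by_contra hmk
    obtain ⟨x, hx, hx'⟩ := hU m (not_lt.1 hmk)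
    exact hx' (hmax x hx)
  · exact hI

theorem X_mem_radical (hd : 0 < d) (I : Ideal (PlRing K d n)) (c : ℕ) (hI : plIdealTop K ≤ I)
    (hhigh : ∀ θ : Idx d n, c < codeg θ → X θ ∈ I) (θ : Idx d n) :
    X θ ∈ (I ⊔ Ideal.ofList (levels K d n c)).radical := by
  classical
  set M := I ⊔ Ideal.ofList (levels K d n c)
  suffices H : ∀ j (θ : Idx d n), c < codeg θ + j → X θ ∈ M.radical from H (c + 1) θ (by omega)
  intro j
  induction j with
  | zero => exact fun θ h => Ideal.le_radical (Ideal.mem_sup_left (hhigh θ (by omega)))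
  | succ j ih =>
    intro θ h
    by_cases hk : c < codeg θ
    · exact Ideal.le_radical (Ideal.mem_sup_left (hhigh θ hk))
    refine (Ideal.radical_isRadical M) ⟨2, ?_⟩
    have hsq : (X θ : PlRing K d n) ^ 2 = X θ * lsum K d n (codeg θ) -
        ∑ θ' ∈ (Finset.univ.filter fun θ' : Idx d n => codeg θ' = codeg θ).erase θ, X θ * X θ' := by
      rw [lsum, ← Finset.mul_sum, Finset.sum_erase_eq_sub (by simp)]
      ring
    rw [hsq]
    refine sub_mem (Ideal.le_radical (Ideal.mem_sup_right (Ideal.mul_mem_left _ _ ?_)))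
      (Ideal.sum_mem _ fun θ' hθ' => ?_)
    · exact Ideal.subset_span (mem_levels (by omega))
    · obtain ⟨hne, hθ'⟩ := Finset.mem_erase.1 hθ'
      exact X_mul_X_mem hd M.radical ((hI.trans le_sup_left).trans Ideal.le_radical)
        (fun χ hχ => ih χ (by omega)) rfl (Finset.mem_filter.1 hθ').2 hne.symm

theorem homogeneousComponent_mul_of_linear {σ : Type*} {f L : MvPolynomial σ K}
    (hL : L.IsHomogeneous 1) (k : ℕ) :
    homogeneousComponent (k + 1) (f * L) = homogeneousComponent k f * L := by
  conv_lhs => rw [← sum_homogeneousComponent f, Finset.sum_mul, map_sum]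
  have hcomp : ∀ i, homogeneousComponent (k + 1) (homogeneousComponent i f * L) =
      if i = k then homogeneousComponent i f * L else 0 := by
    intro i
    rw [homogeneousComponent_of_mem ((homogeneousComponent_isHomogeneous i f).mul hL)]
    exact if_congr (by omega) rfl rfl
  rw [Finset.sum_congr rfl fun i _ => hcomp i, Finset.sum_ite_eq']
  split_ifs with hk
  · rfl
  · rw [homogeneousComponent_eq_zero (φ := f) (n := k) (by simp only [Finset.mem_range] at hk; omega),
      zero_mul]

theorem homogeneousComponent_zero_mul_of_linear {σ : Type*} {f L : MvPolynomial σ K}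
    (hL : L.IsHomogeneous 1) : homogeneousComponent 0 (f * L) = 0 := by
  conv_lhs => rw [← sum_homogeneousComponent f, Finset.sum_mul, map_sum]
  refine Finset.sum_eq_zero fun i _ => ?_
  rw [homogeneousComponent_of_mem ((homogeneousComponent_isHomogeneous i f).mul hL), if_neg (by omega)]

/-- Cohen–Macaulayness from a regular sequence of linear forms cutting out the vertex. -/
theorem isCohenMacaulay_quotient (hd : 0 < d) (I : Ideal (PlRing K d n)) (c : ℕ)
    (hI : plIdealTop K ≤ I) (hhigh : ∀ θ : Idx d n, c < codeg θ → X θ ∈ I)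
    (hhom : ∀ P ∈ I, ∀ k, homogeneousComponent k P ∈ I) (hne : I ≠ ⊤)
    (hreg : RegMod I (levels K d n c)) :
    LocCoh.IsCohenMacaulayRing (PlRing K d n ⧸ I) ∧
      ringKrullDim (PlRing K d n ⧸ I) = ((c + 1 : ℕ) : WithBot ℕ∞) := by
  classical
  have := Ideal.Quotient.nontrivial_iff.2 hne
  set fs := levels K d n c with hfs
  set M := I ⊔ Ideal.ofList fs with hM
  let π : PlRing K d n →ₗ[K] PlRing K d n ⧸ M := (Ideal.Quotient.mkₐ K M).toLinearMap
  choose N hN using fun θ : Idx d n => X_mem_radical hd I c hI hhigh θ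
  let box : Finset ((Idx d n) →₀ ℕ) :=
    (Fintype.piFinset fun θ : Idx d n => Finset.range (N θ + 1)).map
      Finsupp.equivFunOnFinite.symm.toEmbedding
  let U : Set (PlRing K d n ⧸ M) := (fun e => π (monomial e 1)) '' ↑box
  have hU : ∀ P, π P ∈ Submodule.span K U := by
    intro P
    induction P using MvPolynomial.induction_on' with
    | monomial e a =>
      rw [show monomial e a = a • monomial e (1 : K) by rw [smul_monomial, smul_eq_mul, mul_one],
        map_smul]
      refine Submodule.smul_mem _ _ ?_
      by_cases he : e ∈ box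
      · exact Submodule.subset_span ⟨e, he, rfl⟩
      · obtain ⟨θ, hθ⟩ : ∃ θ, N θ < e θ := by
          by_contra hcon
          push Not at hcon
          refine he (Finset.mem_map.2 ⟨fun θ => e θ, ?_, Finsupp.ext fun θ => rfl⟩)
          exact Fintype.mem_piFinset.2 fun θ => Finset.mem_range.2 (Nat.lt_succ_of_le (hcon θ))
        have h0 : π (monomial e 1) = 0 := by
          refine Ideal.Quotient.eq_zero_iff_mem.2 ?_
          refine Ideal.mem_of_dvd _ ?_ (hN θ)
          rw [X_pow_eq_monomial, monomial_dvd_monomial]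
          exact ⟨Or.inr (Finsupp.single_le_iff.2 hθ.le), dvd_rfl⟩
        rw [h0]
        exact Submodule.zero_mem _
    | add p q hp hq => rw [map_add]; exact Submodule.add_mem _ hp hq
  obtain ⟨b', hb', hbspan, hbli⟩ := exists_linearIndependent K U
  have : Fintype b' := ((box.finite_toSet.image _).subset hb').fintype
  choose ex hexbox hex using fun j : b' => hb' j.2
  let b : b' → PlRing K d n := fun j => monomial (ex j) 1
  have hbπ : ∀ j, π (b j) = j.1 := hex
  have hind : ∀ a : b' → K, ∑ j, a j • b j ∈ M → a = 0 := by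
    intro a ha
    refine funext (Fintype.linearIndependent_iff.1 hbli a ?_)
    have h : π (∑ j, a j • b j) = 0 := Ideal.Quotient.eq_zero_iff_mem.2 ha
    rw [map_sum] at h
    rw [← h]
    exact Finset.sum_congr rfl fun j _ => by rw [map_smul, hbπ]
  let ev : MvPolynomial (Fin fs.length) K →ₐ[K] PlRing K d n := aeval fs.get
  letI : Algebra (MvPolynomial (Fin fs.length) K) (PlRing K d n ⧸ I) :=
    ((Ideal.Quotient.mkₐ K I).comp ev).toRingHom.toAlgebra
  have hsmul : ∀ p x, p • Ideal.Quotient.mk I x = Ideal.Quotient.mk I (ev p * x) := fun p x => by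
    rw [Algebra.smul_def, map_mul]
    rfl
  let bR : b' → PlRing K d n ⧸ I := fun j => Ideal.Quotient.mk I (b j)
  have hli : LinearIndependent (MvPolynomial (Fin fs.length) K) bR := by
    rw [Fintype.linearIndependent_iff]
    intro g hg
    refine congrFun (regMod_indep b fs I hreg hind g ?_)
    rw [← Ideal.Quotient.eq_zero_iff_mem, map_sum, ← hg]
    exact Finset.sum_congr rfl fun j _ => (hsmul _ _).symm
  have hspan : ⊤ ≤ Submodule.span (MvPolynomial (Fin fs.length) K) (Set.range bR) := by
    set W := Submodule.span (MvPolynomial (Fin fs.length) K) (Set.range bR)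
    have hK : ∀ (a : K) x, Ideal.Quotient.mk I x ∈ W → Ideal.Quotient.mk I (a • x) ∈ W := by
      intro a x hx
      have := W.smul_mem (C a) hx
      rwa [hsmul, show ev (C a) * x = a • x by simp [ev, smul_eq_C_mul]] at this
    suffices H : ∀ k (Q : PlRing K d n), Q.IsHomogeneous k → Ideal.Quotient.mk I Q ∈ W by
      rintro x -
      obtain ⟨P, rfl⟩ := Ideal.Quotient.mk_surjective x
      rw [← sum_homogeneousComponent P, map_sum]
      exact Submodule.sum_mem _ fun k _ => H k _ (homogeneousComponent_isHomogeneous k P)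
    intro k
    induction k using Nat.strong_induction_on with
    | _ k ih =>
      intro Q hQ
      have hrange : π Q ∈ Submodule.span K (Set.range fun j => π (b j)) := by
        rw [show (Set.range fun j => π (b j)) = b' by
          simp only [hbπ]; exact Subtype.range_coe, hbspan]
        exact hU Q
      obtain ⟨a, ha⟩ := (Submodule.mem_span_range_iff_exists_fun K).1 hrange
      have hdiff : Q - ∑ j, a j • b j ∈ M := by
        rw [← Ideal.Quotient.eq_zero_iff_mem]
        show π (Q - ∑ j, a j • b j) = 0
        rw [map_sub, map_sum, ← ha, sub_eq_zero]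
        exact Finset.sum_congr rfl fun j _ => (map_smul π (a j) (b j)).symm
      obtain ⟨i, hi, z, hz, hiz⟩ := Submodule.mem_sup.1 hdiff
      rw [Ideal.ofList, show {x | x ∈ fs} = Set.range fs.get from (Set.range_list_get fs).symm] at hz
      obtain ⟨g, rfl⟩ := (Ideal.mem_span_range_iff_exists_fun).1 hz
      have hQeq : Q = homogeneousComponent k (∑ j, a j • b j) + homogeneousComponent k i +
          ∑ j, homogeneousComponent k (g j * fs.get j) := by
        rw [← map_sum, ← map_add, ← map_add, show ∑ j, a j • b j + i + ∑ j, g j * fs.get j = Q by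
          linear_combination hiz]
        exact (homogeneousComponent_eq_self hQ).symm
      rw [hQeq, map_add, map_add]
      refine Submodule.add_mem _ (Submodule.add_mem _ ?_ ?_) ?_
      · rw [map_sum, map_sum]
        refine Submodule.sum_mem _ fun j _ => ?_
        rw [map_smul]
        refine hK _ _ ?_
        rw [homogeneousComponent_of_mem (isHomogeneous_monomial (1 : K) rfl)]
        split_ifs
        · exact Submodule.subset_span ⟨j, rfl⟩
        · rw [map_zero]; exact Submodule.zero_mem _
      · rw [Ideal.Quotient.eq_zero_iff_mem.2 (hhom i hi k)]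
        exact Submodule.zero_mem _
      · rw [map_sum]
        refine Submodule.sum_mem _ fun j _ => ?_
        have hL : (fs.get j).IsHomogeneous 1 := isHomogeneous_of_mem_levels (List.get_mem fs j)
        cases k with
        | zero =>
          rw [homogeneousComponent_zero_mul_of_linear hL, map_zero]
          exact Submodule.zero_mem _
        | succ k =>
          rw [homogeneousComponent_mul_of_linear hL, mul_comm,
            show fs.get j = ev (X j) by simp [ev], ← hsmul]
          exact W.smul_mem _ (ih k (Nat.lt_succ_self k) _ (homogeneousComponent_isHomogeneous k _))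
  let B := Module.Basis.mk hli hspan
  have : Module.Free (MvPolynomial (Fin fs.length) K) (PlRing K d n ⧸ I) := Module.Free.of_basis B
  have : Module.Finite (MvPolynomial (Fin fs.length) K) (PlRing K d n ⧸ I) := Module.Finite.of_basis B
  obtain ⟨h1, h2⟩ := isCohenMacaulayRing_of_free (K := K) (R := PlRing K d n ⧸ I) (e := fs.length)
  exact ⟨h1, by rw [h2, hfs, levels_length]⟩

theorem homogeneousComponent_mem (hd : 0 < d) (w : Idx d n) {P : PlRing K d n}
    (hP : P ∈ schubertVanishing K d n w) (k : ℕ) :
    homogeneousComponent k P ∈ schubertVanishing K d n w := by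
  rw [schubertVanishing_eq_ker hd, RingHom.mem_ker] at hP ⊢
  rw [← triMap_homogeneousComponent hd, hP, map_zero]

theorem isCohenMacaulay_schubert (hd : 0 < d) (w : Idx d n) :
    LocCoh.IsCohenMacaulayRing (PlRing K d n ⧸ schubertVanishing K d n w) :=
  (isCohenMacaulay_quotient hd _ (codeg w)
    ((plIdealTop_le_plIdeal w).trans (plIdeal_le_schubertVanishing w))
    (fun θ hθ => X_mem_schubertVanishing fun hle => by
      rcases eq_or_lt_of_le hle with rfl | h
      · omega
      · have := codeg_lt_of_lt h; omega)
    (fun P hP k => homogeneousComponent_mem hd w hP k)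
    (schubertVanishing_isPrime hd w).ne_top ((regMod_levels hd _).1 w rfl)).1

theorem isCohenMacaulayRing_of_subsingleton (R : Type u) [CommRing R] [IsNoetherianRing R]
    [Subsingleton R] : LocCoh.IsCohenMacaulayRing R :=
  { isCohenMacaulayLocalRing_localization := fun p hp =>
      absurd ((Ideal.eq_top_iff_one p).2 ((Subsingleton.elim (0 : R) 1) ▸ p.zero_mem)) hp.ne_top }

theorem isCohenMacaulay_union (hd : 0 < d) (p : Idx d n) (T : Finset (Idx d n))
    (hT : ∀ τ ∈ T, τ ∈ divisors p) :
    LocCoh.IsCohenMacaulayRing (PlRing K d n ⧸ T.inf (schubertVanishing K d n)) := by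
  classical
  rcases T.eq_empty_or_nonempty with rfl | ⟨τ₀, hτ₀⟩
  · have : Subsingleton (PlRing K d n ⧸ (∅ : Finset (Idx d n)).inf (schubertVanishing K d n)) :=
      Ideal.Quotient.subsingleton_iff.2 Finset.inf_empty
    exact isCohenMacaulayRing_of_subsingleton _
  have hc : codeg p = codeg τ₀ + 1 := (hT τ₀ hτ₀).2.symm
  refine (isCohenMacaulay_quotient hd _ (codeg τ₀)
    (Finset.le_inf fun τ _ => (plIdealTop_le_plIdeal τ).trans (plIdeal_le_schubertVanishing τ))
    (fun θ hθ => (Submodule.mem_finsetInf).2 fun τ hτ => X_mem_schubertVanishing fun hle => by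
      have := (hT τ hτ).2
      rcases eq_or_lt_of_le hle with rfl | h
      · omega
      · have := codeg_lt_of_lt h; omega)
    (fun P hP k => (Submodule.mem_finsetInf).2 fun τ hτ =>
      homogeneousComponent_mem hd τ ((Submodule.mem_finsetInf).1 hP τ hτ) k)
    (fun h => (schubertVanishing_isPrime hd τ₀).ne_top
      (top_le_iff.1 (h ▸ Finset.inf_le hτ₀)))
    ((regMod_levels hd _).2 p hc T hT)).1

end GrassLib
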