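import Mathlib
import Groth.Agent.GrassLib.SMT
import Groth.Prelude.Def_CAlgX

/-!
The opposite big cell of the Grassmannian and minors of a generic matrix.
-/

universe u

open MvPolynomial Matrix

namespace GrassLib

open W4bk4grassmannian

/-! ### Counting functions of indices -/

/-- The number of entries of `θ` which are at least `v`. -/
def cnt {d n : ℕ} (v : ℕ) (θ : Idx d n) : ℕ :=
  (Finset.univ.filter fun t : Fin d => v ≤ (θ.1 t).val).card

theorem cnt_le_cnt {d n : ℕ} {θ θ' : Idx d n} (h : θ ≤ θ') (v : ℕ) : cnt v θ ≤ cnt v θ' :=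
  Finset.card_le_card fun t ht => by
    simp only [Finset.mem_filter, Finset.mem_univ, true_and] at ht ⊢
    exact le_trans ht (Fin.le_def.1 (h t))

theorem le_of_cnt {d n : ℕ} {θ θ' : Idx d n} (h : ∀ v, v < n → cnt v θ ≤ cnt v θ') : θ ≤ θ' := by
  intro t
  by_contra hlt
  rw [Fin.le_def, not_le] at hlt
  have h1 : (Finset.Ici t).card ≤ cnt (θ.1 t).val θ := Finset.card_le_card fun s hs => by
    simp only [Finset.mem_filter, Finset.mem_univ, true_and]
    exact Fin.le_def.1 (θ.2.monotone (Finset.mem_Ici.1 hs))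
  have h2 : cnt (θ.1 t).val θ' ≤ (Finset.Ioi t).card := Finset.card_le_card fun s hs => by
    simp only [Finset.mem_filter, Finset.mem_univ, true_and] at hs
    rw [Finset.mem_Ioi]
    by_contra hst
    rw [not_lt] at hst
    have := Fin.le_def.1 (θ'.2.monotone hst)
    omega
  have := h _ (θ.1 t).isLt
  simp only [Fin.card_Ici, Fin.card_Ioi] at h1 h2
  omega

theorem lt_count_iff {m p p' : ℕ} {a : Fin p → Fin m} {a' : Fin p' → Fin m}
    (ha : StrictMono a) (ha' : StrictMono a') :
    (∀ u, u ≤ m → (Finset.univ.filter fun j => (a j).val < u).card ≤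
        (Finset.univ.filter fun j => (a' j).val < u).card) ↔
      p ≤ p' ∧ ∀ (j : Fin p) (j' : Fin p'), j.val = j'.val → a' j' ≤ a j := by
  constructor
  · intro h
    have hp : p ≤ p' := by
      simpa [Finset.filter_true_of_mem] using h m le_rfl
    refine ⟨hp, fun j j' hjj' => ?_⟩
    by_contra hlt
    rw [Fin.le_def, not_le] at hlt
    have h1 : (Finset.Iic j).card ≤ (Finset.univ.filter fun i => (a i).val < (a j).val + 1).card :=
      Finset.card_le_card fun i hi => by
        simp only [Finset.mem_filter, Finset.mem_univ, true_and]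
        have := Fin.le_def.1 (ha.monotone (Finset.mem_Iic.1 hi))
        omega
    have h2 : (Finset.univ.filter fun i => (a' i).val < (a j).val + 1).card ≤ (Finset.Iio j').card :=
      Finset.card_le_card fun i hi => by
        simp only [Finset.mem_filter, Finset.mem_univ, true_and] at hi
        rw [Finset.mem_Iio]
        by_contra hij
        rw [not_lt] at hij
        have := Fin.le_def.1 (ha'.monotone hij)
        omega
    have := h ((a j).val + 1) (a j).isLt
    simp only [Fin.card_Iic, Fin.card_Iio] at h1 h2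
    omega
  · rintro ⟨hp, h⟩ u -
    refine Finset.card_le_card_of_injOn (fun j => Fin.castLE hp j) (fun j hj => ?_)
      (Fin.castLE_injective hp).injOn
    simp only [Finset.coe_filter, Finset.mem_univ, true_and, Set.mem_ofPred_eq] at hj ⊢
    exact lt_of_le_of_lt (Fin.le_def.1 (h j (Fin.castLE hp j) rfl)) hj

/-! ### Indices of minors as indices of Plücker coordinates -/

variable {d r : ℕ}

/-- The set of rows of `[I_d ; Z]` attached to the minor `[a | b]` of `Z` with its rows reversed. -/
def rowSet {q : ℕ} (a : Fin q → Fin r) (b : Fin q → Fin d) : Finset (Fin (d + r)) :=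
  (Finset.univ.image b)ᶜ.map (Fin.castAddEmb r) ∪
    (Finset.univ.image fun j => (a j).rev).map (Fin.natAddEmb d)

theorem disjoint_parts (S : Finset (Fin d)) (T : Finset (Fin r)) :
    Disjoint (S.map (Fin.castAddEmb r)) (T.map (Fin.natAddEmb d)) := by
  rw [Finset.disjoint_left]
  intro x hx hx'
  simp only [Finset.mem_map, Fin.castAddEmb_apply, Fin.natAddEmb_apply] at hx hx'
  obtain ⟨s, -, rfl⟩ := hx
  obtain ⟨t, -, ht⟩ := hx'
  have := congrArg Fin.val ht
  simp only [Fin.val_castAdd, Fin.val_natAdd] at this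
  omega

theorem card_rowSet {q : ℕ} {a : Fin q → Fin r} {b : Fin q → Fin d} (ha : StrictMono a)
    (hb : StrictMono b) : (rowSet a b).card = d := by
  have hq : q ≤ d := by simpa using Fintype.card_le_of_injective b hb.injective
  rw [rowSet, Finset.card_union_of_disjoint (disjoint_parts _ _), Finset.card_map, Finset.card_map,
    Finset.card_compl, Finset.card_image_of_injective _ hb.injective,
    Finset.card_image_of_injective (f := fun j => (a j).rev) _ (Fin.rev_injective.comp ha.injective), Fintype.card_fin,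
    Finset.card_fin]
  omega

/-- The Plücker index attached to a minor. -/
noncomputable def minorToIdx (M : MinorIdx r d) : Idx d (d + r) :=
  ⟨fun t => (rowSet M.2.1.1 M.2.2.1).orderEmbOfFin (card_rowSet M.2.1.2 M.2.2.2) t,
    ((rowSet M.2.1.1 M.2.2.1).orderEmbOfFin (card_rowSet M.2.1.2 M.2.2.2)).strictMono⟩

theorem image_minorToIdx (M : MinorIdx r d) :
    Finset.univ.image (minorToIdx M).1 = rowSet M.2.1.1 M.2.2.1 :=
  Finset.image_orderEmbOfFin_univ _ _

theorem idx_ext {d n : ℕ} {θ θ' : Idx d n}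
    (h : Finset.univ.image θ.1 = Finset.univ.image θ'.1) : θ = θ' := by
  have hc : (Finset.univ.image θ'.1).card = d := (image_card_iff_injective _).2 θ'.2.injective
  apply Subtype.ext
  exact (Finset.orderEmbOfFin_unique hc (f := θ.1)
      (fun t => h ▸ Finset.mem_image_of_mem _ (Finset.mem_univ t)) θ.2).trans
    (Finset.orderEmbOfFin_unique hc (f := θ'.1)
      (fun t => Finset.mem_image_of_mem _ (Finset.mem_univ t)) θ'.2).symm

theorem cnt_minorToIdx (M : MinorIdx r d) (v : ℕ) :
    cnt v (minorToIdx M) =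
      (((Finset.univ.image M.2.2.1)ᶜ).filter fun i : Fin d => v ≤ i.val).card +
        (Finset.univ.filter fun j => v ≤ d + (M.2.1.1 j).rev.val).card := by
  have h1 : cnt v (minorToIdx M) =
      ((rowSet M.2.1.1 M.2.2.1).filter fun x => v ≤ x.val).card := by
    rw [← image_minorToIdx, Finset.filter_image,
      Finset.card_image_of_injective _ (minorToIdx M).2.injective]
    rfl
  rw [h1, rowSet, Finset.filter_union, Finset.card_union_of_disjoint
    (Finset.disjoint_filter_filter (disjoint_parts _ _)), Finset.filter_map, Finset.filter_map,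
    Finset.card_map, Finset.card_map, Finset.filter_image,
    Finset.card_image_of_injective (f := fun j => (M.2.1.1 j).rev) _
      (Fin.rev_injective.comp M.2.1.2.injective)]
  rfl

theorem cnt_minorToIdx_low (M : MinorIdx r d) (v : ℕ) (hv : v ≤ d) :
    cnt v (minorToIdx M) =
      (d - v) + (Finset.univ.filter fun j => (M.2.2.1 j).val < v).card := by
  rw [cnt_minorToIdx]
  have h1 : (Finset.univ.filter fun j => v ≤ d + (M.2.1.1 j).rev.val).card = M.1 + 1 := by
    rw [Finset.filter_true_of_mem fun j _ => by omega, Finset.card_fin]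
  have h2 := Finset.card_filter_add_card_filter_not
    (s := Finset.univ.filter fun i : Fin d => v ≤ i.val) (fun i => i ∈ Finset.univ.image M.2.2.1)
  have h3 : (Finset.univ.filter fun i : Fin d => v ≤ i.val).card = d - v := by
    rcases Nat.lt_or_ge v d with hlt | hge
    · rw [show (Finset.univ.filter fun i : Fin d => v ≤ i.val) = Finset.Ici ⟨v, hlt⟩ by
        ext i; simp [Fin.le_def], Fin.card_Ici]
    · rw [Finset.filter_false_of_mem fun i _ => by omega, Finset.card_empty]
      omega
  have h4 : (Finset.univ.filter fun i : Fin d => v ≤ i.val).filter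
      (fun i => i ∈ Finset.univ.image M.2.2.1) =
      (Finset.univ.filter fun j => v ≤ (M.2.2.1 j).val).image M.2.2.1 := by
    ext i
    simp only [Finset.mem_filter, Finset.mem_univ, true_and, Finset.mem_image]
    constructor
    · rintro ⟨hvi, j, rfl⟩; exact ⟨j, hvi, rfl⟩
    · rintro ⟨j, hj, rfl⟩; exact ⟨hj, j, rfl⟩
  have h5 : (Finset.univ.filter fun i : Fin d => v ≤ i.val).filter
      (fun i => i ∉ Finset.univ.image M.2.2.1) =
      ((Finset.univ.image M.2.2.1)ᶜ).filter fun i : Fin d => v ≤ i.val := by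
    ext i
    simp [and_comm]
  rw [h4, h5, Finset.card_image_of_injective _ M.2.2.2.injective, h3] at h2
  have h6 := Finset.card_filter_add_card_filter_not (s := (Finset.univ : Finset (Fin (M.1 + 1))))
    (fun j => (M.2.2.1 j).val < v)
  simp only [not_lt, Finset.card_fin] at h6
  omega

theorem cnt_minorToIdx_high (M : MinorIdx r d) (u : ℕ) (hu : u ≤ r) :
    cnt (d + (r - u)) (minorToIdx M) =
      (Finset.univ.filter fun j => (M.2.1.1 j).val < u).card := by
  rw [cnt_minorToIdx]
  rw [Finset.filter_false_of_mem (s := (Finset.univ.image M.2.2.1)ᶜ) (fun i _ => by omega),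
    Finset.card_empty, zero_add]
  congr 1
  refine Finset.filter_congr fun j _ => ?_
  rw [Fin.val_rev]
  have := (M.2.1.1 j).isLt
  omega

theorem minorToIdx_le_iff (M M' : MinorIdx r d) :
    minorToIdx M ≤ minorToIdx M' ↔ MinorGE M M' := by
  have hA := lt_count_iff M.2.1.2 M'.2.1.2
  have hB := lt_count_iff M.2.2.2 M'.2.2.2
  constructor
  · intro h
    obtain ⟨hs, ha⟩ := hA.1 fun u hu => by
      rw [← cnt_minorToIdx_high M u hu, ← cnt_minorToIdx_high M' u hu]
      exact cnt_le_cnt h _
    obtain ⟨-, hb⟩ := hB.1 fun u hu => by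
      have h1 := cnt_minorToIdx_low M u hu
      have h2 := cnt_minorToIdx_low M' u hu
      have := cnt_le_cnt h u
      omega
    exact ⟨Nat.le_of_succ_le_succ hs, fun j j' hj => ⟨ha j j' hj, hb j j' hj⟩⟩
  · rintro ⟨hs, hab⟩
    refine le_of_cnt fun v hv => ?_
    rcases Nat.lt_or_ge v d with hvd | hvd
    · rw [cnt_minorToIdx_low M v hvd.le, cnt_minorToIdx_low M' v hvd.le]
      exact Nat.add_le_add_left
        (hB.2 ⟨Nat.succ_le_succ hs, fun j j' hj => (hab j j' hj).2⟩ v hvd.le) _
    · obtain ⟨u, hu, rfl⟩ : ∃ u, u ≤ r ∧ v = d + (r - u) := ⟨r + d - v, by omega, by omega⟩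
      rw [cnt_minorToIdx_high M u hu, cnt_minorToIdx_high M' u hu]
      exact hA.2 ⟨Nat.succ_le_succ hs, fun j j' hj => (hab j j' hj).1⟩ u hu

theorem minorToIdx_injective : Function.Injective (minorToIdx (r := r) (d := d)) := by
  intro M M' h
  obtain ⟨hs, hab⟩ := (minorToIdx_le_iff M M').1 h.le
  obtain ⟨hs', hab'⟩ := (minorToIdx_le_iff M' M).1 h.ge
  obtain ⟨s, ⟨a, ha⟩, ⟨b, hb⟩⟩ := M
  obtain ⟨s', ⟨a', ha'⟩, ⟨b', hb'⟩⟩ := M'
  obtain rfl : s = s' := le_antisymm hs hs'
  have h1 : a = a' := funext fun j => le_antisymm (hab' j j rfl).1 (hab j j rfl).1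
  have h2 : b = b' := funext fun j => le_antisymm (hab' j j rfl).2 (hab j j rfl).2
  subst h1 h2
  rfl

/-- The size of the minor is the number of rows in the lower block. -/
theorem cnt_d_minorToIdx (M : MinorIdx r d) : cnt d (minorToIdx M) = M.1 + 1 := by
  have h := cnt_minorToIdx_high M r le_rfl
  rw [Nat.sub_self, Nat.add_zero] at h
  rw [h, Finset.filter_true_of_mem fun j _ => (M.2.1.1 j).isLt, Finset.card_fin]

theorem exists_minor_of_cnt_pos (θ : Idx d (d + r)) (h : 0 < cnt d θ) :
    ∃ M : MinorIdx r d, minorToIdx M = θ := by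
  classical
  set A : Finset (Fin r) := Finset.univ.filter fun i => Fin.natAdd d i.rev ∈ Finset.univ.image θ.1
  set B : Finset (Fin d) := Finset.univ.filter fun i => Fin.castAdd r i ∉ Finset.univ.image θ.1
  have hA : cnt d θ = A.card := by
    have h1 : cnt d θ = ((Finset.univ.image θ.1).filter fun x => d ≤ x.val).card := by
      rw [Finset.filter_image, Finset.card_image_of_injective _ θ.2.injective]; rfl
    rw [h1]
    symm
    refine Finset.card_bij (fun i _ => Fin.natAdd d i.rev) (fun i hi => ?_) (fun i _ j _ hij => ?_)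
      (fun x hx => ?_)
    · simp only [A, Finset.mem_filter, Finset.mem_univ, true_and] at hi
      exact Finset.mem_filter.2 ⟨hi, by simp⟩
    · exact Fin.rev_injective ((Fin.natAddEmb d).injective hij)
    · rw [Finset.mem_filter] at hx
      have hxd := hx.2
      refine ⟨(⟨x.val - d, by omega⟩ : Fin r).rev, ?_, ?_⟩
      · simp only [A, Finset.mem_filter, Finset.mem_univ, true_and, Fin.rev_rev]
        convert hx.1
        exact Fin.ext (by simp; omega)
      · rw [Fin.rev_rev]; exact Fin.ext (by simp; omega)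
  have hB : B.card = A.card := by
    have h1 : (Finset.univ.filter fun i : Fin d => Fin.castAdd r i ∈ Finset.univ.image θ.1).card =
        ((Finset.univ.image θ.1).filter fun x => ¬ d ≤ x.val).card := by
      refine Finset.card_bij (fun i _ => Fin.castAdd r i) (fun i hi => ?_) (fun i _ j _ hij => ?_)
        (fun x hx => ?_)
      · exact Finset.mem_filter.2 ⟨(Finset.mem_filter.1 hi).2, by simp⟩
      · exact (Fin.castAddEmb r).injective hij
      · rw [Finset.mem_filter] at hx
        have hxd := hx.2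
        exact ⟨⟨x.val, by omega⟩, Finset.mem_filter.2 ⟨Finset.mem_univ _, hx.1⟩, rfl⟩
    have h2 := Finset.card_filter_add_card_filter_not (s := Finset.univ.image θ.1)
      (fun x => d ≤ x.val)
    have h3 := Finset.card_filter_add_card_filter_not (s := (Finset.univ : Finset (Fin d)))
      (fun i => Fin.castAdd r i ∈ Finset.univ.image θ.1)
    have h4 : ((Finset.univ.image θ.1).filter fun x => d ≤ x.val).card = cnt d θ := by
      rw [Finset.filter_image, Finset.card_image_of_injective _ θ.2.injective]; rfl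
    rw [(image_card_iff_injective _).2 θ.2.injective, h4, hA] at h2
    rw [h1, Finset.card_fin] at h3
    simp only [B]
    omega
  obtain ⟨s, hs⟩ : ∃ s, A.card = s + 1 := ⟨A.card - 1, by omega⟩
  refine ⟨⟨s, ⟨A.orderEmbOfFin hs, (A.orderEmbOfFin hs).strictMono⟩,
    ⟨B.orderEmbOfFin (hB.trans hs), (B.orderEmbOfFin (hB.trans hs)).strictMono⟩⟩, idx_ext ?_⟩
  rw [image_minorToIdx, rowSet]
  simp only [Finset.image_orderEmbOfFin_univ]
  have hAimg : Finset.univ.image (fun j => ((A.orderEmbOfFin hs) j).rev) = A.image Fin.rev := by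
    conv_rhs => rw [← Finset.image_orderEmbOfFin_univ A hs, Finset.image_image]
    rfl
  rw [hAimg]
  ext x
  simp only [Finset.mem_union, Finset.mem_map, Finset.mem_compl, Finset.mem_image,
    Fin.castAddEmb_apply, Fin.natAddEmb_apply, A, B, Finset.mem_filter, Finset.mem_univ, true_and,
    not_not]
  constructor
  · rintro (⟨i, hi, rfl⟩ | ⟨i, ⟨j, hj, rfl⟩, rfl⟩)
    · exact hi
    · exact hj
  · intro hx
    by_cases hxd : x.val < d
    · exact Or.inl ⟨⟨x.val, hxd⟩, by simpa using hx, rfl⟩
    · refine Or.inr ⟨⟨x.val - d, by omega⟩, ⟨(⟨x.val - d, by omega⟩ : Fin r).rev, ?_, by simp⟩, ?_⟩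
      · rw [Fin.rev_rev]
        obtain ⟨t, ht⟩ := hx
        exact ⟨t, ht.trans (Fin.ext (by simp; omega))⟩
      · exact Fin.ext (by simp; omega)

/-! ### Cell minors -/

variable {K : Type u} [CommRing K]

theorem cellMatrix_castAdd (i : Fin d) (j : Fin d) :
    cellMatrix K d r (Fin.castAdd r i) j = if i = j then 1 else 0 := by
  simp [cellMatrix, Fin.ext_iff]

theorem cellMatrix_natAdd (i : Fin r) (j : Fin d) :
    cellMatrix K d r (Fin.natAdd d i) j = X (i, j) := by
  simp [cellMatrix]

theorem isSign_det_submatrix {m m' : Type*} [Fintype m] [DecidableEq m] [Fintype m'] [DecidableEq m']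
    {R : Type*} [CommRing R] (e₁ e₂ : m ≃ m') (M : Matrix m' m' R) :
    ∃ ε : R, (ε = 1 ∨ ε = -1) ∧ (M.submatrix e₁ e₂).det = ε * M.det := by
  have h : M.submatrix e₁ e₂ = (M.submatrix id (e₁.symm.trans e₂)).submatrix e₁ e₁ := by
    ext i j; simp
  rw [h, Matrix.det_submatrix_equiv_self, Matrix.det_permute']
  rcases Int.units_eq_one_or (Equiv.Perm.sign (e₁.symm.trans e₂)) with hs | hs <;> rw [hs]
  · exact ⟨1, Or.inl rfl, by simp⟩
  · exact ⟨-1, Or.inr rfl, by simp⟩

/-- The cell coordinate attached to a minor is, up to sign, that minor with its rows reversed. -/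
theorem cellMinor_minorToIdx (M : MinorIdx r d) :
    ∃ ε : CellRing K d r, (ε = 1 ∨ ε = -1) ∧ cellMinor K d r (minorToIdx M) =
      ε * ((genMatrix K r d).submatrix (fun j => (M.2.1.1 j).rev) M.2.2.1).det := by
  classical
  obtain ⟨s, ⟨a, ha⟩, ⟨b, hb⟩⟩ := M
  set B := Finset.univ.image b with hB
  have hBc : B.card = s + 1 := by rw [hB, Finset.card_image_of_injective _ hb.injective, Finset.card_fin]
  have hsd : s + 1 ≤ d := by simpa using Fintype.card_le_of_injective b hb.injective
  have hCc : Bᶜ.card = d - (s + 1) := by rw [Finset.card_compl, hBc, Fintype.card_fin]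
  let e₂ : Fin (s + 1) ⊕ Fin (d - (s + 1)) ≃ Fin d := finSumEquivOfFinset hBc hCc
  let e₁ : Fin (s + 1) ⊕ Fin (d - (s + 1)) ≃ Fin d :=
    finSumFinEquiv.trans (finCongr (by omega))
  let row : Fin (s + 1) ⊕ Fin (d - (s + 1)) → Fin (d + r) :=
    Sum.elim (fun j => Fin.natAdd d (a j).rev) (fun k => Fin.castAdd r (Bᶜ.orderEmbOfFin hCc k))
  let tup : Fin d → Fin (d + r) := fun t => row (e₁.symm t)
  have himg : Finset.univ.image tup = rowSet a b := by
    ext x
    simp only [Finset.mem_image, Finset.mem_univ, true_and, rowSet, Finset.mem_union,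
      Finset.mem_map, Fin.castAddEmb_apply, Fin.natAddEmb_apply, ← hB, tup]
    constructor
    · rintro ⟨t, rfl⟩
      rcases e₁.symm t with j | k
      · exact Or.inr ⟨_, ⟨j, rfl⟩, rfl⟩
      · exact Or.inl ⟨_, Finset.orderEmbOfFin_mem _ _ k, rfl⟩
    · rintro (⟨i, hi, rfl⟩ | ⟨i, ⟨j, rfl⟩, rfl⟩)
      · rw [← Finset.mem_coe, ← Finset.range_orderEmbOfFin _ hCc] at hi
        obtain ⟨k, rfl⟩ := hi
        exact ⟨e₁ (Sum.inr k), by simp [row]⟩
      · exact ⟨e₁ (Sum.inl j), by simp [row]⟩
  have htc : (Finset.univ.image tup).card = d := by rw [himg]; exact card_rowSet ha hb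
  have hsort : sortIdx d (d + r) tup htc = minorToIdx ⟨s, ⟨a, ha⟩, ⟨b, hb⟩⟩ := by
    refine idx_ext ?_
    rw [image_minorToIdx, ← himg]
    exact Finset.image_orderEmbOfFin_univ _ _
  have h1 := det_tuple_eq (cellMatrix K d r) tup htc
  rw [hsort] at h1
  have h2 : (cellMatrix K d r).submatrix tup id =
      (Matrix.fromBlocks ((genMatrix K r d).submatrix (fun j => (a j).rev) b)
        ((genMatrix K r d).submatrix (fun j => (a j).rev) (fun k => Bᶜ.orderEmbOfFin hCc k))
        0 1).submatrix e₁.symm e₂.symm := by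
    ext t c : 2
    obtain ⟨x, rfl⟩ := e₁.surjective t
    obtain ⟨y, rfl⟩ := e₂.surjective c
    rw [Matrix.submatrix_apply, Matrix.submatrix_apply, Equiv.symm_apply_apply,
      Equiv.symm_apply_apply]
    have hb' : ∀ j, B.orderEmbOfFin hBc j = b j := fun j =>
      (congrFun (Finset.orderEmbOfFin_unique hBc
        (fun j => Finset.mem_image_of_mem b (Finset.mem_univ j)) hb) j).symm
    rcases x with x | x <;> rcases y with y | y
    · simp [tup, row, e₂, cellMatrix_natAdd, hb', genMatrix]
    · simp [tup, row, e₂, cellMatrix_natAdd, genMatrix]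
    · simp only [tup, row, e₂, Matrix.submatrix_apply, Equiv.symm_apply_apply, Sum.elim_inr, id_eq,
        finSumEquivOfFinset_inl, cellMatrix_castAdd, Matrix.fromBlocks_apply₂₁, Matrix.zero_apply]
      rw [if_neg]
      intro h
      exact (Finset.mem_compl.1 (Finset.orderEmbOfFin_mem Bᶜ hCc x))
        (h ▸ Finset.orderEmbOfFin_mem B hBc y)
    · simp only [tup, row, e₂, Matrix.submatrix_apply, Equiv.symm_apply_apply, Sum.elim_inr, id_eq,
        finSumEquivOfFinset_inr, cellMatrix_castAdd, Matrix.fromBlocks_apply₂₂, Matrix.one_apply,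
        (Bᶜ.orderEmbOfFin hCc).injective.eq_iff]
  rw [h2] at h1
  obtain ⟨ε, hε, h3⟩ := isSign_det_submatrix e₁.symm e₂.symm
    (Matrix.fromBlocks ((genMatrix K r d).submatrix (fun j => (a j).rev) b)
      ((genMatrix K r d).submatrix (fun j => (a j).rev) (fun k => Bᶜ.orderEmbOfFin hCc k)) 0 1)
  rw [Matrix.det_fromBlocks_zero₂₁, Matrix.det_one, mul_one] at h3
  rw [h3] at h1
  refine ⟨(-1) ^ invCount d (d + r) tup * ε, ?_, ?_⟩
  · rcases neg_one_pow_eq_or (CellRing K d r) (invCount d (d + r) tup) with h | h <;>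
      rcases hε with h' | h' <;> simp [h, h']
  · unfold cellMinor
    rw [mul_assoc, h1, ← mul_assoc, ← mul_pow, neg_one_mul, neg_neg, one_pow, one_mul]

/-- Reversal of the rows of the generic matrix. -/
noncomputable def revRows (K : Type u) [CommRing K] (d r : ℕ) : CellRing K d r ≃ₐ[K] CellRing K d r :=
  MvPolynomial.renameEquiv K (Fin.revPerm.prodCongr (Equiv.refl (Fin d)))

theorem revRows_minor {q : ℕ} (a : Fin q → Fin r) (b : Fin q → Fin d) :
    revRows K d r ((genMatrix K r d).submatrix a b).det =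
      ((genMatrix K r d).submatrix (fun j => (a j).rev) b).det := by
  rw [AlgEquiv.map_det]
  congr 1
  ext i j
  simp [revRows, genMatrix]

theorem cellMinor_eq_revRows (M : MinorIdx r d) :
    ∃ ε : CellRing K d r, (ε = 1 ∨ ε = -1) ∧
      cellMinor K d r (minorToIdx M) = ε * revRows K d r (minorOf K M) := by
  obtain ⟨ε, hε, h⟩ := cellMinor_minorToIdx (K := K) M
  exact ⟨ε, hε, by rw [h, minorOf, revRows_minor]⟩

theorem minorIdeal_antitone {t s : ℕ} (hts : t ≤ s) :
    ∀ (a : Fin s → Fin r) (b : Fin s → Fin d),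
      ((genMatrix K r d).submatrix a b).det ∈ CAlgX.minorIdeal (genMatrix K r d) t := by
  induction s, hts using Nat.le_induction with
  | base => exact fun a b => Ideal.subset_span ⟨(a, b), rfl⟩
  | succ s _ ih =>
    intro a b
    rw [Matrix.det_succ_row_zero]
    refine Ideal.sum_mem _ fun j _ => Ideal.mul_mem_left _ _ ?_
    rw [Matrix.submatrix_submatrix]
    exact ih _ _

theorem span_cellMinor_eq (t : ℕ) (ht : 0 < t) :
    Ideal.span {f : CellRing K d r | ∃ θ : Idx d (d + r), t ≤ cnt d θ ∧ f = cellMinor K d r θ} =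
      CAlgX.minorIdeal (genMatrix K r d) t := by
  classical
  refine le_antisymm (Ideal.span_le.2 ?_) (Ideal.span_le.2 ?_)
  · rintro _ ⟨θ, hθ, rfl⟩
    obtain ⟨M, rfl⟩ := exists_minor_of_cnt_pos θ (by omega)
    obtain ⟨ε, -, h⟩ := cellMinor_minorToIdx (K := K) M
    rw [SetLike.mem_coe, h]
    exact Ideal.mul_mem_left _ _ (minorIdeal_antitone ((cnt_d_minorToIdx M) ▸ hθ) _ _)
  · rintro _ ⟨⟨a, b⟩, rfl⟩
    by_cases hab : Function.Injective a ∧ Function.Injective b
    · obtain ⟨s, rfl⟩ : ∃ s, t = s + 1 := ⟨t - 1, by omega⟩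
      obtain ⟨ha, hb⟩ := hab
      have hA : (Finset.univ.image fun j => (a j).rev).card = s + 1 := by
        rw [Finset.card_image_of_injective (f := fun j => (a j).rev) _ (Fin.rev_injective.comp ha), Finset.card_fin]
      have hB : (Finset.univ.image b).card = s + 1 := by
        rw [Finset.card_image_of_injective _ hb, Finset.card_fin]
      let M : MinorIdx r d := ⟨s, sortIdx (s + 1) r _ hA, sortIdx (s + 1) d b hB⟩
      obtain ⟨ε, hε, h⟩ := cellMinor_minorToIdx (K := K) M
      let π₁ := sortPerm (fun j => (a j).rev) hA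
      let π₂ := sortPerm b hB
      have heq : (genMatrix K r d).submatrix a b =
          ((genMatrix K r d).submatrix (fun j => (M.2.1.1 j).rev) M.2.2.1).submatrix π₁ π₂ := by
        ext i j
        simp [M, π₁, π₂, sortIdx_sortPerm]
      obtain ⟨ε', -, h'⟩ := isSign_det_submatrix π₁ π₂
        ((genMatrix K r d).submatrix (fun j => (M.2.1.1 j).rev) M.2.2.1)
      show ((genMatrix K r d).submatrix a b).det ∈ Ideal.span _
      rw [heq, h']
      refine Ideal.mul_mem_left _ _ ?_
      have hmem : cellMinor K d r (minorToIdx M) ∈ Ideal.span {f : CellRing K d r |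
          ∃ θ : Idx d (d + r), s + 1 ≤ cnt d θ ∧ f = cellMinor K d r θ} :=
        Ideal.subset_span ⟨minorToIdx M, (cnt_d_minorToIdx M).ge, rfl⟩
      rw [h] at hmem
      rcases hε with rfl | rfl
      · rwa [one_mul] at hmem
      · rwa [neg_one_mul, neg_mem_iff] at hmem
    · show ((genMatrix K r d).submatrix a b).det ∈ Ideal.span _
      have h0 : ((genMatrix K r d).submatrix a b).det = 0 := by
        rw [not_and_or, Function.not_injective_iff, Function.not_injective_iff] at hab
        rcases hab with ⟨i, j, hij, hne⟩ | ⟨i, j, hij, hne⟩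
        · exact Matrix.det_zero_of_row_eq hne (by ext k; simp [hij])
        · exact Matrix.det_zero_of_column_eq hne (fun k => by simp [hij])
      rw [h0]
      exact Ideal.zero_mem _

theorem le_cnt_iff {n : ℕ} (θ : Idx d n) (v t : ℕ) (ht : 0 < t) (htd : t ≤ d) :
    t ≤ cnt v θ ↔ v ≤ (θ.1 ⟨d - t, Nat.sub_lt (lt_of_lt_of_le ht htd) ht⟩).val := by
  set p : Fin d := ⟨d - t, Nat.sub_lt (lt_of_lt_of_le ht htd) ht⟩ with hp
  constructor
  · intro h
    by_contra hlt
    rw [not_le] at hlt
    have : cnt v θ ≤ (Finset.Ioi p).card := Finset.card_le_card fun s hs => by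
      simp only [Finset.mem_filter, Finset.mem_univ, true_and] at hs
      rw [Finset.mem_Ioi]
      by_contra hsp
      rw [not_lt] at hsp
      have := Fin.le_def.1 (θ.2.monotone hsp)
      omega
    simp only [Fin.card_Ioi, hp] at this
    omega
  · intro h
    have : (Finset.Ici p).card ≤ cnt v θ := Finset.card_le_card fun s hs => by
      simp only [Finset.mem_filter, Finset.mem_univ, true_and]
      exact le_trans h (Fin.le_def.1 (θ.2.monotone (Finset.mem_Ici.1 hs)))
    simp only [Fin.card_Ici, hp] at this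
    omega

end GrassLib
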