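import Groth.Agent.GrassLib.Schubert

/-!
Full rank matrices and their minors.
-/

universe u

open MvPolynomial Matrix

namespace GrassLib

open W4bk4grassmannian

variable {K : Type u} [Field K] {d n : ℕ}

theorem exists_minor_ne_zero (A : Matrix (Fin n) (Fin d) K) (hA : LinearIndependent K A.transpose) :
    ∃ θ : Idx d n, (A.submatrix θ.1 id).det ≠ 0 := by
  classical
  have hinj : Function.Injective A.mulVec := Matrix.mulVec_injective_iff.2 hA
  have hspan : Submodule.span K (Set.range A) = ⊤ := by
    by_contra hne
    obtain ⟨f, hf, hker⟩ := Submodule.exists_le_ker_of_lt_top _ (lt_top_iff_ne_top.2 hne)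
    apply hf
    have hx : A *ᵥ (fun k => f (Pi.single k 1)) = 0 := by
      funext i
      have h0 : f (A i) = 0 := hker (Submodule.subset_span ⟨i, rfl⟩)
      rw [pi_eq_sum_univ' (A i), map_sum] at h0
      simpa [Matrix.mulVec, dotProduct, map_smul, smul_eq_mul] using h0
    have := hinj (hx.trans (Matrix.mulVec_zero A).symm)
    refine LinearMap.pi_ext fun k y => ?_
    have hk : f (Pi.single k 1) = 0 := congrFun this k
    rw [show (Pi.single k y : Fin d → K) = y • Pi.single k 1 by
      simp [← Pi.single_smul], map_smul, hk, smul_zero]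
    simp
  obtain ⟨b, hb, hbspan, hbli⟩ := exists_linearIndependent K (Set.range A)
  let B := Module.Basis.mk hbli (by rw [Subtype.range_coe, hbspan, hspan])
  have : Fintype b := (Set.Finite.subset (Set.finite_range A) hb).fintype
  have hcard : Fintype.card (Fin d) = Fintype.card b := by
    rw [← Module.finrank_eq_card_basis B, Module.finrank_fin_fun, Fintype.card_fin]
  obtain ⟨e⟩ := Fintype.card_eq.1 hcard
  choose a ha using fun t : Fin d => hb (e t).2
  have hdet : (A.submatrix a id).det ≠ 0 := by
    have hli : LinearIndependent K (A.submatrix a id).row := by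
      have : (A.submatrix a id).row = (Subtype.val : b → Fin d → K) ∘ e := by
        funext t
        exact ha t
      rw [this]
      exact hbli.comp _ e.injective
    rw [Matrix.linearIndependent_rows_iff_isUnit, Matrix.isUnit_iff_isUnit_det] at hli
    exact hli.ne_zero
  have hinj' : (Finset.univ.image a).card = d := by
    by_contra h
    exact hdet (det_tuple_eq_zero _ _ h)
  rw [det_tuple_eq _ _ hinj'] at hdet
  exact ⟨_, right_ne_zero_of_mul hdet⟩

theorem normalized_entry (A : Matrix (Fin n) (Fin d) K) (θ : Idx d n)
    (hθ : (A.submatrix θ.1 id).det ≠ 0) (i : Fin n) (t : Fin d) :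
    (A * (A.submatrix θ.1 id)⁻¹) i t =
      (A.submatrix (Function.update θ.1 t i) id).det * ((A.submatrix θ.1 id).det)⁻¹ := by
  classical
  set g := (A.submatrix θ.1 id)⁻¹ with hg
  have hsub : ∀ a : Fin d → Fin n, (A * g).submatrix a id = A.submatrix a id * g := fun a => by
    ext s t
    simp [Matrix.mul_apply]
  have h1 : ((A * g).submatrix (Function.update θ.1 t i) id).det = (A * g) i t := by
    rw [det_eq_of_rows_diagonal _ t (fun _ => 1)]
    · simp
    · intro s hs k
      have h2 : (A * g).submatrix θ.1 id = 1 := by
        rw [hsub, hg, Matrix.mul_nonsing_inv _ (isUnit_iff_ne_zero.2 hθ)]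
      have := congrFun (congrFun h2 s) k
      simp only [Matrix.submatrix_apply, id_eq, Matrix.one_apply] at this
      simp [Function.update_of_ne hs, this]
  rw [← h1, hsub, Matrix.det_mul, hg, Matrix.det_nonsing_inv, Ring.inverse_eq_inv']

end GrassLib
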