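import Groth.Agent.GrassLib.Cell
import Groth.Agent.GrassLib.Rank

/-!
Standard monomials on the opposite cell of a Schubert variety.
-/

universe u

open MvPolynomial Matrix

namespace GrassLib

open W4bk4grassmannian

variable {d r : ℕ}

/-- The least index. -/
def bot' (d r : ℕ) : Idx d (d + r) := ⟨Fin.castAdd r, Fin.strictMono_castAdd r⟩

theorem bot'_le (θ : Idx d (d + r)) : bot' d r ≤ θ := fun t => by
  rw [Fin.le_def]; exact val_le_idx θ t

theorem cnt_bot' : cnt d (bot' d r) = 0 := by
  rw [cnt, Finset.card_eq_zero, Finset.filter_eq_empty_iff]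
  intro t _
  simp [bot']

theorem cnt_eq_zero_iff (θ : Idx d (d + r)) : cnt d θ = 0 ↔ θ = bot' d r := by
  refine ⟨fun h => le_antisymm ?_ (bot'_le θ), fun h => h ▸ cnt_bot'⟩
  intro t
  rw [cnt, Finset.card_eq_zero, Finset.filter_eq_empty_iff] at h
  -- the entries form an increasing tuple below `d`
  by_contra hlt
  rw [Fin.le_def, not_le] at hlt
  simp only [bot', Fin.val_castAdd] at hlt
  have hcard := Finset.card_le_card_of_injOn (fun s => (θ.1 s).val) (s := Finset.Ici t)
    (t := Finset.Ico (t.val + 1) d) (fun s hs => ?_)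
    (fun a _ b _ hab => θ.2.injective (Fin.ext hab))
  · simp only [Fin.card_Ici, Nat.card_Ico] at hcard
    omega
  · simp only [Finset.coe_Ici, Set.mem_Ici] at hs
    have := Fin.le_def.1 (θ.2.monotone hs)
    have := not_le.1 (h (Finset.mem_univ s))
    simp only [Finset.coe_Ico, Set.mem_Ico]
    omega

/-- The index of the Schubert variety whose opposite cell is the determinantal variety. -/
def detIdx (d r t : ℕ) (ht : 1 ≤ t) (htd : t ≤ d + 1) (htr : t ≤ r + 1) : Idx d (d + r) :=
  ⟨fun j => if j.val + t ≤ d then ⟨j.val + (t - 1), by omega⟩ else ⟨j.val + r, by omega⟩,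
    fun a b hab => by
      have hab' := Fin.lt_def.1 hab
      simp only
      split_ifs <;> simp only [Fin.mk_lt_mk] <;> omega⟩

theorem le_detIdx_iff {t : ℕ} (ht : 1 ≤ t) (htd : t ≤ d + 1) (htr : t ≤ r + 1) (θ : Idx d (d + r)) :
    θ ≤ detIdx d r t ht htd htr ↔ cnt d θ < t := by
  constructor
  · intro h
    by_contra hc
    rw [not_lt] at hc
    have htd' : t ≤ d := le_trans hc (le_trans (Finset.card_filter_le _ _) (Finset.card_fin d).le)
    have h1 := (le_cnt_iff θ d t ht htd').1 hc
    have h2 := Fin.le_def.1 (h ⟨d - t, by omega⟩)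
    simp only [detIdx, show d - t + t ≤ d by omega, if_true] at h2
    omega
  · intro hc s
    rw [Fin.le_def]
    simp only [detIdx]
    split_ifs with hs
    · simp only
      have htd' : t ≤ d := by omega
      have h1 : ¬ d ≤ (θ.1 ⟨d - t, by omega⟩).val := fun h =>
        absurd ((le_cnt_iff θ d t ht htd').2 h) (not_le.2 hc)
      have key : ∀ k, ∀ hk : s.val + k ≤ d - t,
          (θ.1 s).val + k ≤ (θ.1 ⟨s.val + k, by omega⟩).val := by
        intro k
        induction k with
        | zero => intro hk; exact le_rfl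
        | succ k ih =>
          intro hk
          have h1 := ih (by omega)
          have h2 := Fin.lt_def.1 (θ.2 (show (⟨s.val + k, by omega⟩ : Fin d) < ⟨s.val + (k + 1), by omega⟩ from
            Fin.lt_def.2 (by simp only; omega)))
          omega
      have h2 := key (d - t - s.val) (by omega)
      have he : (⟨s.val + (d - t - s.val), by omega⟩ : Fin d) = ⟨d - t, by omega⟩ := Fin.ext (by simp only; omega)
      rw [he] at h2
      omega
    · simp only
      have key : ∀ k, ∀ hk : s.val + k < d,
          (θ.1 s).val + k ≤ (θ.1 ⟨s.val + k, hk⟩).val := by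
        intro k
        induction k with
        | zero => intro hk; exact le_rfl
        | succ k ih =>
          intro hk
          have h1 := ih (by omega)
          have h2 := Fin.lt_def.1 (θ.2 (show (⟨s.val + k, by omega⟩ : Fin d) < ⟨s.val + (k + 1), hk⟩ from
            Fin.lt_def.2 (by simp only; omega)))
          omega
      have h2 := key (d - 1 - s.val) (by omega)
      have h3 := (θ.1 ⟨s.val + (d - 1 - s.val), by omega⟩).isLt
      omega

variable {K : Type u} [Field K]

/-- The comorphism of the opposite cell. -/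
noncomputable def cellMap (K : Type u) [CommRing K] (d r : ℕ) :
    PlRing K d (d + r) →ₐ[K] CellRing K d r :=
  evalMat (cellMatrix K d r)

@[simp] theorem cellMap_X (θ : Idx d (d + r)) : cellMap K d r (X θ) = cellMinor K d r θ :=
  evalMat_X _ _

theorem cellMatrix_bot : (cellMatrix K d r).submatrix (bot' d r).1 id = 1 := by
  ext s t : 2
  simp [bot', cellMatrix_castAdd, Matrix.one_apply]

theorem cellMap_bot : cellMap K d r (X (bot' d r)) = 1 := by
  rw [cellMap_X, cellMinor, cellMatrix_bot, Matrix.det_one]

theorem cellMap_surjective : Function.Surjective (cellMap K d r) := by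
  rw [← AlgHom.range_eq_top]
  refine eq_top_iff.2 (le_trans (MvPolynomial.adjoin_range_X (R := K)).ge (Algebra.adjoin_le ?_))
  rintro _ ⟨⟨i, j⟩, rfl⟩
  refine ⟨coord K d (d + r) (Function.update (bot' d r).1 j (Fin.natAdd d i)), ?_⟩
  show cellMap K d r _ = _
  rw [cellMap, evalMat_coord, det_eq_of_rows_diagonal _ j (fun _ => 1)]
  · simp [cellMatrix_natAdd]
  · intro s hs k
    have := congrFun (congrFun (cellMatrix_bot (K := K) (d := d) (r := r)) s) k
    simp only [Matrix.submatrix_apply, id_eq, Matrix.one_apply] at this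
    simp [Function.update_of_ne hs, this]

variable [Infinite K]

theorem eval_smul_of_isHomogeneous {σ : Type*} {H : MvPolynomial σ K} {N : ℕ}
    (hH : H.IsHomogeneous N) (t : K) (v : σ → K) :
    aeval (fun i => t * v i) H = t ^ N * aeval v H := by
  conv_lhs => rw [H.as_sum]
  conv_rhs => rw [H.as_sum]
  rw [map_sum, map_sum, Finset.mul_sum]
  refine Finset.sum_congr rfl fun e he => ?_
  rw [aeval_monomial, aeval_monomial]
  have hdeg : e.degree = N := by
    rw [Finsupp.degree_eq_weight_one]
    exact hH (MvPolynomial.mem_support_iff.1 he)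
  simp only [Finsupp.prod, mul_pow, Finset.prod_mul_distrib, Finset.prod_pow_eq_pow_sum]
  rw [Finsupp.degree] at hdeg
  simp only [AddMonoidHom.coe_mk, ZeroHom.coe_mk] at hdeg
  rw [hdeg]
  ring

/-- A homogeneous polynomial lying in `J(w) + (X_ι - 1)` lies in `J(w)`. -/
theorem mem_of_mem_sup_dehom (hd : 0 < d) (w : Idx d (d + r)) {H : PlRing K d (d + r)} {N : ℕ}
    (hH : H.IsHomogeneous N)
    (hmem : H ∈ schubertVanishing K d (d + r) w ⊔ Ideal.span {X (bot' d r) - 1}) :
    H ∈ schubertVanishing K d (d + r) w := by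
  classical
  refine ((schubertVanishing_isPrime hd w).mem_or_mem
    (?_ : H * X (bot' d r) ∈ _)).resolve_right fun h =>
      (X_mem_schubertVanishing_iff hd).1 h (bot'_le w)
  rw [mem_schubertVanishing_iff]
  intro A hA
  rw [map_mul]
  set a := (A.submatrix (bot' d r).1 id).det with ha
  have hXa : evalMinors K d (d + r) A (X (bot' d r)) = a := by
    rw [evalMinors_eq, evalMat_X, ha]
  by_cases ha0 : a = 0
  · rw [hXa, ha0, mul_zero]
  refine mul_eq_zero_of_left ?_ _
  set B := A * (Matrix.diagonal (Function.update (fun _ => (1 : K)) ⟨0, hd⟩ a⁻¹) :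
    Matrix (Fin d) (Fin d) K) with hB
  have hminor : ∀ θ : Idx d (d + r),
      (B.submatrix θ.1 id).det = a⁻¹ * (A.submatrix θ.1 id).det := by
    intro θ
    rw [hB, Matrix.submatrix_mul _ _ _ id _ Function.bijective_id, Matrix.submatrix_id_id,
      Matrix.det_mul, Matrix.det_diagonal, Finset.prod_update_of_mem (Finset.mem_univ _)]
    simp [mul_comm]
  have hscale : evalMinors K d (d + r) B H = a⁻¹ ^ N * evalMinors K d (d + r) A H := by
    rw [evalMinors, evalMinors, ← eval_smul_of_isHomogeneous hH]
    refine congrArg (fun v => MvPolynomial.aeval (R := K) v H) (funext fun θ => ?_)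
    exact hminor θ
  have h0 : evalMinors K d (d + r) B H = 0 := by
    obtain ⟨P, hP, Q, hQ, rfl⟩ := Submodule.mem_sup.1 hmem
    obtain ⟨q, rfl⟩ := Ideal.mem_span_singleton.1 hQ
    have hX1 : evalMinors K d (d + r) B (X (bot' d r)) = 1 := by
      rw [evalMinors_eq, evalMat_X, hminor, ← ha, inv_mul_cancel₀ ha0]
    rw [map_add, map_mul, map_sub, map_one, hX1, sub_self, zero_mul, add_zero]
    exact (mem_schubertVanishing_iff w P).1 hP B fun φ hφ => by rw [hminor, hA φ hφ, mul_zero]
  rw [hscale] at h0
  exact (mul_eq_zero.1 h0).resolve_left (pow_ne_zero _ (inv_ne_zero ha0))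

theorem top_exists (d r : ℕ) : ∃ w : Idx d (d + r), ∀ θ, θ ≤ w :=
  ⟨⟨fun j => ⟨j.val + r, by omega⟩, fun a b h => Fin.mk_lt_mk.2 (Nat.add_lt_add_right (Fin.lt_def.1 h) r)⟩,
    fun θ s => by
      rw [Fin.le_def]
      simp only
      have key : ∀ k, ∀ hk : s.val + k < d,
          (θ.1 s).val + k ≤ (θ.1 ⟨s.val + k, hk⟩).val := by
        intro k
        induction k with
        | zero => intro hk; exact le_rfl
        | succ k ih =>
          intro hk
          have h1 := ih (by omega)
          have h2 := Fin.lt_def.1 (θ.2 (show (⟨s.val + k, by omega⟩ : Fin d) < ⟨s.val + (k + 1), hk⟩ from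
            Fin.lt_def.2 (by simp only; omega)))
          omega
      have h2 := key (d - 1 - s.val) (by omega)
      have h3 := (θ.1 ⟨s.val + (d - 1 - s.val), by omega⟩).isLt
      omega⟩

theorem schubertVanishing_top {n : ℕ} {w : Idx d n} (hw : ∀ θ, θ ≤ w) :
    schubertVanishing K d n w = vanishing K d n := by
  refine le_antisymm (fun P hP => ?_) (vanishing_le_schubertVanishing w)
  simp only [vanishing, Ideal.mem_iInf, RingHom.mem_ker, AlgHom.toRingHom_eq_coe, RingHom.coe_coe]
  exact fun A => (mem_schubertVanishing_iff w P).1 hP A fun φ h => absurd (hw φ) h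

theorem mon_isHomogeneous {n : ℕ} (s : Multiset (Idx d n)) :
    (mon K s).IsHomogeneous s.card := by
  induction s using Multiset.induction_on with
  | empty => simpa using isHomogeneous_one (Idx d n) K
  | cons a s ih =>
    rw [mon_cons, Multiset.card_cons, add_comm]
    exact (isHomogeneous_X K a).mul ih

theorem ker_cellMap (hd : 0 < d) :
    RingHom.ker (cellMap K d r) = vanishing K d (d + r) ⊔ Ideal.span {X (bot' d r) - 1} := by
  classical
  apply le_antisymm
  · intro P hP
    rw [RingHom.mem_ker] at hP
    -- homogenise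
    let H := ∑ k ∈ Finset.range (P.totalDegree + 1),
      homogeneousComponent k P * X (bot' d r) ^ (P.totalDegree - k)
    have hPH : P - H ∈ Ideal.span {X (bot' d r) - (1 : PlRing K d (d + r))} := by
      rw [show P - H = ∑ k ∈ Finset.range (P.totalDegree + 1), (homogeneousComponent k P -
          homogeneousComponent k P * X (bot' d r) ^ (P.totalDegree - k)) by
        rw [Finset.sum_sub_distrib, sum_homogeneousComponent]]
      refine Ideal.sum_mem _ fun k _ => ?_
      rw [← mul_one_sub]
      refine Ideal.mul_mem_left _ _ (Ideal.mem_span_singleton.2 ?_)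
      rw [← dvd_neg, neg_sub]
      exact sub_one_dvd_pow_sub_one _ _
    have hH : H.IsHomogeneous P.totalDegree := IsHomogeneous.sum _ _ _ fun k hk => by
      have := (homogeneousComponent_isHomogeneous k P).mul
        ((isHomogeneous_X K (bot' d r)).pow (P.totalDegree - k))
      rwa [one_mul, Nat.add_sub_cancel' (Nat.lt_succ_iff.1 (Finset.mem_range.1 hk))] at this
    have hcellH : cellMap K d r H = 0 := by
      obtain ⟨q, hq⟩ := Ideal.mem_span_singleton.1 hPH
      have h := congrArg (cellMap K d r) hq
      rw [map_sub, map_mul, map_sub, cellMap_bot, map_one, sub_self, zero_mul, hP, zero_sub,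
        neg_eq_zero] at h
      exact h
    have hHvan : H ∈ vanishing K d (d + r) := by
      obtain ⟨w, hw⟩ := top_exists d r
      rw [← schubertVanishing_top hw]
      refine ((schubertVanishing_isPrime hd w).mem_or_mem
        (?_ : H * X (bot' d r) ∈ _)).resolve_right fun h =>
          (X_mem_schubertVanishing_iff hd).1 h (bot'_le w)
      rw [mem_schubertVanishing_iff]
      intro A _
      rw [map_mul]
      set a := (A.submatrix (bot' d r).1 id).det with ha
      have hXa : evalMinors K d (d + r) A (X (bot' d r)) = a := by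
        rw [evalMinors_eq, evalMat_X, ha]
      by_cases ha0 : a = 0
      · rw [hXa, ha0, mul_zero]
      refine mul_eq_zero_of_left ?_ _
      set E := A * (A.submatrix (bot' d r).1 id)⁻¹ with hE
      have hminor : ∀ θ : Idx d (d + r),
          (A.submatrix θ.1 id).det = a * (E.submatrix θ.1 id).det := by
        intro θ
        rw [hE, Matrix.submatrix_mul _ _ _ id _ Function.bijective_id, Matrix.submatrix_id_id,
          Matrix.det_mul, Matrix.det_nonsing_inv, Ring.inverse_eq_inv', ← ha]
        field_simp
      have hEbot : E.submatrix (bot' d r).1 id = 1 := by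
        rw [hE, Matrix.submatrix_mul _ _ _ id _ Function.bijective_id, Matrix.submatrix_id_id,
          Matrix.mul_nonsing_inv _ (isUnit_iff_ne_zero.2 ha0)]
      have hEcell : (cellMatrix K d r).map
          (aeval fun p : Fin r × Fin d => E (Fin.natAdd d p.1) p.2) = E := by
        ext i t
        induction i using Fin.addCases with
        | left i =>
          have := congrFun (congrFun hEbot i) t
          simp only [Matrix.submatrix_apply, bot', id_eq, Matrix.one_apply] at this
          rw [Matrix.map_apply, cellMatrix_castAdd, this]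
          split_ifs <;> simp
        | right i => rw [Matrix.map_apply, cellMatrix_natAdd, aeval_X]
      have h1 : evalMinors K d (d + r) E H = 0 := by
        rw [evalMinors_eq, ← hEcell, ← comp_evalMat]
        rw [show evalMat (cellMatrix K d r) H = cellMap K d r H from rfl, hcellH, map_zero]
      have hscale : evalMinors K d (d + r) A H =
          a ^ P.totalDegree * evalMinors K d (d + r) E H := by
        rw [evalMinors, evalMinors, ← eval_smul_of_isHomogeneous hH]
        exact congrArg (fun v => MvPolynomial.aeval (R := K) v H) (funext fun θ => hminor θ)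
      rw [hscale, h1, mul_zero]
    rw [← sub_add_cancel P H]
    exact add_mem (Ideal.mem_sup_right hPH) (Ideal.mem_sup_left hHvan)
  · refine sup_le ?_ ((Ideal.span_singleton_le_iff_mem _).2 ?_)
    · intro P hP
      rw [vanishing_eq_ker, RingHom.mem_ker] at hP
      rw [RingHom.mem_ker]
      have h2 : (Matrix.of fun i t => (X (i, t) : MatRing K d (d + r))).map
          (aeval fun p : Fin (d + r) × Fin d => cellMatrix K d r p.1 p.2) = cellMatrix K d r := by
        ext i t : 2; simp
      rw [cellMap, ← h2, ← comp_evalMat,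
        show evalMat (Matrix.of fun i t => (X (i, t) : MatRing K d (d + r))) P =
          pluckerMap K d (d + r) P from rfl, hP, map_zero]
    · rw [RingHom.mem_ker, map_sub, cellMap_bot, map_one, sub_self]

/-- The ideal of the opposite cell of X(w). -/
noncomputable def cellIdeal (K : Type u) [CommRing K] {d r : ℕ} (w : Idx d (d + r)) :
    Ideal (CellRing K d r) :=
  Ideal.span {f | ∃ θ : Idx d (d + r), ¬ θ ≤ w ∧ f = cellMinor K d r θ}

theorem comap_cellIdeal (hd : 0 < d) (w : Idx d (d + r)) :
    (cellIdeal K w).comap (cellMap K d r) =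
      schubertVanishing K d (d + r) w ⊔ Ideal.span {X (bot' d r) - 1} := by
  have hmap : cellIdeal K w = (schubertVanishing K d (d + r) w).map (cellMap K d r) := by
    refine le_antisymm (Ideal.span_le.2 ?_) ?_
    · rintro _ ⟨θ, hθ, rfl⟩
      rw [SetLike.mem_coe, ← cellMap_X]
      exact Ideal.mem_map_of_mem _ (X_mem_schubertVanishing hθ)
    · rw [← plIdeal_eq hd, plIdeal, Ideal.map_span, Ideal.span_le]
      rintro _ ⟨f, ⟨i, j, r', -, rfl⟩ | ⟨φ, hφ, rfl⟩, rfl⟩
      · rw [SetLike.mem_coe, show cellMap K d r (shuffleRel K i j r') = 0 from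
          evalMat_shuffleRel _ i j r']
        exact Ideal.zero_mem _
      · rw [SetLike.mem_coe, cellMap_X]
        exact Ideal.subset_span ⟨φ, hφ, rfl⟩
  rw [hmap, Ideal.comap_map_of_surjective' _ cellMap_surjective, ker_cellMap hd]
  exact le_antisymm (sup_le le_sup_left
      (sup_le ((vanishing_le_schubertVanishing w).trans le_sup_left) le_sup_right))
    (sup_le le_sup_left (le_sup_right.trans le_sup_right))

/-- Spanning on the opposite cell. -/
theorem mem_cell_span (w : Idx d (d + r)) (x : CellRing K d r) :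
    x ∈ Submodule.span K {f | ∃ s : Multiset (Idx d (d + r)), IsStd s ∧
        (∀ θ ∈ s, θ ≤ w ∧ θ ≠ bot' d r) ∧ f = cellMap K d r (mon K s)} ⊔
      (cellIdeal K w).restrictScalars K := by
  classical
  obtain ⟨P, rfl⟩ := cellMap_surjective (K := K) x
  have hP := mem_stdSpan_sup (plIdealTop K) le_rfl P
  rw [← AlgHom.toLinearMap_apply, ← Submodule.mem_comap]
  refine (sup_le (Submodule.span_le.2 ?_) ?_ : _ ≤ Submodule.comap (cellMap K d r).toLinearMap _) hP
  · rintro _ ⟨s, hs, -, rfl⟩
    rw [SetLike.mem_coe, Submodule.mem_comap, AlgHom.toLinearMap_apply]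
    by_cases hle : ∀ θ ∈ s, θ ≤ w
    · refine Submodule.mem_sup_left (Submodule.subset_span
        ⟨s.filter fun θ => θ ≠ bot' d r, hs.mono (Multiset.filter_le _ _),
          fun θ hθ => ⟨hle θ (Multiset.mem_filter.1 hθ).1, (Multiset.mem_filter.1 hθ).2⟩, ?_⟩)
      conv_lhs => rw [← Multiset.filter_add_not (fun θ => θ ≠ bot' d r) s, mon_add, map_mul]
      have h1 : ∀ θ ∈ s.filter (fun θ => ¬ θ ≠ bot' d r), θ = bot' d r := fun θ hθ =>
        not_not.1 (Multiset.mem_filter.1 hθ).2
      rw [Multiset.eq_replicate_card.2 h1]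
      simp only [mon, Multiset.map_replicate, Multiset.prod_replicate, map_pow, cellMap_bot, one_pow,
        mul_one]
    · push Not at hle
      obtain ⟨θ, hθ, hθw⟩ := hle
      obtain ⟨s', rfl⟩ := Multiset.exists_cons_of_mem hθ
      refine Submodule.mem_sup_right ?_
      rw [mon_cons, map_mul, cellMap_X]
      exact Ideal.mul_mem_right _ _ (Ideal.subset_span ⟨θ, hθw, rfl⟩)
  · intro z hz
    rw [Submodule.mem_comap, AlgHom.toLinearMap_apply]
    have h0 : cellMap K d r z = 0 := by
      have hle : plIdealTop K ≤ RingHom.ker (cellMap K d r) := by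
        refine Ideal.span_le.2 ?_
        rintro _ ⟨i, j, r', -, rfl⟩
        exact evalMat_shuffleRel _ i j r'
      exact hle hz
    rw [h0]
    exact Submodule.zero_mem _

/-- Independence on the opposite cell. -/
theorem cell_indep (hd : 0 < d) (w : Idx d (d + r)) (S : Finset (Multiset (Idx d (d + r))))
    (c : Multiset (Idx d (d + r)) → K)
    (hS : ∀ s ∈ S, IsStd s ∧ ∀ θ ∈ s, θ ≤ w ∧ θ ≠ bot' d r)
    (h : ∑ s ∈ S, c s • cellMap K d r (mon K s) ∈ cellIdeal K w) : ∀ s ∈ S, c s = 0 := by
  classical
  set N := S.sup Multiset.card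
  let pad : Multiset (Idx d (d + r)) → Multiset (Idx d (d + r)) := fun s =>
    s + Multiset.replicate (N - s.card) (bot' d r)
  have hinj : ∀ a ∈ S, ∀ b ∈ S, pad a = pad b → a = b := by
    intro a ha b hb hab
    have hf : ∀ s ∈ S, (pad s).filter (fun θ => θ ≠ bot' d r) = s := by
      intro s hs
      simp only [pad, Multiset.filter_add]
      rw [Multiset.filter_eq_self.2 fun θ hθ => ((hS s hs).2 θ hθ).2,
        Multiset.filter_eq_nil.2 fun θ hθ => not_not.2 (Multiset.eq_of_mem_replicate hθ), add_zero]
    rw [← hf a ha, hab, hf b hb]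
  let c' : Multiset (Idx d (d + r)) → K := fun t => ∑ s ∈ S.filter (fun s => pad s = t), c s
  have hc' : ∀ s ∈ S, c' (pad s) = c s := fun s hs => by
    rw [show c' (pad s) = ∑ a ∈ S.filter (fun a => pad a = pad s), c a from rfl,
      Finset.sum_eq_single s]
    · intro b hb hne
      exact absurd (hinj b (Finset.mem_filter.1 hb).1 s hs (Finset.mem_filter.1 hb).2) hne
    · exact fun hn => (hn (Finset.mem_filter.2 ⟨hs, rfl⟩)).elim
  have hpad : ∀ s, cellMap K d r (mon K (pad s)) = cellMap K d r (mon K s) := fun s => by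
    rw [show mon K (pad s) = mon K s * X (bot' d r) ^ (N - s.card) by
      simp only [pad]; rw [mon_add]; simp [mon], map_mul,
      map_pow, cellMap_bot, one_pow, mul_one]
  have hsum : ∑ t ∈ S.image pad, c' t • mon K t ∈
      schubertVanishing K d (d + r) w ⊔ Ideal.span {X (bot' d r) - 1} := by
    rw [← comap_cellIdeal hd, Ideal.mem_comap, map_sum, Finset.sum_image hinj]
    refine (Eq.trans (Finset.sum_congr rfl fun s hs => ?_) rfl : _ = ∑ s ∈ S, c s • cellMap K d r (mon K s)) ▸ h
    rw [map_smul, hc' s hs, hpad]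
  have hhom : (∑ t ∈ S.image pad, c' t • mon K t).IsHomogeneous N := by
    refine IsHomogeneous.sum _ _ _ fun t ht => ?_
    obtain ⟨s, hs, rfl⟩ := Finset.mem_image.1 ht
    have hcard : (pad s).card = N := by
      simp only [pad, Multiset.card_add, Multiset.card_replicate]
      have : s.card ≤ N := Finset.le_sup hs
      omega
    rw [smul_eq_C_mul, ← hcard]
    exact (mon_isHomogeneous _).C_mul _
  have hJ := mem_of_mem_sup_dehom hd w hhom hsum
  intro s hs
  have h0 := coeff_eq_zero_of_mem hd (τ := w) (fun t ht => ?_) hJ (pad s)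
    (Finset.mem_image_of_mem _ hs) (fun θ hθ => ?_)
  · rwa [hc' s hs] at h0
  · obtain ⟨a, ha, rfl⟩ := Finset.mem_image.1 ht
    intro x hx y hy
    rcases Multiset.mem_add.1 hx with hx | hx <;> rcases Multiset.mem_add.1 hy with hy | hy
    · exact (hS a ha).1 x hx y hy
    · exact Or.inr ((Multiset.eq_of_mem_replicate hy) ▸ bot'_le x)
    · exact Or.inl ((Multiset.eq_of_mem_replicate hx) ▸ bot'_le y)
    · exact Or.inl ((Multiset.eq_of_mem_replicate hx) ▸ bot'_le y)
  · rcases Multiset.mem_add.1 hθ with hθ | hθ
    · exact ((hS s hs).2 θ hθ).1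
    · exact (Multiset.eq_of_mem_replicate hθ) ▸ bot'_le w

theorem cellIdeal_detIdx {t : ℕ} (ht : 1 ≤ t) (htd : t ≤ d + 1) (htr : t ≤ r + 1) :
    cellIdeal K (detIdx d r t ht htd htr) = CAlgX.minorIdeal (genMatrix K r d) t := by
  rw [← span_cellMinor_eq t ht, cellIdeal]
  simp only [le_detIdx_iff, not_lt]

theorem cellIdeal_isPrime (hd : 0 < d) (w : Idx d (d + r)) :
    (schubertVanishing K d (d + r) w ⊔ Ideal.span {X (bot' d r) - 1}) ≠ ⊤ := by
  classical
  intro htop
  have h0 := cell_indep hd w {0} (fun _ => (1 : K)) (fun s hs => by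
    rw [Finset.mem_singleton.1 hs]
    exact ⟨fun a ha => absurd ha (Multiset.notMem_zero a), fun θ hθ => absurd hθ (Multiset.notMem_zero θ)⟩) ?_ 0
    (Finset.mem_singleton_self 0)
  · exact one_ne_zero h0
  · rw [Finset.sum_singleton, one_smul, mon_zero, ← Ideal.mem_comap, comap_cellIdeal hd, htop]
    exact Submodule.mem_top

end GrassLib
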