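import Groth.Agent.GrassLib.SMT
import Groth.Agent.GrassLib.Rank
import Groth.Agent.GrassLib.Nagata

/-!
The affine chart `p_τ ≠ 0` of the cone over the Schubert variety X(τ) is a polynomial ring with one variable inverted.
-/

universe u

open MvPolynomial Matrix

namespace GrassLib

open W4bk4grassmannian

variable {d n : ℕ} {K : Type u} [Field K]

/-- The free entries of the chart. -/
abbrev ChartIdx (τ : Idx d n) : Type :=
  {p : Fin n × Fin d // p.1 < τ.1 p.2 ∧ ∀ s, p.1 ≠ τ.1 s}

/-- The chart's coordinate ring, with the scale as the extra variable. -/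
abbrev ChartPoly (K : Type u) [CommRing K] {d n : ℕ} (τ : Idx d n) : Type u :=
  MvPolynomial (Option (ChartIdx τ)) K

/-- The normalised matrix of the chart. -/
noncomputable def chartMat (K : Type u) [CommRing K] {d n : ℕ} (τ : Idx d n) :
    Matrix (Fin n) (Fin d) (ChartPoly K τ) :=
  Matrix.of fun i t => if h : i < τ.1 t ∧ ∀ s, i ≠ τ.1 s then X (some ⟨(i, t), h⟩)
    else if i = τ.1 t then 1 else 0

/-- The scaled matrix of the chart. -/
noncomputable def scaledMat (K : Type u) [CommRing K] {d n : ℕ} (hd : 0 < d) (τ : Idx d n) :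
    Matrix (Fin n) (Fin d) (ChartPoly K τ) :=
  chartMat K τ *
    (Matrix.diagonal (Function.update (fun _ => (1 : ChartPoly K τ)) ⟨0, hd⟩ (X none)) :
      Matrix (Fin d) (Fin d) (ChartPoly K τ))

/-- The comorphism of the chart. -/
noncomputable def chartMap (K : Type u) [CommRing K] {d n : ℕ} (hd : 0 < d) (τ : Idx d n) :
    PlRing K d n →ₐ[K] ChartPoly K τ :=
  evalMat (scaledMat K hd τ)

theorem det_scaled_submatrix (hd : 0 < d) (τ : Idx d n) (a : Fin d → Fin n) :
    ((scaledMat K hd τ).submatrix a id).det = ((chartMat K τ).submatrix a id).det * X none := by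
  have : (scaledMat K hd τ).submatrix a id = (chartMat K τ).submatrix a id *
      (Matrix.diagonal (Function.update (fun _ => (1 : ChartPoly K τ)) ⟨0, hd⟩ (X none)) :
        Matrix (Fin d) (Fin d) (ChartPoly K τ)) := by
    rw [scaledMat, Matrix.submatrix_mul _ _ _ id _ Function.bijective_id, Matrix.submatrix_id_id]
  rw [this, Matrix.det_mul, Matrix.det_diagonal, Finset.prod_update_of_mem (Finset.mem_univ _)]
  simp

theorem chartMat_top (τ : Idx d n) : (chartMat K τ).submatrix τ.1 id = 1 := by
  ext s t
  simp only [Matrix.submatrix_apply, id_eq, chartMat, Matrix.of_apply]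
  rw [dif_neg fun h => h.2 s rfl, Matrix.one_apply]
  simp [τ.2.injective.eq_iff]

theorem chartMat_of_lt (τ : Idx d n) (i : Fin n) (t : Fin d) (h : τ.1 t < i) :
    chartMat K τ i t = 0 := by
  simp only [chartMat, Matrix.of_apply]
  rw [dif_neg fun h' => lt_asymm h h'.1, if_neg h.ne']

theorem chartMap_top (hd : 0 < d) (τ : Idx d n) : chartMap K hd τ (X τ) = X none := by
  rw [chartMap, evalMat_X, det_scaled_submatrix, chartMat_top, Matrix.det_one, one_mul]

theorem chartMap_coord_update (hd : 0 < d) (τ : Idx d n) (i : Fin n) (t : Fin d) :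
    chartMap K hd τ (coord K d n (Function.update τ.1 t i)) = chartMat K τ i t * X none := by
  rw [chartMap, evalMat_coord, det_scaled_submatrix]
  congr 1
  rw [det_eq_of_rows_diagonal _ t (fun _ => 1)]
  · simp
  · intro s hs k
    have := congrFun (congrFun (chartMat_top (K := K) τ) s) k
    simp only [Matrix.submatrix_apply, id_eq, Matrix.one_apply] at this
    simp [Function.update_of_ne hs, this]

variable [Infinite K]

theorem ker_chartMap (hd : 0 < d) (τ : Idx d n) :
    RingHom.ker (chartMap K hd τ) = schubertVanishing K d n τ := by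
  classical
  ext P
  rw [RingHom.mem_ker]
  constructor
  · intro h
    rw [schubertVanishing_eq_ker hd, RingHom.mem_ker]
    refine (mul_eq_zero.1 (?_ : triMap K τ P * triMap K τ (X τ) = 0)).resolve_right
      (triMap_X_ne_zero le_rfl)
    refine MvPolynomial.funext fun x => ?_
    rw [map_mul, map_zero, ← MvPolynomial.coe_aeval_eq_eval, RingHom.coe_coe, triMap,
      comp_evalMat, comp_evalMat, evalMat_X]
    set E := (triMat K τ).map (aeval x) with hEdef
    set D := (E.submatrix τ.1 id).det with hD
    by_cases hD0 : D = 0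
    · rw [hD0, mul_zero]
    · refine mul_eq_zero_of_left ?_ _
      have hE : ∀ i t, τ.1 t < i → E i t = 0 := fun i t hit => by
        simp [hEdef, triMat_of_lt τ i t hit]
      set E' := E * (E.submatrix τ.1 id)⁻¹ with hE'
      have hzero : ∀ i t, ¬ (i < τ.1 t ∧ ∀ s, i ≠ τ.1 s) →
          E' i t = if i = τ.1 t then 1 else 0 := by
        intro i t hit
        rw [hE', normalized_entry E τ hD0]
        by_cases hi : ∃ s, i = τ.1 s
        · obtain ⟨s, rfl⟩ := hi
          by_cases hst : s = t
          · subst hst
            rw [Function.update_eq_self, if_pos rfl, mul_inv_cancel₀ hD0]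
          · rw [if_neg (τ.2.injective.ne hst)]
            refine mul_eq_zero_of_left ?_ _
            refine det_tuple_eq_zero _ _ fun hc => hst ?_
            have hinj := (image_card_iff_injective _).1 hc
            exact hinj (by simp [Function.update_of_ne hst])
        · push Not at hi
          rw [if_neg (hi t)]
          refine mul_eq_zero_of_left ?_ _
          have hlt : τ.1 t < i := lt_of_le_of_ne (not_lt.1 fun h' => hit ⟨h', hi⟩) (hi t).symm
          by_cases hc : (Finset.univ.image (Function.update τ.1 t i)).card = d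
          · rw [det_tuple_eq _ _ hc, det_submatrix_eq_zero_of_support E τ hE, mul_zero]
            intro hle
            have hw : wt (sortIdx d n _ hc) = ∑ s, (Function.update τ.1 t i s).val :=
              sum_sortIdx (fun v => v.val) _ hc
            have hw2 : wt (sortIdx d n _ hc) ≤ wt τ := Finset.sum_le_sum fun s _ => hle s
            have hw3 : wt τ < ∑ s, (Function.update τ.1 t i s).val := by
              refine Finset.sum_lt_sum (fun s _ => ?_) ⟨t, Finset.mem_univ _, ?_⟩
              · rw [Function.update_apply]
                split_ifs with hs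
                · subst hs; exact le_of_lt hlt
                · exact le_rfl
              · rw [Function.update_self]; exact hlt
            omega
          · exact det_tuple_eq_zero _ _ hc
      let v : Option (ChartIdx τ) → K := fun o => o.elim D fun p => E' p.1.1 p.1.2
      have hmap : (chartMat K τ).map (aeval v) = E' := by
        ext i t
        simp only [Matrix.map_apply, chartMat, Matrix.of_apply]
        split_ifs with h1 h2
        · simp [v]
        · rw [map_one, hzero i t h1, if_pos h2]
        · rw [map_zero, hzero i t h1, if_neg h2]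
      have hminor : evalMat (K := K) ((scaledMat K hd τ).map (aeval v)) = evalMat E := by
        refine MvPolynomial.algHom_ext fun θ => ?_
        rw [evalMat_X, evalMat_X]
        have h1 := AlgHom.map_det (aeval v : ChartPoly K τ →ₐ[K] K)
          ((scaledMat K hd τ).submatrix θ.1 id)
        rw [det_scaled_submatrix, map_mul, AlgHom.map_det] at h1
        simp only [AlgHom.mapMatrix_apply, ← Matrix.submatrix_map] at h1
        rw [← h1, hmap]
        have h2 : E'.submatrix θ.1 id = E.submatrix θ.1 id * (E.submatrix τ.1 id)⁻¹ := by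
          ext s t
          simp [hE', Matrix.mul_apply]
        rw [h2, Matrix.det_mul, Matrix.det_nonsing_inv, Ring.inverse_eq_inv', ← hD]
        simp [v, hD0]
      rw [← hminor, ← comp_evalMat, ← chartMap, h, map_zero]
  · intro h
    refine MvPolynomial.funext fun x => ?_
    rw [map_zero, ← MvPolynomial.coe_aeval_eq_eval, RingHom.coe_coe, chartMap, comp_evalMat,
      ← evalMinors_eq]
    refine (mem_schubertVanishing_iff τ P).1 h _ fun φ hφ =>
      det_submatrix_eq_zero_of_support _ τ (fun i t hit => ?_) φ hφ
    simp [scaledMat, Matrix.mul_diagonal, chartMat_of_lt τ i t hit]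

theorem chartMap_range (hd : 0 < d) (τ : Idx d n) (q : ChartPoly K τ) :
    ∃ (P : PlRing K d n) (k : ℕ), q * (X none) ^ k = chartMap K hd τ P := by
  induction q using MvPolynomial.induction_on with
  | C a => exact ⟨C a, 0, by rw [pow_zero, mul_one]; exact ((chartMap K hd τ).commutes a).symm⟩
  | add p q hp hq =>
    obtain ⟨P, k, hP⟩ := hp
    obtain ⟨Q, l, hQ⟩ := hq
    refine ⟨P * X τ ^ l + Q * X τ ^ k, k + l, ?_⟩
    rw [map_add, map_mul, map_mul, map_pow, map_pow, chartMap_top, ← hP, ← hQ, pow_add]
    ring
  | mul_X p o hp =>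
    obtain ⟨P, k, hP⟩ := hp
    cases o with
    | none => exact ⟨P * X τ, k, by rw [map_mul, chartMap_top, ← hP]; ring⟩
    | some z =>
      refine ⟨P * coord K d n (Function.update τ.1 z.1.2 z.1.1), k + 1, ?_⟩
      rw [map_mul, chartMap_coord_update, ← hP,
        show chartMat K τ z.1.1 z.1.2 = X (some z) by
          simp [chartMat, z.2.1, z.2.2], pow_succ]
      ring

/-- The localisation at `p_τ` is factorial. -/
theorem exists_chart (hd : 0 < d) (τ : Idx d n) :
    ∃ (L : Type u) (_ : CommRing L) (_ : Algebra (PlRing K d n ⧸ schubertVanishing K d n τ) L),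
      IsLocalization.Away (Ideal.Quotient.mk (schubertVanishing K d n τ) (X τ)) L ∧
        IsDomain L ∧ UniqueFactorizationMonoid L := by
  let ψ : (PlRing K d n ⧸ schubertVanishing K d n τ) →+* ChartPoly K τ :=
    Ideal.Quotient.lift _ (chartMap K hd τ).toRingHom fun P hP => by
      rw [← ker_chartMap hd τ] at hP
      exact hP
  have hψmk : ∀ P, ψ (Ideal.Quotient.mk _ P) = chartMap K hd τ P := fun P => rfl
  have hψ : Function.Injective ψ := by
    rw [injective_iff_map_eq_zero]
    intro r hr
    obtain ⟨P, rfl⟩ := Ideal.Quotient.mk_surjective r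
    rw [Ideal.Quotient.eq_zero_iff_mem, ← ker_chartMap hd τ]
    exact hr
  let M : Submonoid (ChartPoly K τ) := Submonoid.powers (X none)
  have hM : M ≤ nonZeroDivisors (ChartPoly K τ) :=
    powers_le_nonZeroDivisors_of_noZeroDivisors (X_ne_zero none)
  let L := Localization M
  let : Algebra (PlRing K d n ⧸ schubertVanishing K d n τ) L :=
    ((algebraMap (ChartPoly K τ) L).comp ψ).toAlgebra
  have hdom : IsDomain L := IsLocalization.isDomain_localization hM
  have hinj : Function.Injective (algebraMap (ChartPoly K τ) L) := IsLocalization.injective L hM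
  refine ⟨L, inferInstance, inferInstance, ?_, hdom, ufd_of_isLocalization M L⟩
  have hx : ψ (Ideal.Quotient.mk (schubertVanishing K d n τ) (X τ)) = X none := by
    rw [hψmk, chartMap_top]
  refine ⟨?_, ?_, ?_⟩
  · rintro ⟨y, k, rfl⟩
    show IsUnit (algebraMap (ChartPoly K τ) L (ψ (_ ^ k)))
    rw [map_pow, hx]
    exact IsLocalization.map_units L (⟨X none ^ k, k, rfl⟩ : M)
  · intro z
    obtain ⟨⟨q, ⟨_, l, rfl⟩⟩, hz⟩ := IsLocalization.surj M z
    obtain ⟨P, k, hP⟩ := chartMap_range hd τ q
    refine ⟨⟨Ideal.Quotient.mk _ P, ⟨_, l + k, rfl⟩⟩, ?_⟩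
    show z * algebraMap (ChartPoly K τ) L (ψ (_ ^ (l + k))) = algebraMap (ChartPoly K τ) L (ψ _)
    simp only at hz
    rw [map_pow ψ, hx, hψmk, ← hP, pow_add, map_mul, map_mul, ← mul_assoc, hz]
  · intro a b hab
    exact ⟨1, by rw [hψ (hinj hab)]⟩

end GrassLib
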