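import Groth.Agent.GrassLib.CMQuot
import Groth.Agent.TildeCompl.Basic

/-!
A cone is Cohen–Macaulay if and only if it is Cohen–Macaulay at the vertex.
-/

universe u

open MvPolynomial IsLocalRing

namespace GrassLib

open LocCoh

theorem isLocalization_atPrime_quotient {A : Type u} [CommRing A] (M : Ideal A) [M.IsPrime] (I : Ideal A)
    [hP : (M.map (Ideal.Quotient.mk I)).IsPrime] (hIM : I ≤ M) :
    IsLocalization.AtPrime (Localization.AtPrime M ⧸ I.map (algebraMap A (Localization.AtPrime M)))
      (M.map (Ideal.Quotient.mk I)) := by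
  have hcomap : (M.map (Ideal.Quotient.mk I)).comap (Ideal.Quotient.mk I) = M := by
    rw [Ideal.comap_map_of_surjective' _ Ideal.Quotient.mk_surjective, Ideal.mk_ker, sup_eq_left.2 hIM]
  have hsub : Algebra.algebraMapSubmonoid (A ⧸ I) M.primeCompl =
      (M.map (Ideal.Quotient.mk I)).primeCompl := by
    ext z
    constructor
    · rintro ⟨x, hx, rfl⟩ hz
      exact hx (hcomap ▸ hz)
    · intro hz
      obtain ⟨x, rfl⟩ := Ideal.Quotient.mk_surjective z
      exact ⟨x, fun hx => hz (Ideal.mem_map_of_mem _ hx), rfl⟩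
  rw [IsLocalization.AtPrime, ← hsub]
  infer_instance

theorem isCohenMacaulayLocalRing_quotient_span {L : Type u} [CommRing L] [IsCohenMacaulayLocalRing L]
    (y : L) (hy : y ∈ maximalIdeal L) (hreg : IsSMulRegular L y) :
    IsCohenMacaulayLocalRing (L ⧸ Ideal.span {y}) ∧ ringKrullDim (L ⧸ Ideal.span {y}) + 1 = ringKrullDim L := by
  have : Nontrivial (L ⧸ Ideal.span {y}) := Ideal.Quotient.nontrivial_iff.2 fun h =>
    (maximalIdeal.isMaximal L).ne_top (top_le_iff.1 (h ▸ (Ideal.span_singleton_le_iff_mem _).2 hy))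
  have : IsLocalRing (L ⧸ Ideal.span {y}) := IsLocalRing.of_surjective' _ Ideal.Quotient.mk_surjective
  let e : QuotSMulTop y L ≃ₗ[L] L ⧸ Ideal.span {y} := Submodule.quotEquivOfEq _ _ (by
    rw [← Submodule.ideal_span_singleton_smul]; simp)
  have h := (Groth.Agent.Depth.isCohenMacaulayModule_quotSMulTop_iff (R := L) (M := L) hy hreg).2
    Groth.Agent.Depth.isCohenMacaulayModule_self
  rw [IsCohenMacaulayModule, Module.supportDim_eq_of_equiv e,
    Groth.Agent.Depth.depth_congr e, Module.supportDim_quotient_eq_ringKrullDim,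
    ← Groth.Agent.Depth.depth_eq_of_surjective (R := L) (S := L ⧸ Ideal.span {y}) (M := L ⧸ Ideal.span {y})
      Ideal.Quotient.mk_surjective] at h
  refine ⟨Groth.Agent.Depth.isCohenMacaulayLocalRing_iff.2 h, ?_⟩
  rw [← Module.supportDim_quotient_eq_ringKrullDim (R := L), ← Module.supportDim_eq_of_equiv e,
    Module.supportDim_quotSMulTop_succ_eq_supportDim hreg hy, Module.supportDim_self_eq_ringKrullDim]

theorem quotient_step {A : Type u} [CommRing A] [IsLocalRing A] (I : Ideal A) (a : A)
    [IsCohenMacaulayLocalRing (A ⧸ I)] (ha : a ∈ maximalIdeal A)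
    (hreg : IsSMulRegular (A ⧸ I) (Ideal.Quotient.mk I a)) {J : Ideal A} (hJ : J = I ⊔ Ideal.span {a}) :
    IsCohenMacaulayLocalRing (A ⧸ J) ∧ ringKrullDim (A ⧸ J) + 1 = ringKrullDim (A ⧸ I) := by
  subst hJ
  have : IsLocalHom (Ideal.Quotient.mk I) := Ideal.Quotient.mk_surjective.isLocalHom _
  have hym : Ideal.Quotient.mk I a ∈ maximalIdeal (A ⧸ I) := by
    rw [IsLocalRing.mem_maximalIdeal, mem_nonunits_iff] at ha ⊢
    exact fun h => ha (isUnit_of_map_unit _ _ h)
  obtain ⟨h1, h2⟩ := isCohenMacaulayLocalRing_quotient_span (Ideal.Quotient.mk I a) hym hreg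
  let e : ((A ⧸ I) ⧸ Ideal.span {Ideal.Quotient.mk I a}) ≃+* (A ⧸ I ⊔ Ideal.span {a}) :=
    (Ideal.quotEquivOfEq (by rw [Ideal.map_span, Set.image_singleton])).trans
      (DoubleQuot.quotQuotEquivQuotSup I (Ideal.span {a}))
  exact ⟨isCohenMacaulayLocalRing_of_ringEquiv e, by rw [← ringKrullDim_eq_of_ringEquiv e, h2]⟩

theorem exists_pow_mem {A : Type u} [CommRing A] [IsLocalRing A] (I : Ideal A) [Nontrivial (A ⧸ I)]
    (hdim : ringKrullDim (A ⧸ I) = 0) {x : A} (hx : x ∈ maximalIdeal A) : ∃ k, x ^ k ∈ I := by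
  have : IsLocalRing (A ⧸ I) := IsLocalRing.of_surjective' _ Ideal.Quotient.mk_surjective
  have : Ring.KrullDimLE 0 (A ⧸ I) :=
    (Ring.krullDimLE_iff (n := 0) (R := A ⧸ I)).2 (le_of_eq hdim)
  have : IsLocalHom (Ideal.Quotient.mk I) := Ideal.Quotient.mk_surjective.isLocalHom _
  have hnil : IsNilpotent (Ideal.Quotient.mk I x) := by
    rw [← mem_nilradical, nilradical_eq_sInf, Ideal.mem_sInf]
    intro P hP
    have : P.IsPrime := hP
    rw [IsLocalRing.eq_maximalIdeal (Ideal.IsPrime.isMaximal' ‹P.IsPrime›), IsLocalRing.mem_maximalIdeal,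
      mem_nonunits_iff]
    exact fun h => hx (isUnit_of_map_unit _ _ h)
  obtain ⟨k, hk⟩ := hnil
  exact ⟨k, by rwa [← map_pow, Ideal.Quotient.eq_zero_iff_mem] at hk⟩

variable {K : Type u} [Field K] {σ : Type} [Fintype σ]

theorem homogeneousComponent_mul_homogeneous {f g : MvPolynomial σ K} {j : ℕ} (hg : g.IsHomogeneous j)
    (k : ℕ) : ∃ r, homogeneousComponent k (f * g) = r * g := by
  classical
  refine ⟨∑ i ∈ Finset.range (f.totalDegree + 1), if i + j = k then homogeneousComponent i f else 0, ?_⟩
  conv_lhs => rw [← sum_homogeneousComponent f, Finset.sum_mul, map_sum]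
  rw [Finset.sum_mul]
  refine Finset.sum_congr rfl fun i _ => ?_
  rw [homogeneousComponent_of_mem ((homogeneousComponent_isHomogeneous i f).mul hg)]
  split_ifs with h h' h'
  · rfl
  · omega
  · omega
  · rw [zero_mul]

theorem homogeneousComponent_mem_span {T : Set (MvPolynomial σ K)}
    (hT : ∀ f ∈ T, ∃ j, f.IsHomogeneous j) {P : MvPolynomial σ K} (hP : P ∈ Ideal.span T) (k : ℕ) :
    homogeneousComponent k P ∈ Ideal.span T := by
  obtain ⟨m, c, g, rfl⟩ := Submodule.mem_span_set'.1 hP
  rw [map_sum]
  refine Ideal.sum_mem _ fun i _ => ?_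
  obtain ⟨j, hj⟩ := hT _ (g i).2
  obtain ⟨r, hr⟩ := homogeneousComponent_mul_homogeneous (f := c i) hj k
  rw [smul_eq_mul, hr]
  exact Ideal.mul_mem_left _ _ (Ideal.subset_span (g i).2)

/-- Freeness over linear forms of a graded quotient. -/
theorem isCohenMacaulayRing_of_linear_regular (I : Ideal (MvPolynomial σ K)) (fs : List (MvPolynomial σ K))
    (hfs : ∀ f ∈ fs, f.IsHomogeneous 1) (hne : I ≠ ⊤)
    (hhom : ∀ P ∈ I, ∀ k, homogeneousComponent k P ∈ I) (hreg : RegMod I fs)
    (hrad : ∀ i, X i ∈ (I ⊔ Ideal.ofList fs).radical) :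
    IsCohenMacaulayRing (MvPolynomial σ K ⧸ I) := by
  classical
  have := Ideal.Quotient.nontrivial_iff.2 hne
  set M := I ⊔ Ideal.ofList fs with hM
  let π : MvPolynomial σ K →ₗ[K] MvPolynomial σ K ⧸ M := (Ideal.Quotient.mkₐ K M).toLinearMap
  choose N hN using hrad
  let box : Finset (σ →₀ ℕ) :=
    (Fintype.piFinset fun i : σ => Finset.range (N i + 1)).map
      Finsupp.equivFunOnFinite.symm.toEmbedding
  let U : Set (MvPolynomial σ K ⧸ M) := (fun e => π (monomial e 1)) '' ↑box
  have hU : ∀ P, π P ∈ Submodule.span K U := by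
    intro P
    induction P using MvPolynomial.induction_on' with
    | monomial e a =>
      rw [show monomial e a = a • monomial e (1 : K) by rw [smul_monomial, smul_eq_mul, mul_one],
        map_smul]
      refine Submodule.smul_mem _ _ ?_
      by_cases he : e ∈ box
      · exact Submodule.subset_span ⟨e, he, rfl⟩
      · obtain ⟨θ, hθ⟩ : ∃ θ, N θ < e θ := by
          by_contra hcon
          push Not at hcon
          refine he (Finset.mem_map.2 ⟨fun θ => e θ, ?_, Finsupp.ext fun θ => rfl⟩)
          exact Fintype.mem_piFinset.2 fun θ => Finset.mem_range.2 (Nat.lt_succ_of_le (hcon θ))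
        have h0 : π (monomial e 1) = 0 := by
          refine Ideal.Quotient.eq_zero_iff_mem.2 ?_
          refine Ideal.mem_of_dvd _ ?_ (hN θ)
          rw [X_pow_eq_monomial, monomial_dvd_monomial]
          exact ⟨Or.inr (Finsupp.single_le_iff.2 hθ.le), dvd_rfl⟩
        rw [h0]
        exact Submodule.zero_mem _
    | add p q hp hq => rw [map_add]; exact Submodule.add_mem _ hp hq
  obtain ⟨b', hb', hbspan, hbli⟩ := exists_linearIndependent K U
  have : Fintype b' := ((box.finite_toSet.image _).subset hb').fintype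
  choose ex hexbox hex using fun j : b' => hb' j.2
  let b : b' → MvPolynomial σ K := fun j => monomial (ex j) 1
  have hbπ : ∀ j, π (b j) = j.1 := hex
  have hind : ∀ a : b' → K, ∑ j, a j • b j ∈ M → a = 0 := by
    intro a ha
    refine funext (Fintype.linearIndependent_iff.1 hbli a ?_)
    have h : π (∑ j, a j • b j) = 0 := Ideal.Quotient.eq_zero_iff_mem.2 ha
    rw [map_sum] at h
    rw [← h]
    exact Finset.sum_congr rfl fun j _ => by rw [map_smul, hbπ]
  let ev : MvPolynomial (Fin fs.length) K →ₐ[K] MvPolynomial σ K := aeval fs.get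
  letI : Algebra (MvPolynomial (Fin fs.length) K) (MvPolynomial σ K ⧸ I) :=
    ((Ideal.Quotient.mkₐ K I).comp ev).toRingHom.toAlgebra
  have hsmul : ∀ p x, p • Ideal.Quotient.mk I x = Ideal.Quotient.mk I (ev p * x) := fun p x => by
    rw [Algebra.smul_def, map_mul]
    rfl
  let bR : b' → MvPolynomial σ K ⧸ I := fun j => Ideal.Quotient.mk I (b j)
  have hli : LinearIndependent (MvPolynomial (Fin fs.length) K) bR := by
    rw [Fintype.linearIndependent_iff]
    intro g hg
    refine congrFun (regMod_indep b fs I hreg hind g ?_)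
    rw [← Ideal.Quotient.eq_zero_iff_mem, map_sum, ← hg]
    exact Finset.sum_congr rfl fun j _ => (hsmul _ _).symm
  have hspan : ⊤ ≤ Submodule.span (MvPolynomial (Fin fs.length) K) (Set.range bR) := by
    set W := Submodule.span (MvPolynomial (Fin fs.length) K) (Set.range bR)
    have hK : ∀ (a : K) x, Ideal.Quotient.mk I x ∈ W → Ideal.Quotient.mk I (a • x) ∈ W := by
      intro a x hx
      have := W.smul_mem (C a) hx
      rwa [hsmul, show ev (C a) * x = a • x by simp [ev, smul_eq_C_mul]] at this
    suffices H : ∀ k (Q : MvPolynomial σ K), Q.IsHomogeneous k → Ideal.Quotient.mk I Q ∈ W by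
      rintro x -
      obtain ⟨P, rfl⟩ := Ideal.Quotient.mk_surjective x
      rw [← sum_homogeneousComponent P, map_sum]
      exact Submodule.sum_mem _ fun k _ => H k _ (homogeneousComponent_isHomogeneous k P)
    intro k
    induction k using Nat.strong_induction_on with
    | _ k ih =>
      intro Q hQ
      have hrange : π Q ∈ Submodule.span K (Set.range fun j => π (b j)) := by
        rw [show (Set.range fun j => π (b j)) = b' by
          simp only [hbπ]; exact Subtype.range_coe, hbspan]
        exact hU Q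
      obtain ⟨a, ha⟩ := (Submodule.mem_span_range_iff_exists_fun K).1 hrange
      have hdiff : Q - ∑ j, a j • b j ∈ M := by
        rw [← Ideal.Quotient.eq_zero_iff_mem]
        show π (Q - ∑ j, a j • b j) = 0
        rw [map_sub, map_sum, ← ha, sub_eq_zero]
        exact Finset.sum_congr rfl fun j _ => (map_smul π (a j) (b j)).symm
      obtain ⟨i, hi, z, hz, hiz⟩ := Submodule.mem_sup.1 hdiff
      rw [Ideal.ofList, show {x | x ∈ fs} = Set.range fs.get from (Set.range_list_get fs).symm] at hz
      obtain ⟨g, rfl⟩ := (Ideal.mem_span_range_iff_exists_fun).1 hz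
      have hQeq : Q = homogeneousComponent k (∑ j, a j • b j) + homogeneousComponent k i +
          ∑ j, homogeneousComponent k (g j * fs.get j) := by
        rw [← map_sum, ← map_add, ← map_add, show ∑ j, a j • b j + i + ∑ j, g j * fs.get j = Q by
          linear_combination hiz]
        exact (homogeneousComponent_eq_self hQ).symm
      rw [hQeq, map_add, map_add]
      refine Submodule.add_mem _ (Submodule.add_mem _ ?_ ?_) ?_
      · rw [map_sum, map_sum]
        refine Submodule.sum_mem _ fun j _ => ?_
        rw [map_smul]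
        refine hK _ _ ?_
        rw [homogeneousComponent_of_mem (isHomogeneous_monomial (1 : K) rfl)]
        split_ifs
        · exact Submodule.subset_span ⟨j, rfl⟩
        · rw [map_zero]; exact Submodule.zero_mem _
      · rw [Ideal.Quotient.eq_zero_iff_mem.2 (hhom i hi k)]
        exact Submodule.zero_mem _
      · rw [map_sum]
        refine Submodule.sum_mem _ fun j _ => ?_
        have hL : (fs.get j).IsHomogeneous 1 := hfs _ (List.get_mem fs j)
        conv => arg 2; rw [← sum_homogeneousComponent (g j), Finset.sum_mul, map_sum, map_sum]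
        refine Submodule.sum_mem _ fun l _ => ?_
        rw [homogeneousComponent_of_mem ((homogeneousComponent_isHomogeneous l (g j)).mul hL)]
        split_ifs with hl
        · rw [mul_comm, show fs.get j = ev (X j) by simp [ev], ← hsmul]
          exact W.smul_mem _ (ih l (by omega) _ (homogeneousComponent_isHomogeneous l _))
        · rw [map_zero]; exact Submodule.zero_mem _
  let B := Module.Basis.mk hli hspan
  have : Module.Free (MvPolynomial (Fin fs.length) K) (MvPolynomial σ K ⧸ I) := Module.Free.of_basis B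
  have : Module.Finite (MvPolynomial (Fin fs.length) K) (MvPolynomial σ K ⧸ I) := Module.Finite.of_basis B
  exact (isCohenMacaulayRing_of_free (K := K) (R := MvPolynomial σ K ⧸ I) (e := fs.length)).1

variable (K σ) in
/-- The vertex. -/
noncomputable def vertex : Ideal (MvPolynomial σ K) := RingHom.ker constantCoeff

instance : (vertex K σ).IsMaximal :=
  RingHom.ker_isMaximal_of_surjective _ fun c => ⟨C c, constantCoeff_C _ c⟩

theorem vertex_le {P : Ideal (MvPolynomial σ K)} (h : ∀ i, X i ∈ P) : vertex K σ ≤ P := by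
  intro f hf
  rw [vertex, RingHom.mem_ker, constantCoeff_eq] at hf
  rw [MvPolynomial.as_sum f]
  refine Ideal.sum_mem _ fun e he => ?_
  have he0 : e ≠ 0 := by
    rintro rfl
    exact (MvPolynomial.mem_support_iff.1 he) hf
  obtain ⟨i, hi⟩ := Finsupp.support_nonempty_iff.2 he0
  rw [MvPolynomial.monomial_eq]
  exact Ideal.mul_mem_left _ _ (Ideal.prod_mem _ hi
    (Ideal.pow_mem_of_mem _ (h i) _ (Nat.pos_of_ne_zero (Finsupp.mem_support_iff.1 hi))))

theorem le_vertex {I : Ideal (MvPolynomial σ K)} (hne : I ≠ ⊤)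
    (hhom : ∀ P ∈ I, ∀ k, homogeneousComponent k P ∈ I) : I ≤ vertex K σ := by
  intro P hP
  rw [vertex, RingHom.mem_ker]
  by_contra h
  refine hne (Ideal.eq_top_of_isUnit_mem _ (hhom P hP 0) ?_)
  rw [homogeneousComponent_zero]
  exact ((Ne.isUnit (by rwa [constantCoeff_eq] at h)).map C)

/-- The local ring of the vertex. -/
abbrev vertexRing (I : Ideal (MvPolynomial σ K)) : Type u :=
  Localization.AtPrime (vertex K σ) ⧸ I.map (algebraMap _ (Localization.AtPrime (vertex K σ)))

theorem vertexRing_step (I : Ideal (MvPolynomial σ K)) (f : MvPolynomial σ K)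
    [IsCohenMacaulayLocalRing (vertexRing I)] (hf : f ∈ vertex K σ)
    (hreg : IsSMulRegular (vertexRing I) (Ideal.Quotient.mk (I.map (algebraMap _ (Localization.AtPrime (vertex K σ))))
      (algebraMap _ (Localization.AtPrime (vertex K σ)) f))) :
    IsCohenMacaulayLocalRing (vertexRing (I ⊔ Ideal.span {f})) ∧
      ringKrullDim (vertexRing (I ⊔ Ideal.span {f})) + 1 = ringKrullDim (vertexRing I) := by
  refine quotient_step _ _ ?_ hreg (by rw [Ideal.map_sup, Ideal.map_span, Set.image_singleton])
  rw [← Localization.AtPrime.map_eq_maximalIdeal]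
  exact Ideal.mem_map_of_mem _ hf

variable [Infinite K]

theorem exists_regular_forms : ∀ (n : ℕ) (I : Ideal (MvPolynomial σ K)), I ≠ ⊤ →
    (∀ P ∈ I, ∀ k, homogeneousComponent k P ∈ I) → IsCohenMacaulayLocalRing (vertexRing I) →
    ringKrullDim (vertexRing I) = (n : WithBot ℕ∞) →
    ∃ fs : List (MvPolynomial σ K), (∀ f ∈ fs, f.IsHomogeneous 1) ∧ RegMod I fs ∧
      ∀ i, X i ∈ (I ⊔ Ideal.ofList fs).radical
  | 0, I, hne, hhom, hcm, hdim => by
    refine ⟨[], by simp, trivial, fun i => ?_⟩
    let L := Localization.AtPrime (vertex K σ)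
    have hX : algebraMap (MvPolynomial σ K) L (X i) ∈ maximalIdeal L := by
      rw [← Localization.AtPrime.map_eq_maximalIdeal]
      exact Ideal.mem_map_of_mem _ (by simp [vertex])
    obtain ⟨k, hk⟩ := exists_pow_mem (I.map (algebraMap _ L)) (by rw [hdim]; rfl) hX
    rw [← map_pow, IsLocalization.algebraMap_mem_map_algebraMap_iff (vertex K σ).primeCompl] at hk
    obtain ⟨s, hs, hsk⟩ := hk
    refine ⟨k, Ideal.mem_sup_left ?_⟩
    have h := hhom _ hsk k
    conv at h => arg 2; rw [← sum_homogeneousComponent s, Finset.sum_mul, map_sum]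
    rw [Finset.sum_eq_single_of_mem 0 (by simp)] at h
    · rw [homogeneousComponent_of_mem ((homogeneousComponent_isHomogeneous 0 s).mul
        ((isHomogeneous_X K i).pow k)), if_pos (by simp), homogeneousComponent_zero] at h
      refine (Ideal.unit_mul_mem_iff_mem _ ?_).1 h
      exact ((Ne.isUnit fun h0 => hs (by simp [vertex, constantCoeff_eq, h0])).map C)
    · intro l _ hl
      rw [homogeneousComponent_of_mem ((homogeneousComponent_isHomogeneous l s).mul
        ((isHomogeneous_X K i).pow k)), if_neg (by omega)]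
  | n + 1, I, hne, hhom, hcm, hdim => by
    classical
    let L := Localization.AtPrime (vertex K σ)
    let R := MvPolynomial σ K ⧸ I
    have hle := le_vertex hne hhom
    have hmp : ((vertex K σ).map (Ideal.Quotient.mk I)).IsPrime :=
      Ideal.map_isPrime_of_surjective Ideal.Quotient.mk_surjective (by rw [Ideal.mk_ker]; exact hle)
    -- the vertex is not associated
    have hdepth : (1 : ℕ∞) ≤ LocCoh.depth (vertexRing I) (vertexRing I) := by
      have h := Groth.Agent.Depth.ringKrullDim_eq_depth (R := vertexRing I)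
      rw [hdim] at h
      have h' : (((n + 1 : ℕ) : ℕ∞) : WithBot ℕ∞) =
          ((LocCoh.depth (vertexRing I) (vertexRing I) : ℕ∞) : WithBot ℕ∞) := h
      rw [← WithBot.coe_eq_coe.1 h']
      exact_mod_cast Nat.le_add_left 1 n
    obtain ⟨r, hr, hrreg⟩ := (Groth.Agent.Depth.one_le_idealDepth_iff
      Groth.Agent.Depth.maximalIdeal_smul_top_ne_top).1 hdepth
    have hnotass : (vertex K σ).map (Ideal.Quotient.mk I) ∉ associatedPrimes R R := by
      intro hass
      obtain ⟨-, y, hy⟩ := isAssociatedPrime_iff.1 hass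
      obtain ⟨y, rfl⟩ := Ideal.Quotient.mk_surjective y
      have hkill : ∀ x ∈ vertex K σ, x * y ∈ I := fun x hx => by
        have := hy ▸ Ideal.mem_map_of_mem (Ideal.Quotient.mk I) hx
        rwa [Submodule.mem_colon_singleton, Submodule.mem_bot, smul_eq_mul, ← map_mul,
          Ideal.Quotient.eq_zero_iff_mem] at this
      obtain ⟨r, rfl⟩ := Ideal.Quotient.mk_surjective r
      have : IsLocalHom (Ideal.Quotient.mk (I.map (algebraMap _ L))) :=
        Ideal.Quotient.mk_surjective.isLocalHom _
      have hrm : r ∈ maximalIdeal L := by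
        rw [IsLocalRing.mem_maximalIdeal, mem_nonunits_iff] at hr ⊢
        exact fun h => hr (h.map _)
      obtain ⟨a, s, rfl⟩ := IsLocalization.exists_mk'_eq (vertex K σ).primeCompl r
      rw [← Localization.AtPrime.map_eq_maximalIdeal] at hrm
      have ha : a ∈ vertex K σ := by
        rw [IsLocalization.mk'_mem_iff] at hrm
        rw [Localization.AtPrime.map_eq_maximalIdeal] at hrm
        exact (IsLocalization.AtPrime.under_maximalIdeal L (vertex K σ)).le hrm
      have hy0 : Ideal.Quotient.mk (I.map (algebraMap _ L)) (algebraMap _ L y) = 0 := by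
        refine hrreg (Eq.trans ?_ (smul_zero _).symm)
        beta_reduce
        rw [smul_eq_mul, ← map_mul, Ideal.Quotient.eq_zero_iff_mem,
          show IsLocalization.mk' L a s * algebraMap _ L y =
            IsLocalization.mk' L (a * y) s by rw [mul_comm, IsLocalization.mul_mk'_eq_mk'_of_mul, mul_comm],
          IsLocalization.mk'_mem_iff]
        exact Ideal.mem_map_of_mem _ (hkill a ha)
      rw [Ideal.Quotient.eq_zero_iff_mem,
        IsLocalization.algebraMap_mem_map_algebraMap_iff (vertex K σ).primeCompl] at hy0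
      obtain ⟨t, ht, hty⟩ := hy0
      have hyI : y ∈ I := by
        have hmem : t - C (constantCoeff t) ∈ vertex K σ := by simp [vertex]
        have h2 : C (constantCoeff t) * y ∈ I := by
          have := I.sub_mem hty (hkill _ hmem)
          rwa [show t * y - (t - C (constantCoeff t)) * y = C (constantCoeff t) * y by ring] at this
        exact (Ideal.unit_mul_mem_iff_mem _ ((Ne.isUnit fun h0 => ht (by simp [vertex, h0])).map C)).1 h2
      refine hmp.ne_top ((Ideal.eq_top_iff_one _).2 ?_)
      rw [hy, Submodule.mem_colon_singleton, Submodule.mem_bot, one_smul, Ideal.Quotient.eq_zero_iff_mem]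
      exact hyI
    -- a linear form avoiding the associated primes
    let lin : (σ → K) →ₗ[K] MvPolynomial σ K := Fintype.linearCombination K (fun i => (X i : MvPolynomial σ K))
    have hlinX : ∀ i, lin (Pi.single i 1) = X i := fun i => by
      simp [lin, Fintype.linearCombination_apply_single]
    let W : Ideal R → Submodule K (σ → K) := fun P =>
      ((P.comap (Ideal.Quotient.mk I)).restrictScalars K).comap lin
    have hfin : (associatedPrimes R R).Finite := associatedPrimes.finite R R
    obtain ⟨v, hv⟩ : ∃ v : σ → K, ∀ P ∈ associatedPrimes R R, v ∉ W P := by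
      by_contra hcon
      push Not at hcon
      refine Subspace.biUnion_ne_univ_of_top_notMem (s := hfin.toFinset.image W) ?_ ?_
      · intro htop
        obtain ⟨P, hP, hPtop⟩ := Finset.mem_image.1 htop
        rw [Set.Finite.mem_toFinset] at hP
        have := hP.isPrime
        have hXP : ∀ i, X i ∈ P.comap (Ideal.Quotient.mk I) := fun i => by
          have h : Pi.single i (1 : K) ∈ W P := hPtop ▸ Submodule.mem_top
          rw [← hlinX i]
          exact h
        have hPm : P = (vertex K σ).map (Ideal.Quotient.mk I) := by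
          have hc := (inferInstance : (vertex K σ).IsMaximal).eq_of_le
            (Ideal.comap_ne_top _ this.ne_top) (vertex_le hXP)
          rw [hc, Ideal.map_comap_of_surjective _ Ideal.Quotient.mk_surjective]
        exact hnotass (hPm ▸ hP)
      · refine Set.eq_univ_of_forall fun v => ?_
        obtain ⟨P, hP, hvP⟩ := hcon v
        exact Set.mem_biUnion (Finset.mem_image_of_mem W (hfin.mem_toFinset.2 hP)) hvP
    set f := lin v
    have hfhom : f.IsHomogeneous 1 := by
      show (Fintype.linearCombination K (fun i => (X i : MvPolynomial σ K)) v).IsHomogeneous 1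
      rw [Fintype.linearCombination_apply]
      exact IsHomogeneous.sum _ _ _ fun i _ => by
        rw [smul_eq_C_mul]; exact (isHomogeneous_X K i).C_mul _
    have hfv : f ∈ vertex K σ := by
      show constantCoeff f = 0
      rw [constantCoeff_eq]
      exact hfhom.coeff_eq_zero (by simp)
    have hfreg : ∀ x, f * x ∈ I → x ∈ I := by
      intro x hx
      by_contra hxI
      obtain ⟨P, hP, hle'⟩ := exists_le_isAssociatedPrime_of_isNoetherianRing R
        (Ideal.Quotient.mk I x) (fun h => hxI (Ideal.Quotient.eq_zero_iff_mem.1 h))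
      refine hv P hP (hle' ?_ : Ideal.Quotient.mk I f ∈ P)
      rw [Submodule.mem_colon_singleton, Submodule.mem_bot, smul_eq_mul, ← map_mul,
        Ideal.Quotient.eq_zero_iff_mem]
      exact hx
    have hreg : IsSMulRegular (vertexRing I) (Ideal.Quotient.mk (I.map (algebraMap _ L)) (algebraMap _ L f)) := by
      rw [isSMulRegular_iff_right_eq_zero_of_smul]
      intro z hz
      obtain ⟨z, rfl⟩ := Ideal.Quotient.mk_surjective z
      obtain ⟨a, s, rfl⟩ := IsLocalization.exists_mk'_eq (vertex K σ).primeCompl z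
      rw [smul_eq_mul, ← map_mul, Ideal.Quotient.eq_zero_iff_mem,
        IsLocalization.mul_mk'_eq_mk'_of_mul, IsLocalization.mk'_mem_iff,
        IsLocalization.algebraMap_mem_map_algebraMap_iff (vertex K σ).primeCompl] at hz
      obtain ⟨t, ht, htI⟩ := hz
      rw [Ideal.Quotient.eq_zero_iff_mem, IsLocalization.mk'_mem_iff,
        IsLocalization.algebraMap_mem_map_algebraMap_iff (vertex K σ).primeCompl]
      exact ⟨t, ht, hfreg _ (by rwa [show f * (t * a) = t * (f * a) by ring])⟩
    obtain ⟨hcm', hdim'⟩ := vertexRing_step I f hfv hreg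
    have hdimn : ringKrullDim (vertexRing (I ⊔ Ideal.span {f})) = (n : WithBot ℕ∞) := by
      rw [hdim, Nat.cast_succ] at hdim'
      exact Groth.Agent.Depth.withBot_add_one_cancel hdim'
    have hne' : I ⊔ Ideal.span {f} ≠ ⊤ := fun h => (inferInstance : (vertex K σ).IsMaximal).ne_top
      (top_le_iff.1 (h ▸ sup_le hle ((Ideal.span_singleton_le_iff_mem _).2 hfv)))
    have hhom' : ∀ P ∈ I ⊔ Ideal.span {f}, ∀ k, homogeneousComponent k P ∈ I ⊔ Ideal.span {f} := by
      intro P hP k
      obtain ⟨a, ha, b, hb, rfl⟩ := Submodule.mem_sup.1 hP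
      obtain ⟨c, rfl⟩ := Ideal.mem_span_singleton'.1 hb
      rw [map_add]
      obtain ⟨r, hr⟩ := homogeneousComponent_mul_homogeneous (f := c) hfhom k
      rw [hr]
      exact add_mem (Ideal.mem_sup_left (hhom a ha k))
        (Ideal.mem_sup_right (Ideal.mul_mem_left _ _ (Ideal.mem_span_singleton_self f)))
    obtain ⟨fs, hfs1, hfs2, hfs3⟩ := exists_regular_forms n _ hne' hhom' hcm' hdimn
    refine ⟨f :: fs, ?_, ⟨hfreg, hfs2⟩, fun i => ?_⟩
    · intro g hg
      rcases List.mem_cons.1 hg with rfl | hg
      · exact hfhom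
      · exact hfs1 g hg
    · rw [Ideal.ofList_cons, ← sup_assoc]
      exact hfs3 i

theorem isCohenMacaulayRing_iff_vertex (I : Ideal (MvPolynomial σ K)) (hne : I ≠ ⊤)
    (hhom : ∀ P ∈ I, ∀ k, homogeneousComponent k P ∈ I)
    [hm : ((vertex K σ).map (Ideal.Quotient.mk I)).IsPrime] :
    IsCohenMacaulayRing (MvPolynomial σ K ⧸ I) ↔
      IsCohenMacaulayLocalRing (Localization.AtPrime ((vertex K σ).map (Ideal.Quotient.mk I))) := by
  refine ⟨fun h => h.isCohenMacaulayLocalRing_localization _, fun h => ?_⟩
  have := isLocalization_atPrime_quotient (vertex K σ) I (le_vertex hne hhom)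
  have hcm : IsCohenMacaulayLocalRing (vertexRing I) := isCohenMacaulayLocalRing_of_ringEquiv
    (A := Localization.AtPrime ((vertex K σ).map (Ideal.Quotient.mk I)))
    (IsLocalization.algEquiv ((vertex K σ).map (Ideal.Quotient.mk I)).primeCompl
      (Localization.AtPrime ((vertex K σ).map (Ideal.Quotient.mk I))) (vertexRing I)).toRingEquiv
  obtain ⟨n, hn⟩ := Groth.Agent.Depth.exists_natCast_eq_supportDim (R := vertexRing I) (M := vertexRing I)
  rw [Module.supportDim_self_eq_ringKrullDim] at hn
  obtain ⟨fs, h1, h2, h3⟩ := exists_regular_forms n I hne hhom hcm (by rw [hn]; rfl)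
  exact isCohenMacaulayRing_of_linear_regular I fs h1 hne hhom h2 h3

end GrassLib
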