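import Groth.Agent.GrassLib.Expansion

/-!
Flat degenerations of the cone over a Schubert variety to monomial and binomial algebras.
-/

universe u

open MvPolynomial

namespace GrassLib

open W4bk4grassmannian

variable {d n : ℕ} (K : Type u) [Field K]

/-- The monomial on the indices below `w`. -/
noncomputable def monB {R : Type*} [CommRing R] {w : Idx d n} (s : Multiset (Below w)) :
    MvPolynomial (Below w) R :=
  (s.map fun θ => X θ).prod

@[simp] theorem monB_zero {R : Type*} [CommRing R] {w : Idx d n} :
    (monB (0 : Multiset (Below w)) : MvPolynomial (Below w) R) = 1 := by simp [monB]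

@[simp] theorem monB_cons {R : Type*} [CommRing R] {w : Idx d n} (θ : Below w)
    (s : Multiset (Below w)) :
    (monB (θ ::ₘ s) : MvPolynomial (Below w) R) = X θ * monB s := by simp [monB]

/-- The underlying indices. -/
def down {w : Idx d n} (s : Multiset (Below w)) : Multiset (Idx d n) := s.map Subtype.val

theorem down_injective {w : Idx d n} : Function.Injective (down (w := w)) :=
  Multiset.map_injective Subtype.val_injective

/-- Standard multisets of indices below `w`. -/
abbrev StdB {d n : ℕ} (w : Idx d n) : Type := {s : Multiset (Below w) // IsStd (down s)}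

variable {K}

theorem mem_span_monB {R : Type*} [CommRing R] {w : Idx d n} (p : MvPolynomial (Below w) R) :
    p ∈ Submodule.span R (Set.range (monB (R := R) (w := w))) := by
  induction p using MvPolynomial.induction_on with
  | C a =>
    rw [show (C a : MvPolynomial (Below w) R) = a • monB 0 by simp [smul_eq_C_mul]]
    exact Submodule.smul_mem _ _ (Submodule.subset_span ⟨0, rfl⟩)
  | add p q hp hq => exact add_mem hp hq
  | mul_X p θ hp =>
    have := Submodule.apply_mem_span_image_of_mem_span (LinearMap.mulRight R (X θ)) hp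
    refine Submodule.span_mono ?_ this
    rintro _ ⟨_, ⟨s, rfl⟩, rfl⟩
    exact ⟨θ ::ₘ s, by simp [mul_comm]⟩

theorem straightenB {R M : Type*} [CommRing R] [AddCommGroup M] [Module R M] {w : Idx d n}
    (F : MvPolynomial (Below w) R →ₗ[R] M)
    (h : ∀ i j : Below w, ¬ i.1 ≤ j.1 → ¬ j.1 ≤ i.1 → ∀ s : Multiset (Below w),
      F (monB (i ::ₘ j ::ₘ s)) ∈ Submodule.span R
        {x | ∃ a b : Below w, W4bk4grassmannian.sup i.1 j.1 ≤ a.1 ∧
          wt a.1 + wt b.1 = wt i.1 + wt j.1 ∧ x = F (monB (a ::ₘ b ::ₘ s))})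
    (p : MvPolynomial (Below w) R) :
    F p ∈ Submodule.span R (Set.range fun s : StdB w => F (monB s.1)) := by
  classical
  rw [← Submodule.mem_comap]
  refine (Submodule.span_le.2 ?_ : _ ≤ Submodule.comap F _) (mem_span_monB p)
  rintro _ ⟨s, rfl⟩
  rw [SetLike.mem_coe, Submodule.mem_comap]
  generalize hN : s.card * (d * n) ^ 2 - sq (down s) = N
  induction N using Nat.strong_induction_on generalizing s with
  | _ N ih =>
    by_cases hs : IsStd (down s)
    · exact Submodule.subset_span ⟨⟨s, hs⟩, rfl⟩
    · simp only [IsStd, not_forall, not_or, down, Multiset.mem_map] at hs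
      obtain ⟨_, ⟨i, hi, rfl⟩, _, ⟨j, hj, rfl⟩, h1, h2⟩ := hs
      have hne : j ≠ i := fun e => h1 (le_of_eq (congrArg Subtype.val e).symm)
      obtain ⟨s', rfl⟩ := Multiset.exists_cons_of_mem hi
      have hj' : j ∈ s' := (Multiset.mem_cons.1 hj).resolve_left hne
      obtain ⟨s'', rfl⟩ := Multiset.exists_cons_of_mem hj'
      refine (Submodule.span_le.2 ?_ : _ ≤ _) (h i j h1 h2 s'')
      rintro _ ⟨a, b, ha, hwt, rfl⟩
      have hlt := sq_lt_of_skew h1 h2 ha hwt
      have hsq : sq (down (i ::ₘ j ::ₘ s'')) < sq (down (a ::ₘ b ::ₘ s'')) := by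
        simp only [down, Multiset.map_cons, sq_cons]
        omega
      have hb := sq_le (down (a ::ₘ b ::ₘ s''))
      simp only [down, Multiset.card_map, Multiset.card_cons] at hb hsq hN
      exact ih _ (by simp only [down, Multiset.card_cons]; omega) (a ::ₘ b ::ₘ s'') rfl

variable {w : Idx d n} (a : Idx d n → ℕ)

/-- The comorphism of the deformed family. -/
noncomputable def degMap (K : Type u) [Field K] {d n : ℕ} (w : Idx d n) (a : Idx d n → ℕ) :
    MvPolynomial (Below w) (Polynomial K) →+* Polynomial (MatRing K d n) :=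
  MvPolynomial.eval₂Hom (Polynomial.mapRingHom (algebraMap K (MatRing K d n)))
    fun θ => Polynomial.monomial (a θ.1) (triMap K w (X θ.1))

@[simp] theorem degMap_C (p : Polynomial K) :
    degMap K w a (C p) = p.map (algebraMap K (MatRing K d n)) := by
  simp [degMap]

theorem degMap_monB (s : Multiset (Below w)) :
    degMap K w a (monB s) =
      Polynomial.monomial ((down s).map a).sum (triMap K w (mon K (down s))) := by
  induction s using Multiset.induction_on with
  | empty => simp [down]
  | cons θ s ih =>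
    rw [monB_cons, map_mul, ih]
    simp [degMap, down, Polynomial.monomial_mul_monomial]

theorem degMap_smul_monB (p : Polynomial K) (s : Multiset (Below w)) :
    degMap K w a (p • monB s) = p.map (algebraMap K (MatRing K d n)) *
      Polynomial.monomial ((down s).map a).sum (triMap K w (mon K (down s))) := by
  rw [smul_eq_C_mul, map_mul, degMap_C, degMap_monB]

variable [Infinite K]

theorem indep_degMap (hd : 0 < d) (S : Finset (StdB w)) (p : StdB w → Polynomial K)
    (h : degMap K w a (∑ s ∈ S, p s • monB s.1) = 0) : ∀ s ∈ S, p s = 0 := by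
  classical
  intro s hs
  refine Polynomial.ext fun k => ?_
  rw [Polynomial.coeff_zero]
  set m := k + ((down s.1).map a).sum
  have hm := congrArg (fun q => Polynomial.coeff q m) h
  simp only [map_sum, degMap_smul_monB, Polynomial.coeff_zero, Polynomial.finset_sum_coeff] at hm
  let c : StdB w → K := fun t =>
    if ((down t.1).map a).sum ≤ m then (p t).coeff (m - ((down t.1).map a).sum) else 0
  have hterm : ∀ t : StdB w, ((p t).map (algebraMap K (MatRing K d n)) *
      Polynomial.monomial ((down t.1).map a).sum (triMap K w (mon K (down t.1)))).coeff m =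
      c t • triMap K w (mon K (down t.1)) := by
    intro t
    rw [← Polynomial.C_mul_X_pow_eq_monomial, ← mul_assoc, Polynomial.coeff_mul_X_pow']
    simp only [c]
    split_ifs
    · rw [Polynomial.coeff_mul_C, Polynomial.coeff_map, Algebra.smul_def]
    · rw [zero_smul]
  simp only [hterm] at hm
  let c' : Multiset (Idx d n) → K := Function.extend (fun t : StdB w => down t.1) c 0
  have hinj : Function.Injective fun t : StdB w => down t.1 :=
    down_injective.comp Subtype.val_injective
  have h0 := triMap_mon_indep hd w (S.image fun t => down t.1) c' (fun t ht => ?_) ?_ (down s.1)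
    (Finset.mem_image_of_mem _ hs)
  · rw [show c' (down s.1) = c s from hinj.extend_apply c 0 s] at h0
    simp only [c, m, le_add_iff_nonneg_left, Nat.zero_le, if_true, Nat.add_sub_cancel] at h0
    exact h0
  · obtain ⟨u, -, rfl⟩ := Finset.mem_image.1 ht
    refine ⟨u.2, fun θ hθ => ?_⟩
    obtain ⟨θ', -, rfl⟩ := Multiset.mem_map.1 hθ
    exact θ'.2
  · rw [Finset.sum_image fun x _ y _ hxy => hinj hxy, map_sum]
    refine Eq.trans (Finset.sum_congr rfl fun t _ => ?_) hm
    rw [map_smul, show c' (down t.1) = c t from hinj.extend_apply c 0 t]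

/-- The deformed straightening relation. -/
theorem exists_rel (hd : 0 < d) (i j : Below w) (h₁ : ¬ i.1 ≤ j.1) (h₂ : ¬ j.1 ≤ i.1)
    (hle : a (W4bk4grassmannian.sup i.1 j.1) + a (W4bk4grassmannian.inf i.1 j.1) ≤ a i.1 + a j.1)
    (hlt : ∀ α β : Idx d n, W4bk4grassmannian.sup i.1 j.1 < α → β < W4bk4grassmannian.inf i.1 j.1 →
      (∀ v, cnt v α + cnt v β = cnt v i.1 + cnt v j.1) → a α + a β < a i.1 + a j.1) :
    ∃ e ∈ Submodule.span (Polynomial K) {x : MvPolynomial (Below w) (Polynomial K) |
        ∃ α β : Below w, W4bk4grassmannian.sup i.1 j.1 ≤ α.1 ∧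
          wt α.1 + wt β.1 = wt i.1 + wt j.1 ∧ x = X α * X β},
      X i * X j -
          (Polynomial.X : Polynomial K) ^ (a i.1 + a j.1 -
            (a (W4bk4grassmannian.sup i.1 j.1) + a (W4bk4grassmannian.inf i.1 j.1))) •
            (X (Below.sup i j) * X (Below.inf i j)) -
          (Polynomial.X : Polynomial K) • e ∈ RingHom.ker (degMap K w a) := by
  classical
  obtain ⟨g, hg, hrel⟩ := exists_expansion (K := K) hd i.1 j.1 h₁ h₂
  set T := Submodule.span (Polynomial K) {x : MvPolynomial (Below w) (Polynomial K) |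
        ∃ α β : Below w, W4bk4grassmannian.sup i.1 j.1 ≤ α.1 ∧
          wt α.1 + wt β.1 = wt i.1 + wt j.1 ∧ x = X α * X β} with hT
  have key : ∃ e ∈ T, degMap K w a ((Polynomial.X : Polynomial K) • e) =
      Polynomial.monomial (a i.1 + a j.1) (triMap K w g) := by
    refine Submodule.span_induction
      (p := fun g _ => ∃ e ∈ T, degMap K w a ((Polynomial.X : Polynomial K) • e) =
        Polynomial.monomial (a i.1 + a j.1) (triMap K w g)) ?_ ?_ ?_ ?_ hg
    · rintro _ ⟨α, β, hβα, hα, hβ, hwt, hcnt, rfl⟩
      by_cases hαw : α ≤ w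
      · have hlt' := hlt α β hα hβ hcnt
        obtain ⟨k, hk⟩ := Nat.exists_eq_add_of_lt hlt'
        refine ⟨(Polynomial.X : Polynomial K) ^ k • (X ⟨α, hαw⟩ * X ⟨β, hβα.trans hαw⟩),
          Submodule.smul_mem _ _ (Submodule.subset_span ⟨⟨α, hαw⟩, ⟨β, hβα.trans hαw⟩, hα.le, hwt, rfl⟩),
          ?_⟩
        rw [smul_smul, ← pow_succ', smul_eq_C_mul, map_mul, degMap_C, map_mul]
        simp only [degMap, MvPolynomial.eval₂Hom_X', Polynomial.map_pow, Polynomial.map_X,
          Polynomial.monomial_mul_monomial, map_mul]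
        rw [Polynomial.X_pow_mul_monomial, hk]
        simp only [add_assoc]
      · refine ⟨0, Submodule.zero_mem _, ?_⟩
        rw [map_mul, triMap_X_eq_zero w α hαw, zero_mul, map_zero, smul_zero, map_zero]
    · exact ⟨0, Submodule.zero_mem _, by simp⟩
    · rintro x y - - ⟨e, he, hx⟩ ⟨e', he', hy⟩
      exact ⟨e + e', add_mem he he', by rw [smul_add, map_add, hx, hy, map_add, map_add]⟩
    · rintro c x - ⟨e, he, hx⟩
      refine ⟨(Polynomial.C c : Polynomial K) • e, Submodule.smul_mem _ _ he, ?_⟩
      rw [smul_comm, smul_eq_C_mul, map_mul, degMap_C, hx, map_smul, Polynomial.map_C,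
        Polynomial.C_mul_monomial, Algebra.smul_def]
  obtain ⟨e, he, hpe⟩ := key
  refine ⟨e, he, ?_⟩
  rw [RingHom.mem_ker, map_sub, map_sub, hpe, smul_eq_C_mul]
  simp only [map_mul, degMap_C]
  simp only [degMap, MvPolynomial.eval₂Hom_X', map_mul, Polynomial.map_pow, Polynomial.map_X,
    Polynomial.monomial_mul_monomial, Below.sup, Below.inf]
  rw [Polynomial.X_pow_mul_monomial, Nat.add_sub_cancel' hle, ← map_sub, ← map_sub, ← map_mul,
    ← map_mul, ← map_sub, ← map_sub]
  have h0 : X i.1 * X j.1 - X (W4bk4grassmannian.sup i.1 j.1) * X (W4bk4grassmannian.inf i.1 j.1) - g ∈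
      schubertVanishing K d n w := vanishing_le_schubertVanishing w hrel
  rw [schubertVanishing_eq_ker hd, RingHom.mem_ker] at h0
  rw [h0, map_zero]

theorem span_std_eq_top (hd : 0 < d)
    (hle : ∀ i j : Below w, ¬ i.1 ≤ j.1 → ¬ j.1 ≤ i.1 →
      a (W4bk4grassmannian.sup i.1 j.1) + a (W4bk4grassmannian.inf i.1 j.1) ≤ a i.1 + a j.1)
    (hlt : ∀ i j : Below w, ¬ i.1 ≤ j.1 → ¬ j.1 ≤ i.1 →
      ∀ α β : Idx d n, W4bk4grassmannian.sup i.1 j.1 < α → β < W4bk4grassmannian.inf i.1 j.1 →
      (∀ v, cnt v α + cnt v β = cnt v i.1 + cnt v j.1) → a α + a β < a i.1 + a j.1) :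
    Submodule.span (Polynomial K) (Set.range fun s : StdB w =>
      Ideal.Quotient.mk (RingHom.ker (degMap K w a)) (monB s.1)) = ⊤ := by
  rw [eq_top_iff]
  rintro x -
  obtain ⟨p, rfl⟩ := Ideal.Quotient.mk_surjective x
  let F := (Ideal.Quotient.mkₐ (Polynomial K) (RingHom.ker (degMap K w a))).toLinearMap
  refine straightenB F (fun i j h₁ h₂ s => ?_) p
  obtain ⟨e, he, hmem⟩ := exists_rel (K := K) a hd i j h₁ h₂ (hle i j h₁ h₂) (hlt i j h₁ h₂)
  have hFeq : F (monB (i ::ₘ j ::ₘ s)) = F (((Polynomial.X : Polynomial K) ^ (a i.1 + a j.1 -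
      (a (W4bk4grassmannian.sup i.1 j.1) + a (W4bk4grassmannian.inf i.1 j.1))) •
      (X (Below.sup i j) * X (Below.inf i j)) + (Polynomial.X : Polynomial K) • e) * monB s) := by
    show Ideal.Quotient.mk _ _ = Ideal.Quotient.mk _ _
    rw [Ideal.Quotient.eq, monB_cons, monB_cons, ← mul_assoc, ← sub_mul, ← sub_sub]
    exact Ideal.mul_mem_right _ _ hmem
  rw [hFeq, show ∀ q : MvPolynomial (Below w) (Polynomial K), F (q * monB s) =
    (F ∘ₗ LinearMap.mulRight (Polynomial K) (monB s)) q from fun q => rfl, ← Submodule.mem_comap]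
  refine (Submodule.span_le.2 ?_ : Submodule.span (Polynomial K) {x : MvPolynomial (Below w) (Polynomial K) |
      ∃ α β : Below w, W4bk4grassmannian.sup i.1 j.1 ≤ α.1 ∧
        wt α.1 + wt β.1 = wt i.1 + wt j.1 ∧ x = X α * X β} ≤
      Submodule.comap (F ∘ₗ LinearMap.mulRight (Polynomial K) (monB s)) _)
    (add_mem (Submodule.smul_mem _ _ (Submodule.subset_span
      ⟨Below.sup i j, Below.inf i j, le_rfl, wt_sup_add_inf i.1 j.1, rfl⟩))
      (Submodule.smul_mem _ _ he))
  rintro _ ⟨α, β, h1, h2, rfl⟩
  refine Submodule.subset_span ⟨α, β, h1, h2, ?_⟩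
  simp [mul_assoc]

/-- The deformed ring. -/
abbrev DegRing (K : Type u) [Field K] {d n : ℕ} (w : Idx d n) (a : Idx d n → ℕ) : Type u :=
  MvPolynomial (Below w) (Polynomial K) ⧸ RingHom.ker (degMap K w a)

noncomputable instance degRingCommRing (K : Type u) [Field K] {d n : ℕ} (w : Idx d n)
    (a : Idx d n → ℕ) : CommRing (DegRing K w a) := Ideal.Quotient.commRing _

instance degRingTwoSided (K : Type u) [Field K] {d n : ℕ} (w : Idx d n) (a : Idx d n → ℕ)
    (T : Ideal (DegRing K w a)) : T.IsTwoSided :=
  ⟨fun {x} b hx => by rw [mul_comm]; exact T.mul_mem_left b hx⟩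

/-- The degeneration theorem. -/
theorem exists_family (hd : 0 < d) (w : Idx d n) (a : Idx d n → ℕ)
    (I : Ideal (MvPolynomial (Below w) K)) (δ : K)
    (hI : I = Ideal.span {f | ∃ i j : Below w, ¬ i.1 ≤ j.1 ∧ ¬ j.1 ≤ i.1 ∧
      f = X i * X j - C δ * (X (Below.sup i j) * X (Below.inf i j))})
    (hδ : ∀ i j : Below w, ¬ i.1 ≤ j.1 → ¬ j.1 ≤ i.1 →
      (a (W4bk4grassmannian.sup i.1 j.1) + a (W4bk4grassmannian.inf i.1 j.1) = a i.1 + a j.1 ∧ δ = 1) ∨
      (a (W4bk4grassmannian.sup i.1 j.1) + a (W4bk4grassmannian.inf i.1 j.1) < a i.1 + a j.1 ∧ δ = 0))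
    (hlt : ∀ i j : Below w, ¬ i.1 ≤ j.1 → ¬ j.1 ≤ i.1 →
      ∀ α β : Idx d n, W4bk4grassmannian.sup i.1 j.1 < α → β < W4bk4grassmannian.inf i.1 j.1 →
      (∀ v, cnt v α + cnt v β = cnt v i.1 + cnt v j.1) → a α + a β < a i.1 + a j.1) :
    ∃ (R : Type u) (_ : CommRing R) (_ : Algebra K R) (_ : Algebra (Polynomial K) R)
      (_ : IsScalarTower K (Polynomial K) R),
      Module.Free (Polynomial K) R ∧
      Nonempty ((R ⧸ Ideal.span {algebraMap (Polynomial K) R Polynomial.X}) ≃ₐ[K]
        (MvPolynomial (Below w) K ⧸ I)) ∧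
      ∀ c : K, c ≠ 0 →
        Nonempty ((R ⧸ Ideal.span {algebraMap (Polynomial K) R (Polynomial.X - Polynomial.C c)}) ≃ₐ[K]
          (PlRing K d n ⧸ schubertVanishing K d n w)) := by
  classical
  have hle : ∀ i j : Below w, ¬ i.1 ≤ j.1 → ¬ j.1 ≤ i.1 →
      a (W4bk4grassmannian.sup i.1 j.1) + a (W4bk4grassmannian.inf i.1 j.1) ≤ a i.1 + a j.1 :=
    fun i j h h' => (hδ i j h h').elim (fun h => h.1.le) fun h => h.1.le
  let e : StdB w → (DegRing K w a) := fun s => Ideal.Quotient.mk _ (monB s.1)
  have hsmul : ∀ (S : Finset (StdB w)) (p : StdB w → Polynomial K),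
      ∑ s ∈ S, p s • e s = Ideal.Quotient.mk _ (∑ s ∈ S, p s • monB s.1) := fun S p => by
    rw [map_sum]; rfl
  have hspan : Submodule.span (Polynomial K) (Set.range e) = ⊤ := span_std_eq_top a hd hle hlt
  have hindep : ∀ (S : Finset (StdB w)) (p : StdB w → Polynomial K),
      ∑ s ∈ S, p s • e s = 0 → ∀ s ∈ S, p s = 0 := by
    intro S p h
    rw [hsmul, Ideal.Quotient.eq_zero_iff_mem, RingHom.mem_ker] at h
    exact indep_degMap a hd S p h
  have hli : LinearIndependent (Polynomial K) e := linearIndependent_iff'.2 hindep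
  let B : Module.Basis (StdB w) (Polynomial K) (DegRing K w a) := Module.Basis.mk hli hspan.ge
  have hrepr : ∀ r : (DegRing K w a), ∃ (S : Finset (StdB w)) (p : StdB w → Polynomial K),
      r = ∑ s ∈ S, p s • e s := fun r => by
    refine ⟨(B.repr r).support, B.repr r, ?_⟩
    conv_lhs => rw [← B.linearCombination_repr r]
    rw [Finsupp.linearCombination_apply, Finsupp.sum]
    simp [B]
  refine ⟨(DegRing K w a), inferInstance, inferInstance, inferInstance, inferInstance,
    Module.Free.of_basis B, ?_, fun c hc => ?_⟩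
  · set T : Ideal (DegRing K w a) := Ideal.span {algebraMap (Polynomial K) (DegRing K w a) Polynomial.X} with hT
    let g : MvPolynomial (Below w) K →ₐ[K] (DegRing K w a) ⧸ T :=
      MvPolynomial.aeval fun θ => Ideal.Quotient.mk T (Ideal.Quotient.mk _ (X θ))
    have hgT : ∀ (p : Polynomial K) (r : (DegRing K w a)),
        Ideal.Quotient.mk T (p • r) = p.coeff 0 • Ideal.Quotient.mk T r := by
      intro p r
      conv_lhs => rw [← Polynomial.X_mul_divX_add p, add_smul, mul_smul]
      rw [map_add, Polynomial.C_eq_algebraMap, algebraMap_smul]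
      have h1 : Ideal.Quotient.mk T ((Polynomial.X : Polynomial K) • (p.divX • r)) = 0 := by
        rw [Ideal.Quotient.eq_zero_iff_mem, Algebra.smul_def]
        exact Ideal.mul_mem_right _ _ (Ideal.subset_span (Set.mem_singleton _))
      rw [h1, zero_add]
      exact map_smul (Ideal.Quotient.mkₐ K T) _ r
    have hgmon : ∀ s : Multiset (Below w),
        g (monB s) = Ideal.Quotient.mk T (Ideal.Quotient.mk _ (monB s)) := by
      intro s
      induction s using Multiset.induction_on with
      | empty => simp
      | cons θ s ih => simp [ih, g]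
    have hgrel : I ≤ RingHom.ker g := by
      rw [hI, Ideal.span_le]
      rintro _ ⟨i, j, h₁, h₂, rfl⟩
      obtain ⟨r, hr, hmem⟩ := exists_rel (K := K) a hd i j h₁ h₂ (hle i j h₁ h₂) (hlt i j h₁ h₂)
      set D := a i.1 + a j.1 -
        (a (W4bk4grassmannian.sup i.1 j.1) + a (W4bk4grassmannian.inf i.1 j.1))
      have h := congrArg (Ideal.Quotient.mk T) (Ideal.Quotient.eq_zero_iff_mem.2 hmem)
      have hsm : ∀ (q : Polynomial K) (z : MvPolynomial (Below w) (Polynomial K)),
          Ideal.Quotient.mk (RingHom.ker (degMap K w a)) (q • z) = q • Ideal.Quotient.mk _ z :=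
        fun q z => map_smul (Ideal.Quotient.mkₐ (Polynomial K) _) q z
      simp only [map_sub, hsm, hgT, Polynomial.coeff_X_zero, zero_smul, sub_zero, map_zero] at h
      have hD : ((Polynomial.X : Polynomial K) ^ D).coeff 0 = δ := by
        rcases hδ i j h₁ h₂ with ⟨heq, rfl⟩ | ⟨hl, rfl⟩
        · rw [show D = 0 by simp only [D]; omega, pow_zero, Polynomial.coeff_one_zero]
        · rw [Polynomial.coeff_X_pow, if_neg (by simp only [D]; omega)]
      rw [hD] at h
      rw [SetLike.mem_coe, RingHom.mem_ker, map_sub, ← smul_eq_C_mul, map_smul]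
      simp only [map_mul, g, aeval_X] at h ⊢
      exact h
    have hgsurj : Function.Surjective g := by
      intro x
      obtain ⟨r, rfl⟩ := Ideal.Quotient.mk_surjective x
      obtain ⟨S, p, rfl⟩ := hrepr r
      refine ⟨∑ s ∈ S, (p s).coeff 0 • monB s.1, ?_⟩
      rw [map_sum, map_sum]
      exact Finset.sum_congr rfl fun s _ => by rw [map_smul, hgmon, hgT]
    have hker : RingHom.ker g = I := by
      refine le_antisymm (fun f hf => ?_) hgrel
      let F := (Ideal.Quotient.mkₐ K I).toLinearMap
      have hF := straightenB F (fun i j h₁ h₂ s => ?_) f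
      swap
      · have hFeq : F (monB (i ::ₘ j ::ₘ s)) =
            δ • F (monB (Below.sup i j ::ₘ Below.inf i j ::ₘ s)) := by
          rw [← map_smul]
          show Ideal.Quotient.mk _ _ = Ideal.Quotient.mk _ _
          rw [Ideal.Quotient.eq, hI]
          simp only [monB_cons, smul_eq_C_mul, ← mul_assoc, ← sub_mul]
          refine Ideal.mul_mem_right _ _ (Ideal.subset_span ⟨i, j, h₁, h₂, ?_⟩)
          rw [mul_assoc]
        rw [hFeq]
        exact Submodule.smul_mem _ _ (Submodule.subset_span
          ⟨_, _, le_rfl, wt_sup_add_inf i.1 j.1, rfl⟩)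
      obtain ⟨l, hl⟩ := Finsupp.mem_span_range_iff_exists_finsupp.1 hF
      rw [RingHom.mem_ker] at hf
      have hdiff : ∑ s ∈ l.support, l s • monB s.1 - f ∈ I := by
        rw [← Ideal.Quotient.eq, ← Ideal.Quotient.mkₐ_eq_mk K, map_sum]
        refine Eq.trans (Finset.sum_congr rfl fun s _ => ?_) hl
        rw [map_smul]; rfl
      have h0 := hgrel hdiff
      rw [RingHom.mem_ker, map_sub, hf, sub_zero, map_sum] at h0
      have hmem : ∑ s ∈ l.support, (Polynomial.C (l s)) • e s ∈ T := by
        rw [← Ideal.Quotient.eq_zero_iff_mem, map_sum, ← h0]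
        exact Finset.sum_congr rfl fun s _ => by
          rw [hgT, Polynomial.coeff_C_zero, map_smul, hgmon]
      obtain ⟨r, hr⟩ := Ideal.mem_span_singleton.1 hmem
      have hr2 : B.repr (∑ s ∈ l.support, (Polynomial.C (l s)) • e s) =
          (Polynomial.X : Polynomial K) • B.repr r := by
        rw [hr, ← Algebra.smul_def, map_smul]
      have hzero : ∀ s ∈ l.support, l s = 0 := by
        intro s hs
        have h1 := DFunLike.congr_fun hr2 s
        have he : ∀ t, B.repr (e t) = Finsupp.single t 1 := fun t => by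
          rw [show e t = B t by simp [B], B.repr_self]
        simp only [map_sum, map_smul, he, Finsupp.finsetSum_apply, Finsupp.smul_apply,
          Finsupp.single_apply, smul_eq_mul] at h1
        rw [Finset.sum_eq_single_of_mem s hs fun t _ hts => by rw [if_neg hts, mul_zero],
          if_pos rfl, mul_one] at h1
        have h2 := congrArg (fun q : Polynomial K => q.coeff 0) h1
        simpa using h2
      rw [Finset.sum_eq_zero fun s hs => by rw [hzero s hs, zero_smul], zero_sub, neg_mem_iff] at hdiff
      exact hdiff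
    exact ⟨((Ideal.quotientEquivAlgOfEq K hker).symm.trans
      (Ideal.quotientKerAlgEquivOfSurjective hgsurj)).symm⟩
  · set T : Ideal (DegRing K w a) := Ideal.span {algebraMap (Polynomial K) (DegRing K w a) (Polynomial.X - Polynomial.C c)} with hT
    let ι : (PlRing K d n ⧸ schubertVanishing K d n w) →ₐ[K] MatRing K d n :=
      Ideal.Quotient.liftₐ _ (triMap K w) fun P hP => by
        rwa [schubertVanishing_eq_ker hd, RingHom.mem_ker] at hP
    have hι : Function.Injective ι := by
      rw [injective_iff_map_eq_zero]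
      intro x hx
      obtain ⟨P, rfl⟩ := Ideal.Quotient.mk_surjective x
      rw [Ideal.Quotient.eq_zero_iff_mem, schubertVanishing_eq_ker hd, RingHom.mem_ker]
      exact hx
    let h₀ : MvPolynomial (Below w) (Polynomial K) →+* (PlRing K d n ⧸ schubertVanishing K d n w) :=
      MvPolynomial.eval₂Hom ((algebraMap K (PlRing K d n ⧸ schubertVanishing K d n w)).comp
        (Polynomial.evalRingHom c)) fun θ => c ^ a θ.1 • Ideal.Quotient.mk _ (X θ.1)
    have hcomp : ι.toRingHom.comp h₀ =
        (Polynomial.evalRingHom (algebraMap K (MatRing K d n) c)).comp (degMap K w a) := by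
      refine MvPolynomial.ringHom_ext (fun p => ?_) (fun θ => ?_)
      · simp only [h₀, RingHom.comp_apply, MvPolynomial.eval₂Hom_C, degMap_C,
          Polynomial.coe_evalRingHom, Polynomial.eval_map, Polynomial.eval₂_at_apply]
        exact ι.commutes _
      · simp only [h₀, RingHom.comp_apply, MvPolynomial.eval₂Hom_X', degMap,
          Polynomial.coe_evalRingHom, Polynomial.eval_monomial]
        show ι (c ^ a θ.1 • _) = _
        rw [map_smul, Algebra.smul_def, map_pow, mul_comm]
        rfl
    have hker0 : ∀ P ∈ RingHom.ker (degMap K w a), h₀ P = 0 := by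
      intro P hP
      refine hι ?_
      rw [map_zero]
      show ι.toRingHom.comp h₀ P = 0
      rw [hcomp, RingHom.comp_apply, hP, map_zero]
    let h₁ : (DegRing K w a) →+* (PlRing K d n ⧸ schubertVanishing K d n w) := Ideal.Quotient.lift _ h₀ hker0
    let h : (DegRing K w a) →ₐ[K] (PlRing K d n ⧸ schubertVanishing K d n w) :=
      { toRingHom := h₁
        commutes' := fun x => by
          show h₀ (C (Polynomial.C x)) = _
          simp [h₀] }
    have hsmulh : ∀ (p : Polynomial K) (r : (DegRing K w a)), h (p • r) = p.eval c • h r := fun p r => by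
      rw [Algebra.smul_def p r, map_mul, Algebra.smul_def (p.eval c) (h r)]
      congr 1
      show h₀ (C p) = _
      simp [h₀]
    have hmonB : ∀ s : Multiset (Below w), h (Ideal.Quotient.mk _ (monB s)) =
        c ^ ((down s).map a).sum • Ideal.Quotient.mk _ (mon K (down s)) := by
      intro s
      show h₀ (monB s) = _
      induction s using Multiset.induction_on with
      | empty => simp [down, h₀]
      | cons θ s ih =>
        rw [monB_cons, map_mul, ih]
        simp only [h₀, MvPolynomial.eval₂Hom_X', down, Multiset.map_cons, Multiset.sum_cons,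
          mon_cons, map_mul, pow_add, smul_mul_smul_comm]
    have hsurj : Function.Surjective h := by
      intro x
      obtain ⟨P, rfl⟩ := Ideal.Quotient.mk_surjective x
      refine h.mem_range.1 ?_
      induction P using MvPolynomial.induction_on with
      | C b => exact h.range.algebraMap_mem b
      | add p q hp hq => rw [map_add]; exact h.range.add_mem hp hq
      | mul_X p θ hp =>
        rw [map_mul]
        refine h.range.mul_mem hp ?_
        by_cases hθ : θ ≤ w
        · have h1 : c ^ a θ • Ideal.Quotient.mk (schubertVanishing K d n w) (X θ) ∈ h.range := by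
            refine ⟨Ideal.Quotient.mk _ (X ⟨θ, hθ⟩), ?_⟩
            show h₀ _ = _
            simp [h₀]
          have h2 := h.range.smul_mem h1 (c ^ a θ)⁻¹
          rwa [smul_smul, inv_mul_cancel₀ (pow_ne_zero _ hc), one_smul] at h2
        · rw [Ideal.Quotient.eq_zero_iff_mem.2 (X_mem_schubertVanishing hθ)]
          exact h.range.zero_mem
    have hkerh : RingHom.ker h = T := by
      refine le_antisymm (fun r hr => ?_) ((Ideal.span_singleton_le_iff_mem _).2 ?_)
      · obtain ⟨S, p, rfl⟩ := hrepr r
        rw [RingHom.mem_ker, map_sum] at hr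
        simp only [hsmulh, e, hmonB, smul_smul] at hr
        have hz : ∀ s ∈ S, (p s).eval c * c ^ ((down s.1).map a).sum = 0 := by
          have hinj : Function.Injective fun t : StdB w => down t.1 :=
            down_injective.comp Subtype.val_injective
          intro s hs
          let c' : Multiset (Idx d n) → K := Function.extend (fun t : StdB w => down t.1)
            (fun t => (p t).eval c * c ^ ((down t.1).map a).sum) 0
          have h0 := triMap_mon_indep hd w (S.image fun t => down t.1) c' (fun t ht => ?_) ?_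
            (down s.1) (Finset.mem_image_of_mem _ hs)
          · rwa [show c' (down s.1) = _ from hinj.extend_apply _ _ s] at h0
          · obtain ⟨u, -, rfl⟩ := Finset.mem_image.1 ht
            refine ⟨u.2, fun θ hθ => ?_⟩
            obtain ⟨θ', -, rfl⟩ := Multiset.mem_map.1 hθ
            exact θ'.2
          · rw [Finset.sum_image fun x _ y _ hxy => hinj hxy, map_sum]
            have hr' := congrArg ι hr
            rw [map_sum, map_zero] at hr'
            refine Eq.trans (Finset.sum_congr rfl fun t _ => ?_) hr'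
            rw [map_smul, map_smul, show c' (down t.1) = _ from hinj.extend_apply _ _ t]
            rfl
        refine Ideal.sum_mem _ fun s hs => ?_
        have h0 : (p s).IsRoot c := (mul_eq_zero.1 (hz s hs)).resolve_right (pow_ne_zero _ hc)
        obtain ⟨q, hq⟩ := Polynomial.dvd_iff_isRoot.2 h0
        rw [hq, mul_smul, Algebra.smul_def]
        exact Ideal.mul_mem_right _ _ (Ideal.subset_span (Set.mem_singleton _))
      · rw [RingHom.mem_ker, Algebra.algebraMap_eq_smul_one, hsmulh]
        simp
    exact ⟨(Ideal.quotientEquivAlgOfEq K hkerh.symm).trans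
      (Ideal.quotientKerAlgEquivOfSurjective hsurj)⟩

end GrassLib
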