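import Groth.Agent.GrassLib.CellBasis

/-!
Determinantal ideals: standard bitableaux and the second fundamental theorem.
-/

universe u

open MvPolynomial Matrix

namespace GrassLib

open W4bk4grassmannian

variable {d r : ℕ} {K : Type u} [Field K]

theorem map_revRows_minorIdeal (t : ℕ) :
    (CAlgX.minorIdeal (genMatrix K r d) t).map (revRows K d r : CellRing K d r →+* CellRing K d r) =
      CAlgX.minorIdeal (genMatrix K r d) t := by
  rw [CAlgX.minorIdeal, Ideal.map_span, ← Set.range_comp]
  congr 1
  ext f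
  simp only [Set.mem_range, Function.comp_apply, Prod.exists, RingHom.coe_coe]
  constructor
  · rintro ⟨a, b, rfl⟩
    exact ⟨fun j => (a j).rev, b, (revRows_minor a b).symm⟩
  · rintro ⟨a, b, rfl⟩
    exact ⟨fun j => (a j).rev, b, by rw [revRows_minor]; simp⟩

theorem revRows_mem_iff (t : ℕ) (x : CellRing K d r) :
    revRows K d r x ∈ CAlgX.minorIdeal (genMatrix K r d) t ↔
      x ∈ CAlgX.minorIdeal (genMatrix K r d) t := by
  refine ⟨fun h => ?_, fun h => ?_⟩
  · rw [← map_revRows_minorIdeal t] at h
    obtain ⟨y, hy, hyx⟩ := (Ideal.mem_map_iff_of_surjective _ (revRows K d r).surjective).1 h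
    obtain rfl := (revRows K d r).injective hyx
    exact hy
  · rw [← map_revRows_minorIdeal t]
    exact Ideal.mem_map_of_mem _ h

theorem exists_sign_prod {k : ℕ} (c : Fin k → MinorIdx r d) :
    ∃ ε : K, ε ≠ 0 ∧ cellMap K d r (mon K (Multiset.ofList (List.ofFn fun i => minorToIdx (c i)))) =
      ε • revRows K d r (∏ i, minorOf K (c i)) := by
  induction k with
  | zero => exact ⟨1, one_ne_zero, by simp [map_one]⟩
  | succ k ih =>
    obtain ⟨ε, hε, h⟩ := ih (fun i => c i.succ)
    obtain ⟨δ, hδ, hc⟩ := cellMinor_eq_revRows (K := K) (c 0)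
    have hcons : (Multiset.ofList (List.ofFn fun i => minorToIdx (c i))) =
        minorToIdx (c 0) ::ₘ Multiset.ofList (List.ofFn fun i : Fin k => minorToIdx (c i.succ)) := by
      rw [List.ofFn_succ]; rfl
    rw [hcons, mon_cons, map_mul, cellMap_X, hc, h, Fin.prod_univ_succ, map_mul]
    rcases hδ with rfl | rfl
    · exact ⟨ε, hε, by rw [one_mul, mul_smul_comm]⟩
    · exact ⟨-ε, neg_ne_zero.2 hε, by rw [neg_one_mul, neg_smul, mul_smul_comm, neg_mul, smul_neg]⟩

theorem detIdx_le_iff_size {t : ℕ} (ht : 1 ≤ t) (htd : t ≤ d + 1) (htr : t ≤ r + 1)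
    (M : MinorIdx r d) : minorToIdx M ≤ detIdx d r t ht htd htr ↔ M.1 + 1 ≤ t - 1 := by
  rw [le_detIdx_iff, cnt_d_minorToIdx]
  omega

variable [Infinite K]

theorem linearIndependent_bitableaux (hd : 0 < d) {t : ℕ} (ht : 1 ≤ t) (htd : t ≤ d + 1)
    (htr : t ≤ r + 1) :
    LinearIndependent K (fun c : (Σ k : ℕ, {c : Fin k → MinorIdx r d //
        (∀ i, (c i).1 + 1 ≤ t - 1) ∧ ∀ i j, i < j → MinorGE (c i) (c j)}) =>
      Ideal.Quotient.mk (CAlgX.minorIdeal (genMatrix K r d) t)
        (Finset.univ.prod fun i => minorOf K (c.2.1 i))) := by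
  classical
  rw [linearIndependent_iff']
  intro S g hsum c₀ hc₀
  let toM : (Σ k : ℕ, {c : Fin k → MinorIdx r d //
      (∀ i, (c i).1 + 1 ≤ t - 1) ∧ ∀ i j, i < j → MinorGE (c i) (c j)}) →
      Multiset (Idx d (d + r)) :=
    fun c => Multiset.ofList (List.ofFn fun i => minorToIdx (c.2.1 i))
  have hinj : Function.Injective toM := by
    rintro ⟨k, c, hc⟩ ⟨k', c', hc'⟩ h
    obtain rfl : k = k' := by simpa [toM] using congrArg Multiset.card h
    dsimp only [toM] at h
    have hp := Multiset.coe_eq_coe.1 h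
    have := hp.eq_of_pairwise (le := (· ≤ ·)) (fun a b _ _ h1 h2 => le_antisymm h1 h2)
      (List.pairwise_ofFn.2 fun i j hij => (minorToIdx_le_iff _ _).2 (hc.2 i j hij))
      (List.pairwise_ofFn.2 fun i j hij => (minorToIdx_le_iff _ _).2 (hc'.2 i j hij))
    rw [List.ofFn_inj] at this
    have h2 : ∀ i, c i = c' i := fun i => by
      refine minorToIdx_injective (r := r) (d := d) ?_
      exact congrFun this i
    obtain rfl : c = c' := funext h2
    rfl
  choose ε hε hsgn using fun c : (Σ k : ℕ, {c : Fin k → MinorIdx r d //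
      (∀ i, (c i).1 + 1 ≤ t - 1) ∧ ∀ i j, i < j → MinorGE (c i) (c j)}) =>
    exists_sign_prod (K := K) c.2.1
  let w := detIdx d r t ht htd htr
  have hmem : ∑ s ∈ S.image toM, Function.extend toM (fun c => g c * (ε c)⁻¹) 0 s •
      cellMap K d r (mon K s) ∈ cellIdeal K w := by
    rw [cellIdeal_detIdx, Finset.sum_image fun a _ b _ h => hinj h]
    have heq : ∀ c, Function.extend toM (fun c => g c * (ε c)⁻¹) 0 (toM c) •
        cellMap K d r (mon K (toM c)) =
        revRows K d r (g c • ∏ i, minorOf K (c.2.1 i)) := fun c => by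
      rw [hinj.extend_apply, show cellMap K d r (mon K (toM c)) = _ from hsgn c, smul_smul,
        mul_assoc, inv_mul_cancel₀ (hε c), mul_one, map_smul]
    simp only [heq]
    rw [← map_sum, revRows_mem_iff, ← Ideal.Quotient.eq_zero_iff_mem, map_sum]
    refine Eq.trans (Finset.sum_congr rfl fun c _ => ?_) hsum
    rw [← Ideal.Quotient.mkₐ_eq_mk K, map_smul]
  have h0 := cell_indep hd w (S.image toM) _ (fun s hs => ?_) hmem (toM c₀)
    (Finset.mem_image_of_mem _ hc₀)
  · rw [hinj.extend_apply] at h0
    exact (mul_eq_zero.1 h0).resolve_right (inv_ne_zero (hε c₀))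
  · obtain ⟨c, -, rfl⟩ := Finset.mem_image.1 hs
    refine ⟨?_, ?_⟩
    · intro a ha b hb
      simp only [toM, Multiset.mem_coe, List.mem_ofFn] at ha hb
      obtain ⟨i, rfl⟩ := ha
      obtain ⟨j, rfl⟩ := hb
      rcases lt_trichotomy i j with h | rfl | h
      · exact Or.inl ((minorToIdx_le_iff _ _).2 (c.2.2.2 i j h))
      · exact Or.inl le_rfl
      · exact Or.inr ((minorToIdx_le_iff _ _).2 (c.2.2.2 j i h))
    · intro θ hθ
      simp only [toM, Multiset.mem_coe, List.mem_ofFn] at hθ
      obtain ⟨i, rfl⟩ := hθ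
      refine ⟨(detIdx_le_iff_size ht htd htr _).2 (c.2.2.1 i), fun h => ?_⟩
      have := cnt_d_minorToIdx (c.2.1 i)
      rw [h, cnt_bot'] at this
      omega

omit [Infinite K] in
theorem span_bitableaux [Infinite K] {t : ℕ} (ht : 1 ≤ t) (htd : t ≤ d + 1) (htr : t ≤ r + 1) :
    Submodule.span K (Set.range fun c : (Σ k : ℕ, {c : Fin k → MinorIdx r d //
        (∀ i, (c i).1 + 1 ≤ t - 1) ∧ ∀ i j, i < j → MinorGE (c i) (c j)}) =>
      Ideal.Quotient.mk (CAlgX.minorIdeal (genMatrix K r d) t)
        (Finset.univ.prod fun i => minorOf K (c.2.1 i))) = ⊤ := by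
  classical
  rw [eq_top_iff]
  rintro x -
  obtain ⟨y, rfl⟩ := Ideal.Quotient.mk_surjective x
  let w := detIdx d r t ht htd htr
  let φ : CellRing K d r →ₗ[K] (CellRing K d r ⧸ CAlgX.minorIdeal (genMatrix K r d) t) :=
    (Ideal.Quotient.mkₐ K (CAlgX.minorIdeal (genMatrix K r d) t)).toLinearMap ∘ₗ
      (revRows K d r).symm.toLinearMap
  have hy : Ideal.Quotient.mk (CAlgX.minorIdeal (genMatrix K r d) t) y = φ (revRows K d r y) := by
    simp [φ]
  rw [hy, ← Submodule.mem_comap]
  refine (sup_le (Submodule.span_le.2 ?_) ?_ : _ ≤ Submodule.comap φ _)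
    (mem_cell_span w (revRows K d r y))
  · rintro _ ⟨s, hs, hsw, rfl⟩
    obtain ⟨c, hc, hcm, hce⟩ := exists_antitone_of_isStd hs
    choose M hM using fun i : Fin s.card => exists_minor_of_cnt_pos (c i) (Nat.pos_of_ne_zero
      fun h0 => (hsw _ (hcm i)).2 ((cnt_eq_zero_iff _).1 h0))
    let c' : Fin s.card → MinorIdx r d := fun i => M i.rev
    have hc' : (∀ i, (c' i).1 + 1 ≤ t - 1) ∧ ∀ i j, i < j → MinorGE (c' i) (c' j) := by
      refine ⟨fun i => ?_, fun i j hij => ?_⟩
      · rw [← detIdx_le_iff_size ht htd htr, hM]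
        exact (hsw _ (hcm _)).1
      · rw [← minorToIdx_le_iff, hM, hM]
        exact hc (Fin.rev_le_rev.2 hij.le)
    obtain ⟨ε, hε, hsgn⟩ := exists_sign_prod (K := K) c'
    have hms : Multiset.ofList (List.ofFn fun i => minorToIdx (c' i)) = s := by
      conv_rhs => rw [← hce]
      refine Multiset.coe_eq_coe.2 ?_
      have : (List.ofFn fun i => minorToIdx (c' i)) = List.ofFn (c ∘ Fin.rev) := by
        congr 1; funext i; exact hM _
      rw [this]
      exact Equiv.Perm.ofFn_comp_perm Fin.revPerm c
    rw [hms] at hsgn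
    rw [SetLike.mem_coe, Submodule.mem_comap, hsgn, map_smul]
    refine Submodule.smul_mem _ _ (Submodule.subset_span ⟨⟨_, c', hc'⟩, ?_⟩)
    simp [φ]
  · intro z hz
    rw [Submodule.restrictScalars_mem, cellIdeal_detIdx] at hz
    have h0 : φ z = 0 := by
      show Ideal.Quotient.mk _ ((revRows K d r).symm z) = 0
      rw [Ideal.Quotient.eq_zero_iff_mem, ← revRows_mem_iff, AlgEquiv.apply_symm_apply]
      exact hz
    rw [Submodule.mem_comap, h0]
    exact Submodule.zero_mem _

/-- Nullstellensatz on the opposite cell of a Schubert variety. -/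
theorem mem_sup_of_vanish (hd : 0 < d) (w : Idx d (d + r)) (P : PlRing K d (d + r))
    (h : ∀ A : Matrix (Fin (d + r)) (Fin d) K,
      (∀ φ : Idx d (d + r), ¬ φ ≤ w → (A.submatrix φ.1 id).det = 0) →
      A.submatrix (bot' d r).1 id = 1 → evalMinors K d (d + r) A P = 0) :
    P ∈ schubertVanishing K d (d + r) w ⊔ Ideal.span {X (bot' d r) - 1} := by
  classical
  let H := ∑ k ∈ Finset.range (P.totalDegree + 1),
    homogeneousComponent k P * X (bot' d r) ^ (P.totalDegree - k)
  have hPH : P - H ∈ Ideal.span {X (bot' d r) - (1 : PlRing K d (d + r))} := by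
    rw [show P - H = ∑ k ∈ Finset.range (P.totalDegree + 1), (homogeneousComponent k P -
        homogeneousComponent k P * X (bot' d r) ^ (P.totalDegree - k)) by
      rw [Finset.sum_sub_distrib, sum_homogeneousComponent]]
    refine Ideal.sum_mem _ fun k _ => ?_
    rw [← mul_one_sub]
    refine Ideal.mul_mem_left _ _ (Ideal.mem_span_singleton.2 ?_)
    rw [← dvd_neg, neg_sub]
    exact sub_one_dvd_pow_sub_one _ _
  have hH : H.IsHomogeneous P.totalDegree := IsHomogeneous.sum _ _ _ fun k hk => by
    have := (homogeneousComponent_isHomogeneous k P).mul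
      ((isHomogeneous_X K (bot' d r)).pow (P.totalDegree - k))
    rwa [one_mul, Nat.add_sub_cancel' (Nat.lt_succ_iff.1 (Finset.mem_range.1 hk))] at this
  have hHJ : H ∈ schubertVanishing K d (d + r) w := by
    refine ((schubertVanishing_isPrime hd w).mem_or_mem
      (?_ : H * X (bot' d r) ∈ _)).resolve_right fun h' =>
        (X_mem_schubertVanishing_iff hd).1 h' (bot'_le w)
    rw [mem_schubertVanishing_iff]
    intro A hA
    rw [map_mul]
    set a := (A.submatrix (bot' d r).1 id).det with ha
    have hXa : evalMinors K d (d + r) A (X (bot' d r)) = a := by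
      rw [evalMinors_eq, evalMat_X, ha]
    by_cases ha0 : a = 0
    · rw [hXa, ha0, mul_zero]
    refine mul_eq_zero_of_left ?_ _
    set E := A * (A.submatrix (bot' d r).1 id)⁻¹ with hE
    have hminor : ∀ θ : Idx d (d + r),
        (A.submatrix θ.1 id).det = a * (E.submatrix θ.1 id).det := by
      intro θ
      rw [hE, Matrix.submatrix_mul _ _ _ id _ Function.bijective_id, Matrix.submatrix_id_id,
        Matrix.det_mul, Matrix.det_nonsing_inv, Ring.inverse_eq_inv', ← ha]
      field_simp
    have hEbot : E.submatrix (bot' d r).1 id = 1 := by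
      rw [hE, Matrix.submatrix_mul _ _ _ id _ Function.bijective_id, Matrix.submatrix_id_id,
        Matrix.mul_nonsing_inv _ (isUnit_iff_ne_zero.2 ha0)]
    have hEw : ∀ φ : Idx d (d + r), ¬ φ ≤ w → (E.submatrix φ.1 id).det = 0 := fun φ hφ => by
      have := hA φ hφ
      rw [hminor] at this
      exact (mul_eq_zero.1 this).resolve_left ha0
    have h1 : evalMinors K d (d + r) E H = 0 := by
      obtain ⟨q, hq⟩ := Ideal.mem_span_singleton.1 hPH
      have h2 := congrArg (evalMinors K d (d + r) E) hq
      have hX1 : evalMinors K d (d + r) E (X (bot' d r)) = 1 := by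
        rw [evalMinors_eq, evalMat_X, hEbot, Matrix.det_one]
      rw [map_sub, map_mul, map_sub, hX1, map_one, sub_self, zero_mul, h E hEw hEbot, zero_sub,
        neg_eq_zero] at h2
      exact h2
    have hscale : evalMinors K d (d + r) A H =
        a ^ P.totalDegree * evalMinors K d (d + r) E H := by
      rw [evalMinors, evalMinors, ← eval_smul_of_isHomogeneous hH]
      exact congrArg (fun v => MvPolynomial.aeval (R := K) v H) (funext fun θ => hminor θ)
    rw [hscale, h1, mul_zero]
  rw [← sub_add_cancel P H]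
  exact add_mem (Ideal.mem_sup_right hPH) (Ideal.mem_sup_left hHJ)

/-- A polynomial vanishing on all matrices with vanishing `t`-minors lies in the determinantal ideal. -/
theorem mem_minorIdeal_of_vanish (hd : 0 < d) {t : ℕ} (ht : 1 ≤ t) (htd : t ≤ d + 1)
    (htr : t ≤ r + 1) (P : CellRing K d r)
    (h : ∀ Z : Matrix (Fin r) (Fin d) K,
      (∀ (a : Fin t → Fin r) (b : Fin t → Fin d), (Z.submatrix a b).det = 0) →
      eval (fun p => Z p.1 p.2) P = 0) :
    P ∈ CAlgX.minorIdeal (genMatrix K r d) t := by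
  classical
  set w := detIdx d r t ht htd htr
  obtain ⟨Q, rfl⟩ := cellMap_surjective (K := K) P
  rw [← cellIdeal_detIdx ht htd htr, ← Ideal.mem_comap, comap_cellIdeal hd]
  refine mem_sup_of_vanish hd w Q fun A hA hbot => ?_
  let Z : Matrix (Fin r) (Fin d) K := Matrix.of fun i j => A (Fin.natAdd d i) j
  have hAcell : (cellMatrix K d r).map (aeval fun p : Fin r × Fin d => Z p.1 p.2) = A := by
    ext i j
    induction i using Fin.addCases with
    | left i =>
      have := congrFun (congrFun hbot i) j
      simp only [Matrix.submatrix_apply, bot', id_eq, Matrix.one_apply] at this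
      rw [Matrix.map_apply, cellMatrix_castAdd, this]
      split_ifs <;> simp
    | right i => rw [Matrix.map_apply, cellMatrix_natAdd, aeval_X]; rfl
  have hev : ∀ R : PlRing K d (d + r),
      aeval (fun p : Fin r × Fin d => Z p.1 p.2) (cellMap K d r R) = evalMinors K d (d + r) A R := by
    intro R
    rw [cellMap, comp_evalMat, hAcell, ← evalMinors_eq]
  rw [← hev, MvPolynomial.aeval_eq_eval]
  refine h Z fun a b => ?_
  -- the minors vanish as they lie in the cell ideal
  have hker : ∀ x ∈ cellIdeal K w, aeval (fun p : Fin r × Fin d => Z p.1 p.2) x = 0 := by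
    intro x hx
    have hle : cellIdeal K w ≤
        RingHom.ker (aeval (fun p : Fin r × Fin d => Z p.1 p.2) : CellRing K d r →ₐ[K] K) := by
      refine Ideal.span_le.2 ?_
      rintro _ ⟨θ, hθ, rfl⟩
      rw [SetLike.mem_coe, RingHom.mem_ker, ← cellMap_X, hev, evalMinors_eq, evalMat_X]
      exact hA θ hθ
    exact hle hx
  have hmem : ((genMatrix K r d).submatrix a b).det ∈ cellIdeal K w := by
    rw [cellIdeal_detIdx ht htd htr]
    exact Ideal.subset_span ⟨(a, b), rfl⟩
  have h0 := hker _ hmem
  rw [AlgHom.map_det] at h0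
  rw [← h0]
  congr 1
  ext i j
  simp [genMatrix]

omit [Infinite K] in
theorem minorIdeal_eq_bot {t : ℕ} (h : d < t ∨ r < t) :
    CAlgX.minorIdeal (genMatrix K r d) t = ⊥ := by
  rw [CAlgX.minorIdeal, Ideal.span_eq_bot]
  rintro _ ⟨⟨a, b⟩, rfl⟩
  rcases h with h | h
  · obtain ⟨i, j, hne, hij⟩ := Fintype.exists_ne_map_eq_of_card_lt b (by simpa using h)
    exact Matrix.det_zero_of_column_eq hne (fun k => by simp [hij])
  · obtain ⟨i, j, hne, hij⟩ := Fintype.exists_ne_map_eq_of_card_lt a (by simpa using h)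
    exact Matrix.det_zero_of_row_eq hne (by ext k; simp [hij])

omit [Infinite K] in
/-- A matrix with vanishing `(n+1)`-minors factors through `K^n`. -/
theorem exists_factor {n : ℕ} (Z : Matrix (Fin r) (Fin d) K)
    (hZ : ∀ (a : Fin (n + 1) → Fin r) (b : Fin (n + 1) → Fin d), (Z.submatrix a b).det = 0) :
    ∃ (U : Matrix (Fin r) (Fin n) K) (W : Matrix (Fin n) (Fin d) K), Z = U * W := by
  classical
  set V := Submodule.span K (Set.range Z.transpose) with hV
  have hdim : Module.finrank K V ≤ n := by
    by_contra hlt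
    rw [not_le] at hlt
    obtain ⟨b', hb', hbspan, hbli⟩ := exists_linearIndependent K (Set.range Z.transpose)
    have : Fintype b' := ((Set.finite_range _).subset hb').fintype
    have hcard : n + 1 ≤ Fintype.card b' := by
      have h1 : Module.finrank K (Submodule.span K (Set.range (Subtype.val : b' → Fin r → K))) =
          Fintype.card b' := finrank_span_eq_card hbli
      rw [Subtype.range_coe, hbspan, ← hV] at h1
      omega
    let e : Fin (n + 1) → b' := (Fintype.equivFin b').symm ∘ Fin.castLE hcard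
    have he : Function.Injective e :=
      (Fintype.equivFin b').symm.injective.comp (Fin.castLE_injective hcard)
    choose b hb using fun j => hb' (e j).2
    have hli : LinearIndependent K (Z.submatrix id b).transpose := by
      have : (Z.submatrix id b).transpose = (Subtype.val : b' → Fin r → K) ∘ e := by
        funext j; exact hb j
      rw [this]
      exact hbli.comp _ he
    obtain ⟨θ, hθ⟩ := exists_minor_ne_zero _ hli
    rw [Matrix.submatrix_submatrix] at hθ
    exact hθ (hZ _ _)
  obtain ⟨f, hf⟩ : ∃ f : (Fin n → K) →ₗ[K] (Fin r → K), V ≤ LinearMap.range f := by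
    let B := Module.finBasis K V
    let g : (Fin n → K) →ₗ[K] V := B.equivFun.symm.toLinearMap ∘ₗ
      LinearMap.funLeft K K (Fin.castLE hdim)
    have hg : Function.Surjective g :=
      B.equivFun.symm.surjective.comp
        (LinearMap.funLeft_surjective_of_injective _ _ _ (Fin.castLE_injective hdim))
    refine ⟨V.subtype ∘ₗ g, ?_⟩
    rw [LinearMap.range_comp, LinearMap.range_eq_top.2 hg, Submodule.map_top, Submodule.range_subtype]
  choose W hW using fun j : Fin d => hf (Submodule.subset_span ⟨j, rfl⟩)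
  refine ⟨LinearMap.toMatrix' f, Matrix.of fun k j => W j k, ?_⟩
  ext i j
  have h := congrFun (hW j) i
  rw [← Matrix.toLin'_toMatrix' f] at h
  simp only [Matrix.toLin'_apply, Matrix.transpose_apply] at h
  rw [← h, Matrix.mul_apply]
  simp [Matrix.mulVec, dotProduct]

omit [Infinite K] in
theorem det_mul_eq_zero_of_lt {R : Type*} [CommRing R] {s n : ℕ} (h : n < s)
    (U : Matrix (Fin s) (Fin n) R) (W : Matrix (Fin n) (Fin s) R) : (U * W).det = 0 := by
  classical
  let U' : Matrix (Fin s) (Fin s) R := Matrix.of fun i k => if hk : k.val < n then U i ⟨k, hk⟩ else 0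
  let W' : Matrix (Fin s) (Fin s) R := Matrix.of fun k j => if hk : k.val < n then W ⟨k, hk⟩ j else 0
  have hUW : U * W = U' * W' := by
    ext i j
    simp only [Matrix.mul_apply, U', W', Matrix.of_apply]
    refine (Finset.sum_of_injOn (Fin.castLE h.le) (Fin.castLE_injective _).injOn (by simp) ?_ ?_)
    · intro k _ hk
      rw [dif_neg, zero_mul]
      intro hk'
      exact hk ⟨⟨k, hk'⟩, by simp, Fin.ext rfl⟩
    · intro k _
      simp [k.isLt]
  rw [hUW, Matrix.det_mul, Matrix.det_eq_zero_of_column_eq_zero (A := U') ⟨n, h⟩ fun i => by simp [U'],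
    zero_mul]

/-- The second fundamental theorem. -/
theorem ker_pairingMap (m n q : ℕ) :
    RingHom.ker (pairingMap K n m q) = CAlgX.minorIdeal (genMatrix K m q) (n + 1) := by
  refine le_antisymm (fun P hP => ?_) (Ideal.span_le.2 ?_)
  · rw [RingHom.mem_ker] at hP
    rcases Nat.eq_zero_or_pos (min m q) with hmq | hmq
    · have hE : IsEmpty (Fin m × Fin q) := ⟨fun p => by
        have := p.1.isLt; have := p.2.isLt; omega⟩
      obtain ⟨c, rfl⟩ := MvPolynomial.C_surjective (Fin m × Fin q) P
      rw [← MvPolynomial.algebraMap_eq, AlgHom.commutes] at hP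
      rw [(map_eq_zero_iff _ (FaithfulSMul.algebraMap_injective K _)).1 hP, map_zero]
      exact Ideal.zero_mem _
    have hval : ∀ Z : Matrix (Fin m) (Fin q) K,
        (∃ (U : Matrix (Fin m) (Fin n) K) (W : Matrix (Fin n) (Fin q) K), Z = U * W) →
        eval (fun p => Z p.1 p.2) P = 0 := by
      rintro Z ⟨U, W, rfl⟩
      have h := congrArg (aeval (Sum.elim (fun p => U p.1 p.2) (fun p => W p.1 p.2)) :
        PairRing K n m q →ₐ[K] K) hP
      rw [map_zero, ← AlgHom.comp_apply, pairingMap, MvPolynomial.comp_aeval,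
        MvPolynomial.aeval_eq_eval] at h
      rw [← h]
      refine congrArg (fun v => eval v P) (funext fun p => ?_)
      simp [Matrix.mul_apply]
    by_cases hn : n + 1 ≤ min m q
    · refine mem_minorIdeal_of_vanish (by omega) (Nat.le_add_left 1 n) (by omega) (by omega) P
        fun Z hZ => hval Z (exists_factor Z hZ)
    · rw [minorIdeal_eq_bot (by omega), ← minorIdeal_eq_bot (K := K) (d := q) (r := m)
        (t := min m q + 1) (by omega)]
      refine mem_minorIdeal_of_vanish (by omega) (Nat.le_add_left 1 _) (by omega) (by omega) P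
        fun Z _ => hval Z (exists_factor Z fun a b => ?_)
      have hnot : q < n + 1 ∨ m < n + 1 := by omega
      rcases hnot with h | h
      · obtain ⟨i, j, hne, hij⟩ := Fintype.exists_ne_map_eq_of_card_lt b (by simpa using h)
        exact Matrix.det_zero_of_column_eq hne (fun k => by simp [hij])
      · obtain ⟨i, j, hne, hij⟩ := Fintype.exists_ne_map_eq_of_card_lt a (by simpa using h)
        exact Matrix.det_zero_of_row_eq hne (by ext k; simp [hij])
  · rintro _ ⟨⟨a, b⟩, rfl⟩
    rw [SetLike.mem_coe, RingHom.mem_ker, AlgHom.map_det]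
    refine Eq.trans (congrArg Matrix.det ?_) (det_mul_eq_zero_of_lt (Nat.lt_succ_self n)
      (Matrix.of fun i k => (X (Sum.inl (a i, k)) : PairRing K n m q))
      (Matrix.of fun k j => X (Sum.inr (k, b j))))
    ext i j
    simp [genMatrix, pairingMap, Matrix.mul_apply]

end GrassLib
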