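import Groth.Agent.GrassLib.SMT
import Groth.Agent.DimTheory.Algebra

/-!
The dimension of the cone over a Schubert variety.
-/

universe u

open MvPolynomial

namespace GrassLib

open W4bk4grassmannian

variable {d n : ℕ} {K : Type u} [Field K] [Infinite K]

/-- A Schubert divisor ideal is a minimal prime over the hyperplane section. -/
theorem divisor_mem_minimalPrimes (hd : 0 < d) {φ w : Idx d n} (hφ : φ ∈ divisors w) :
    schubertVanishing K d n φ ∈
      (schubertVanishing K d n w ⊔ Ideal.span {X w}).minimalPrimes := by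
  classical
  rw [sup_span_X_eq_iInf hd w ⟨φ, hφ.1⟩]
  refine ⟨⟨schubertVanishing_isPrime hd φ, iInf₂_le φ hφ⟩, fun q hq hqle => ?_⟩
  have hfin : (⨅ ψ ∈ divisors w, schubertVanishing K d n ψ) =
      (Set.toFinset (divisors w)).inf (schubertVanishing K d n) := by
    rw [Finset.inf_eq_iInf]
    simp
  obtain ⟨hqp, hqle'⟩ := hq
  rw [hfin] at hqle'
  obtain ⟨ψ, hψ, hψq⟩ := hqp.inf_le'.1 hqle'
  rw [Set.mem_toFinset] at hψ
  have hle : φ ≤ ψ := by
    by_contra hnle
    exact (X_mem_schubertVanishing_iff (K := K) hd).1
      (hqle (hψq (X_mem_schubertVanishing hnle))) le_rfl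
  have hψw := (mem_divisors_iff.1 hψ).2
  have hφw := (mem_divisors_iff.1 hφ).2
  obtain rfl : φ = ψ := by
    by_contra hne
    have := wt_lt_of_lt (lt_of_le_of_ne hle hne)
    omega
  exact hψq

theorem dim_step {w : Idx d n} (hd : 0 < d) (Q : Ideal (PlRing K d n))
    (hQ : Q ∈ (schubertVanishing K d n w ⊔ Ideal.span {X w}).minimalPrimes) :
    ringKrullDim (PlRing K d n ⧸ Q) + 1 =
      ringKrullDim (PlRing K d n ⧸ schubertVanishing K d n w) := by
  have hJ := schubertVanishing_isPrime (K := K) hd w
  have hQp : Q.IsPrime := hQ.1.1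
  have hle : schubertVanishing K d n w ≤ Q := le_sup_left.trans hQ.1.2
  have hX : X w ∈ Q := hQ.1.2 (Ideal.mem_sup_right (Ideal.subset_span (Set.mem_singleton _)))
  have hmap : (Q.map (Ideal.Quotient.mk (schubertVanishing K d n w))).IsPrime :=
    Ideal.map_isPrime_of_surjective Ideal.Quotient.mk_surjective (by rw [Ideal.mk_ker]; exact hle)
  have hne : Q.map (Ideal.Quotient.mk (schubertVanishing K d n w)) ≠ ⊥ := by
    intro h
    have h0 : Ideal.Quotient.mk (schubertVanishing K d n w) (X w) = 0 := by
      rw [← Ideal.mem_bot, ← h]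
      exact Ideal.mem_map_of_mem _ hX
    exact (X_mem_schubertVanishing_iff hd).1 (Ideal.Quotient.eq_zero_iff_mem.1 h0) le_rfl
  have hht : (Q.map (Ideal.Quotient.mk (schubertVanishing K d n w))).height = 1 := by
    refine le_antisymm (Ideal.map_height_le_one_of_mem_minimalPrimes hQ) ?_
    rw [Order.one_le_iff_ne_zero, Ne, Ideal.height_eq_zero_iff_eq_bot]
    exact hne
  rw [← Groth.Agent.DimTheory.ringKrullDim_quotient_height_one K
      (PlRing K d n ⧸ schubertVanishing K d n w) _ hht,
    ringKrullDim_eq_of_ringEquiv (DoubleQuot.quotQuotEquivQuotOfLE hle)]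

theorem ringKrullDim_schubert (hd : 0 < d) (w : Idx d n) :
    ringKrullDim (PlRing K d n ⧸ schubertVanishing K d n w) =
      ((codeg w + 1 : ℕ) : WithBot ℕ∞) := by
  classical
  induction w using WellFoundedLT.induction with
  | _ w ih =>
    by_cases hex : ∃ φ : Idx d n, φ < w
    · obtain ⟨φ₀, hφ₀⟩ := hex
      obtain ⟨φ, hφ, -⟩ := exists_divisor_ge hφ₀
      rw [← dim_step hd _ (divisor_mem_minimalPrimes hd hφ), ih φ hφ.1, ← hφ.2]
      push_cast
      rfl
    · have h0 : codeg w = 0 := by
        rw [codeg, Finset.sum_eq_zero_iff]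
        intro t _
        by_contra ht
        let τ : Idx d n := ⟨fun s => ⟨s.val, lt_of_le_of_lt (val_le_idx w s) (w.1 s).isLt⟩,
          fun a b h => Fin.mk_lt_mk.2 (Fin.lt_def.1 h)⟩
        have hτ : τ ≤ w := fun s => Fin.le_def.2 (val_le_idx w s)
        refine hex ⟨τ, lt_of_le_of_ne hτ fun he => ht ?_⟩
        rw [← he]
        exact Nat.sub_self _
      have hm : RingHom.ker (constantCoeff : PlRing K d n →+* K) ∈
          (schubertVanishing K d n w ⊔ Ideal.span {X w}).minimalPrimes := by
        refine ⟨⟨RingHom.ker_isPrime _, sup_le ?_ ((Ideal.span_singleton_le_iff_mem _).2 (by simp))⟩,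
          fun q hq _ => ?_⟩
        · intro P hP
          rw [mem_schubertVanishing_iff] at hP
          have := hP 0 fun φ _ => by
            have : Nonempty (Fin d) := ⟨⟨0, hd⟩⟩
            simp
          rw [RingHom.mem_ker]
          have hev : evalMinors K d n 0 =
              (aeval fun _ : Idx d n => (0 : K) : PlRing K d n →ₐ[K] K) := by
            refine MvPolynomial.algHom_ext fun θ => ?_
            have : Nonempty (Fin d) := ⟨⟨0, hd⟩⟩
            simp [evalMinors]
          rw [hev] at this
          simpa [constantCoeff] using this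
        · intro P hP
          have hXall : ∀ θ : Idx d n, X θ ∈ q := fun θ => hq.2 (by
            by_cases hθ : θ = w
            · subst hθ
              exact Ideal.mem_sup_right (Ideal.subset_span (Set.mem_singleton _))
            · exact Ideal.mem_sup_left (X_mem_schubertVanishing fun hle =>
                hex ⟨θ, lt_of_le_of_ne hle hθ⟩))
          rw [RingHom.mem_ker, constantCoeff_eq] at hP
          rw [MvPolynomial.as_sum P]
          refine Ideal.sum_mem _ fun e he => ?_
          have he0 : e ≠ 0 := by
            rintro rfl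
            exact (MvPolynomial.mem_support_iff.1 he) hP
          obtain ⟨θ, hθ⟩ := Finsupp.support_nonempty_iff.2 he0
          rw [MvPolynomial.monomial_eq]
          exact Ideal.mul_mem_left _ _ (Ideal.prod_mem q hθ
            (Ideal.pow_mem_of_mem _ (hXall θ) _ (Nat.pos_of_ne_zero (Finsupp.mem_support_iff.1 hθ))))
      rw [← dim_step hd _ hm,
        ringKrullDim_eq_of_ringEquiv (RingHom.quotientKerEquivOfSurjective
          (f := (constantCoeff : PlRing K d n →+* K)) fun a => ⟨C a, constantCoeff_C _ a⟩),
        ringKrullDim_eq_zero_of_field, h0]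
      simp

end GrassLib
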