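import Groth.Agent.GrassLib.CMSeq
import Groth.Agent.GrassLib.CMQuot
import Groth.Agent.GrassLib.Determinantal
import Groth.Agent.GrassLib.Factorial
import Groth.Agent.GrassLib.Dim

/-!
Determinantal varieties: normality, Cohen–Macaulayness and dimension.
-/

universe u

open MvPolynomial Matrix

namespace GrassLib

open W4bk4grassmannian

/-- A retract of an integrally closed domain is integrally closed. -/
theorem isIntegrallyClosed_of_retract {A L : Type*} [CommRing A] [IsDomain A] [CommRing L] [IsDomain L]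
    [IsIntegrallyClosed L] (ι : A →+* L) (ψ : L →+* A) (h : ∀ a, ψ (ι a) = a) : IsIntegrallyClosed A := by
  refine (isIntegrallyClosed_iff (FractionRing A)).2 fun {y} hy => ?_
  have hι : Function.Injective ι := Function.LeftInverse.injective h
  let ι' : A →+* FractionRing L := (algebraMap L (FractionRing L)).comp ι
  have hι' : Function.Injective ι' := (IsFractionRing.injective L (FractionRing L)).comp hι
  let Φ : FractionRing A →+* FractionRing L := IsFractionRing.lift hι'
  have hΦ : ∀ a, Φ (algebraMap A _ a) = algebraMap L _ (ι a) := fun a => IsFractionRing.lift_algebraMap hι' a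
  obtain ⟨z, hz⟩ := IsIntegrallyClosed.isIntegral_iff.1
    (hy.map_of_comp_eq ι Φ (RingHom.ext fun a => (hΦ a).symm))
  obtain ⟨a, b, hb, rfl⟩ := IsFractionRing.div_surjective (A := A) y
  have hb0 : algebraMap A (FractionRing A) b ≠ 0 := IsFractionRing.to_map_ne_zero_of_mem_nonZeroDivisors hb
  refine ⟨ψ z, ?_⟩
  rw [eq_div_iff hb0, ← map_mul]
  refine congrArg _ ?_
  have h1 : z * ι b = ι a := by
    apply IsFractionRing.injective L (FractionRing L)
    rw [map_mul, hz, map_div₀, hΦ, hΦ, div_mul_cancel₀]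
    rw [← hΦ]
    exact (map_ne_zero Φ).2 hb0
  have h2 := congrArg ψ h1
  rwa [map_mul, h, h] at h2

theorem aeval_smul_of_isHomogeneous {K : Type*} [CommRing K] {σ T : Type*} [CommRing T] [Algebra K T]
    {H : MvPolynomial σ K} {N : ℕ} (hH : H.IsHomogeneous N) (t : T) (v : σ → T) :
    aeval (fun i => t * v i) H = t ^ N * aeval v H := by
  conv_lhs => rw [H.as_sum]
  conv_rhs => rw [H.as_sum]
  rw [map_sum, map_sum, Finset.mul_sum]
  refine Finset.sum_congr rfl fun e he => ?_
  rw [aeval_monomial, aeval_monomial]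
  have hdeg : e.degree = N := by
    rw [Finsupp.degree_eq_weight_one]
    exact hH (MvPolynomial.mem_support_iff.1 he)
  simp only [Finsupp.prod, mul_pow, Finset.prod_mul_distrib, Finset.prod_pow_eq_pow_sum]
  rw [Finsupp.degree] at hdeg
  simp only [AddMonoidHom.coe_mk, ZeroHom.coe_mk] at hdeg
  rw [hdeg]
  ring

variable {d r : ℕ} {K : Type u} [Field K] [Infinite K]

/-- The ideal of the affine cone section by `X_ι = 1`. -/
noncomputable def dehom (K : Type u) [Field K] {d r : ℕ} (w : Idx d (d + r)) :
    Ideal (PlRing K d (d + r)) :=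
  schubertVanishing K d (d + r) w ⊔ Ideal.span {X (bot' d r) - 1}

theorem dehom_normal (hd : 0 < d) (w : Idx d (d + r)) [(dehom K w).IsPrime] :
    IsIntegrallyClosed (PlRing K d (d + r) ⧸ dehom K w) := by
  classical
  set J := schubertVanishing K d (d + r) w with hJ
  obtain ⟨hdom, hnor⟩ := isIntegrallyClosed_schubert (K := K) hd w
  set x := Ideal.Quotient.mk J (X (bot' d r)) with hx
  have hx0 : x ≠ 0 := by
    rw [hx, Ne, Ideal.Quotient.eq_zero_iff_mem, hJ, X_mem_schubertVanishing_iff hd]
    exact fun h => h (bot'_le w)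
  have hle : Submonoid.powers x ≤ nonZeroDivisors (PlRing K d (d + r) ⧸ J) :=
    powers_le_nonZeroDivisors_of_noZeroDivisors hx0
  let L := Localization.Away x
  have : IsDomain L := IsLocalization.isDomain_localization hle
  have : IsIntegrallyClosed L := isIntegrallyClosed_of_isLocalization L (Submonoid.powers x) hle
  let u : L := algebraMap _ L x
  let ui : L := IsLocalization.Away.invSelf x
  have hu : u * ui = 1 := IsLocalization.Away.mul_invSelf x
  let co : Idx d (d + r) → L := fun θ => algebraMap _ L (Ideal.Quotient.mk J (X θ))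
  let g : PlRing K d (d + r) →ₐ[K] L := aeval fun θ => ui * co θ
  have hco : ∀ P, aeval co P = algebraMap _ L (Ideal.Quotient.mk J P) := fun P => by
    have h : (aeval co : PlRing K d (d + r) →ₐ[K] L) =
        (IsScalarTower.toAlgHom K _ L).comp (Ideal.Quotient.mkₐ K J) :=
      MvPolynomial.algHom_ext fun θ => by simp [co]
    rw [h]; rfl
  have hg : ∀ P ∈ dehom K w, g P = 0 := by
    intro P hP
    obtain ⟨j, hj, q, hq, rfl⟩ := Submodule.mem_sup.1 hP
    obtain ⟨q, rfl⟩ := Ideal.mem_span_singleton.1 hq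
    have h1 : g (X (bot' d r)) = 1 := by
      simp only [g, aeval_X, co]
      rw [mul_comm]; exact hu
    rw [map_add, map_mul, map_sub, h1, map_one, sub_self, zero_mul, add_zero]
    rw [← sum_homogeneousComponent j, map_sum]
    refine Finset.sum_eq_zero fun k _ => ?_
    simp only [g]
    rw [aeval_smul_of_isHomogeneous (homogeneousComponent_isHomogeneous k j), hco,
      Ideal.Quotient.eq_zero_iff_mem.2 (homogeneousComponent_mem hd w hj k), map_zero, mul_zero]
  let ι : PlRing K d (d + r) ⧸ dehom K w →+* L := Ideal.Quotient.lift _ g.toRingHom hg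
  let π : PlRing K d (d + r) ⧸ J →+* PlRing K d (d + r) ⧸ dehom K w :=
    Ideal.Quotient.factor (le_sup_left : J ≤ dehom K w)
  have hπx : π x = 1 := by
    rw [hx, Ideal.Quotient.factor_mk, ← map_one (Ideal.Quotient.mk (dehom K w)), Ideal.Quotient.eq]
    exact Ideal.mem_sup_right (Ideal.mem_span_singleton_self _)
  let ψ : L →+* PlRing K d (d + r) ⧸ dehom K w :=
    IsLocalization.Away.lift x (g := π) (by rw [hπx]; exact isUnit_one)
  have hψ : ∀ y, ψ (algebraMap _ L y) = π y := fun y => IsLocalization.Away.lift_eq x _ y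
  have hψui : ψ ui = 1 := by
    have h := congrArg ψ hu
    rwa [map_mul, hψ, hπx, one_mul, map_one] at h
  refine isIntegrallyClosed_of_retract ι ψ fun a => ?_
  obtain ⟨P, rfl⟩ := Ideal.Quotient.mk_surjective a
  have h : (ψ.comp ι).comp (Ideal.Quotient.mk (dehom K w)) = Ideal.Quotient.mk (dehom K w) := by
    refine MvPolynomial.ringHom_ext (fun a => ?_) fun θ => ?_
    · simp only [RingHom.comp_apply, ι, Ideal.Quotient.lift_mk, AlgHom.toRingHom_eq_coe, RingHom.coe_coe]
      rw [← MvPolynomial.algebraMap_eq, AlgHom.commutes,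
        IsScalarTower.algebraMap_apply K (PlRing K d (d + r) ⧸ J) L, hψ]
      rfl
    · simp only [RingHom.comp_apply, ι, Ideal.Quotient.lift_mk, AlgHom.toRingHom_eq_coe, RingHom.coe_coe,
        g, aeval_X, co]
      rw [map_mul, hψui, hψ, one_mul]
      exact Ideal.Quotient.factor_mk _ _
  exact RingHom.congr_fun h P

/-- The equation of the affine section, on the cone. -/
theorem dehom_facts (hd : 0 < d) (w : Idx d (d + r)) [(dehom K w).IsPrime] :
    LocCoh.IsCohenMacaulayRing (PlRing K d (d + r) ⧸ dehom K w) ∧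
      ringKrullDim (PlRing K d (d + r) ⧸ dehom K w) = ((codeg w : ℕ) : WithBot ℕ∞) := by
  set J := schubertVanishing K d (d + r) w with hJ
  have := schubertVanishing_isPrime (K := K) hd w
  have := isCohenMacaulay_schubert (K := K) hd w
  set y := Ideal.Quotient.mk J (X (bot' d r) - 1) with hy
  have hy0 : y ≠ 0 := by
    rw [hy, Ne, Ideal.Quotient.eq_zero_iff_mem]
    intro h
    have h' := constantCoeff_mem_of_mem hd h
    simp at h'
  let e : ((PlRing K d (d + r) ⧸ J) ⧸ Ideal.span {y}) ≃+* (PlRing K d (d + r) ⧸ dehom K w) :=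
    (Ideal.quotEquivOfEq (by rw [Ideal.map_span, Set.image_singleton])).trans
      (DoubleQuot.quotQuotEquivQuotSup J (Ideal.span {X (bot' d r) - 1}))
  have := isCohenMacaulayRing_quotient_span y (IsSMulRegular.of_ne_zero hy0)
  refine ⟨?_, ?_⟩
  · exact isCohenMacaulayRing_of_ringEquiv (A := (PlRing K d (d + r) ⧸ J) ⧸ Ideal.span {y}) e
  · have hprime : (Ideal.span {y}).IsPrime := by
      have : IsDomain ((PlRing K d (d + r) ⧸ J) ⧸ Ideal.span {y}) := e.toMulEquiv.isDomain
      exact (Ideal.Quotient.isDomain_iff_prime _).1 this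
    have hne : Ideal.span {y} ≠ ⊥ := by rwa [Ne, Ideal.span_singleton_eq_bot]
    have hht : (Ideal.span {y}).height = 1 := by
      refine le_antisymm
        (Ideal.height_le_one_of_isPrincipal_of_mem_minimalPrimes (Ideal.span {y}) _ ?_) ?_
      · exact ⟨⟨hprime, le_rfl⟩, fun q hq _ => hq.2⟩
      · rw [Order.one_le_iff_ne_zero, Ne, Ideal.height_eq_zero_iff_eq_bot]
        exact hne
    have h := Groth.Agent.DimTheory.ringKrullDim_quotient_height_one K
      (PlRing K d (d + r) ⧸ J) _ hht
    rw [ringKrullDim_eq_of_ringEquiv e, ringKrullDim_schubert hd w, Nat.cast_succ] at h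
    exact Groth.Agent.Depth.withBot_add_one_cancel h

theorem sum_sub_detIdx {t : ℕ} (ht : 1 ≤ t) (htd : t ≤ d) (htr : t ≤ r) :
    codeg (detIdx d r t ht (by omega) (by omega)) = (t - 1) * (r + d - t + 1) := by
  have h : ∀ j : Fin d, ((detIdx d r t ht (by omega) (by omega)).1 j).val - j.val =
      if j.val + t ≤ d then t - 1 else r := fun j => by
    simp only [detIdx]
    split_ifs <;> simp only <;> omega
  rw [codeg, Finset.sum_congr rfl fun j _ => h j,
    Fin.sum_univ_eq_sum_range (fun j => if j + t ≤ d then t - 1 else r) d,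
    ← Finset.sum_range_add_sum_Ico _ (show d - (t - 1) ≤ d by omega),
    Finset.sum_congr rfl (fun j hj => if_pos (by simp at hj; omega)),
    Finset.sum_congr (g := fun _ => r) rfl (fun j hj => if_neg (by simp at hj; omega)),
    Finset.sum_const, Finset.sum_const, Finset.card_range, Nat.card_Ico, smul_eq_mul, smul_eq_mul]
  obtain ⟨s, rfl⟩ : ∃ s, t = s + 1 := ⟨t - 1, by omega⟩
  obtain ⟨e, rfl⟩ : ∃ e, d = e + s := ⟨d - s, by omega⟩
  rw [Nat.add_sub_cancel, Nat.add_sub_cancel, show e + s - e = s by omega,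
    show r + (e + s) - (s + 1) + 1 = r + e by omega]
  ring

theorem determinantal_facts {m n t : ℕ} (ht : 1 ≤ t) (htm : t ≤ m) (htn : t ≤ n) :
    IsDomain (MvPolynomial (Fin m × Fin n) K ⧸ CAlgX.minorIdeal (genMatrix K m n) t) ∧
      IsIntegrallyClosed (MvPolynomial (Fin m × Fin n) K ⧸ CAlgX.minorIdeal (genMatrix K m n) t) ∧
      LocCoh.IsCohenMacaulayRing (MvPolynomial (Fin m × Fin n) K ⧸ CAlgX.minorIdeal (genMatrix K m n) t) ∧
      ringKrullDim (MvPolynomial (Fin m × Fin n) K ⧸ CAlgX.minorIdeal (genMatrix K m n) t) =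
        (((t - 1) * (m + n - t + 1) : ℕ) : WithBot ℕ∞) := by
  have hd : 0 < n := by omega
  set w := detIdx n m t ht (by omega) (by omega) with hw
  have hI := cellIdeal_detIdx (K := K) (d := n) (r := m) ht (by omega) (by omega)
  set A := MvPolynomial (Fin m × Fin n) K ⧸ CAlgX.minorIdeal (genMatrix K m n) t
  let f : PlRing K n (n + m) →+* A := (Ideal.Quotient.mk _).comp (cellMap K n m).toRingHom
  have hf : Function.Surjective f := Ideal.Quotient.mk_surjective.comp cellMap_surjective
  have hker : RingHom.ker f = dehom K w := by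
    rw [← RingHom.comap_ker, Ideal.mk_ker, dehom, ← comap_cellIdeal hd, hw, hI]
    rfl
  have hdom : IsDomain A := by
    have : (CAlgX.minorIdeal (genMatrix K m n) t).IsPrime := by
      rw [show t = (t - 1) + 1 by omega, ← ker_pairingMap]
      exact RingHom.ker_isPrime _
    infer_instance
  let e : (PlRing K n (n + m) ⧸ dehom K w) ≃+* A :=
    (Ideal.quotEquivOfEq hker.symm).trans (RingHom.quotientKerEquivOfSurjective hf)
  have : (dehom K w).IsPrime := hker ▸ RingHom.ker_isPrime f
  obtain ⟨hcm, hdim⟩ := dehom_facts (K := K) hd w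
  have := dehom_normal (K := K) hd w
  refine ⟨hdom, IsIntegrallyClosed.of_equiv e, ?_, ?_⟩
  · exact isCohenMacaulayRing_of_ringEquiv (A := PlRing K n (n + m) ⧸ dehom K w) e
  · rw [← ringKrullDim_eq_of_ringEquiv e, hdim, hw, sum_sub_detIdx ht htn htm]

end GrassLib
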