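import Groth.Agent.GrassLib.Determinantal
import Groth.Agent.GrassLib.SMT

/-!
The first fundamental theorem for the general linear group.
-/

universe u

open MvPolynomial Matrix

namespace GrassLib

open W4bk4grassmannian

variable {K : Type u} [Field K] {m n q : ℕ}

/-- A point of `M_{m,n} × M_{n,q}`. -/
def pairPt (U : Matrix (Fin m) (Fin n) K) (W : Matrix (Fin n) (Fin q) K) :
    (Fin m × Fin n) ⊕ (Fin n × Fin q) → K :=
  Sum.elim (fun p => U p.1 p.2) (fun p => W p.1 p.2)

theorem eval_pairingMap (U : Matrix (Fin m) (Fin n) K) (W : Matrix (Fin n) (Fin q) K)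
    (Q : MvPolynomial (Fin m × Fin q) K) :
    eval (pairPt U W) (pairingMap K n m q Q) = eval (fun p => (U * W) p.1 p.2) Q := by
  rw [← MvPolynomial.coe_aeval_eq_eval, RingHom.coe_coe, ← AlgHom.comp_apply, pairingMap,
    MvPolynomial.comp_aeval, ← MvPolynomial.coe_aeval_eq_eval, RingHom.coe_coe]
  refine congrArg (fun v => MvPolynomial.aeval (R := K) v Q) (funext fun p => ?_)
  simp [pairPt, Matrix.mul_apply]

theorem eval_glTranslate (A : GL (Fin n) K) (U : Matrix (Fin m) (Fin n) K)
    (W : Matrix (Fin n) (Fin q) K) (f : PairRing K n m q) :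
    eval (pairPt U W) (glTranslate K n m q A f) =
      eval (pairPt (U * ((A⁻¹ : GL (Fin n) K) : Matrix (Fin n) (Fin n) K))
        ((A : Matrix (Fin n) (Fin n) K) * W)) f := by
  rw [← MvPolynomial.coe_aeval_eq_eval, RingHom.coe_coe, ← AlgHom.comp_apply, glTranslate,
    MvPolynomial.comp_aeval, ← MvPolynomial.coe_aeval_eq_eval, RingHom.coe_coe]
  refine congrArg (fun v => MvPolynomial.aeval (R := K) v f) (funext fun p => ?_)
  rcases p with p | p <;> simp [pairPt, Matrix.mul_apply]

variable [Infinite K]

theorem pairing_translate (A : GL (Fin n) K) (P : MvPolynomial (Fin m × Fin q) K) :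
    glTranslate K n m q A (pairingMap K n m q P) = pairingMap K n m q P := by
  refine MvPolynomial.funext fun x => ?_
  obtain ⟨U, W, rfl⟩ : ∃ U W, x = pairPt U W :=
    ⟨Matrix.of fun i k => x (Sum.inl (i, k)), Matrix.of fun k j => x (Sum.inr (k, j)),
      funext fun p => by rcases p with ⟨i, k⟩ | ⟨k, j⟩ <;> rfl⟩
  rw [eval_glTranslate, eval_pairingMap, eval_pairingMap]
  congr 2
  funext p
  rw [← Matrix.mul_assoc, Matrix.mul_assoc U, ← Units.val_mul, inv_mul_cancel, Units.val_one,
    Matrix.mul_one]

/-- The descent step: a polynomial vanishing on singular points of the cell lies in `I + (δ)`. -/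
theorem mem_of_vanish_det (hn : 0 < n) (hm : n ≤ m) (hq : n ≤ q) (P : MvPolynomial (Fin m × Fin q) K)
    (h : ∀ Z : Matrix (Fin m) (Fin q) K,
      (∃ (U : Matrix (Fin m) (Fin n) K) (W : Matrix (Fin n) (Fin q) K), Z = U * W) →
      (Z.submatrix (fun j => (Fin.castLE hm j).rev) (Fin.castLE hq)).det = 0 →
      eval (fun p => Z p.1 p.2) P = 0) :
    P ∈ CAlgX.minorIdeal (genMatrix K m q) (n + 1) ⊔
      Ideal.span {((genMatrix K m q).submatrix (fun j => (Fin.castLE hm j).rev) (Fin.castLE hq)).det} := by
  classical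
  obtain ⟨s, rfl⟩ : ∃ s, n = s + 1 := ⟨n - 1, by omega⟩
  have hd : 0 < q := by omega
  set w := detIdx q m (s + 1 + 1) (by omega) (by omega) (by omega)
  let M₀ : MinorIdx m q :=
    ⟨s, ⟨Fin.castLE hm, Fin.strictMono_castLE hm⟩, ⟨Fin.castLE hq, Fin.strictMono_castLE hq⟩⟩
  obtain ⟨ε, hε, hδ⟩ := cellMinor_minorToIdx (K := K) M₀
  have hM₀w : minorToIdx M₀ = w := by
    refine le_antisymm ((detIdx_le_iff_size _ _ _ M₀).2 (by simp only [M₀]; omega)) ?_
    have hwpos : 0 < cnt q w := by
      by_contra h0
      have h1 := (cnt_eq_zero_iff w).1 (by omega)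
      have h2 := (detIdx_le_iff_size (d := q) (r := m) (t := s + 1 + 1) (by omega) (by omega) (by omega) M₀).2
        (by simp only [M₀]; omega)
      have h3 := cnt_le_cnt (show minorToIdx M₀ ≤ w from h2) q
      rw [cnt_d_minorToIdx] at h3
      omega
    obtain ⟨Mw, hMw⟩ := exists_minor_of_cnt_pos w hwpos
    rw [← hMw, minorToIdx_le_iff]
    have hsz : Mw.1 + 1 ≤ s + 1 + 1 - 1 := by
      rw [← detIdx_le_iff_size (d := q) (r := m) (t := s + 1 + 1) (by omega) (by omega) (by omega), hMw]
    refine ⟨by simp only [M₀]; omega, fun j j' hjj' => ⟨?_, ?_⟩⟩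
    · rw [Fin.le_def]
      simp only [M₀, Fin.val_castLE]
      have := val_le_idx Mw.2.1 j
      omega
    · rw [Fin.le_def]
      simp only [M₀, Fin.val_castLE]
      have := val_le_idx Mw.2.2 j
      omega
  have hbot : bot' q m < w := lt_of_le_of_ne (bot'_le w) fun he => by
    have h1 := cnt_d_minorToIdx M₀
    rw [hM₀w, ← he, cnt_bot'] at h1
    omega
  obtain ⟨Q, rfl⟩ := cellMap_surjective (K := K) P
  let H := ∑ k ∈ Finset.range (Q.totalDegree + 1),
    homogeneousComponent k Q * X (bot' q m) ^ (Q.totalDegree - k)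
  have hQH : Q - H ∈ Ideal.span {X (bot' q m) - (1 : PlRing K q (q + m))} := by
    rw [show Q - H = ∑ k ∈ Finset.range (Q.totalDegree + 1), (homogeneousComponent k Q -
        homogeneousComponent k Q * X (bot' q m) ^ (Q.totalDegree - k)) by
      rw [Finset.sum_sub_distrib, sum_homogeneousComponent]]
    refine Ideal.sum_mem _ fun k _ => ?_
    rw [← mul_one_sub]
    refine Ideal.mul_mem_left _ _ (Ideal.mem_span_singleton.2 ?_)
    rw [← dvd_neg, neg_sub]
    exact sub_one_dvd_pow_sub_one _ _
  have hH : H.IsHomogeneous Q.totalDegree := IsHomogeneous.sum _ _ _ fun k hk => by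
    have := (homogeneousComponent_isHomogeneous k Q).mul
      ((isHomogeneous_X K (bot' q m)).pow (Q.totalDegree - k))
    rwa [one_mul, Nat.add_sub_cancel' (Nat.lt_succ_iff.1 (Finset.mem_range.1 hk))] at this
  have hcellQH : cellMap K q m H = cellMap K q m Q := by
    obtain ⟨p, hp⟩ := Ideal.mem_span_singleton.1 hQH
    have h2 := congrArg (cellMap K q m) hp
    rw [map_sub, map_mul, map_sub, cellMap_bot, map_one, sub_self, zero_mul, sub_eq_zero] at h2
    exact h2.symm
  have hHmem : H ∈ schubertVanishing K q (q + m) w ⊔ Ideal.span {X w} := by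
    rw [sup_span_X_eq_iInf hd w ⟨_, hbot⟩]
    simp only [Ideal.mem_iInf]
    intro φ hφ
    refine mem_of_mem_sup_dehom hd φ hH ?_
    refine mem_sup_of_vanish hd φ H fun A hA hAbot => ?_
    let Z : Matrix (Fin m) (Fin q) K := Matrix.of fun i j => A (Fin.natAdd q i) j
    have hAcell : (cellMatrix K q m).map (aeval fun p : Fin m × Fin q => Z p.1 p.2) = A := by
      ext i j
      induction i using Fin.addCases with
      | left i =>
        have := congrFun (congrFun hAbot i) j
        simp only [Matrix.submatrix_apply, bot', id_eq, Matrix.one_apply] at this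
        rw [Matrix.map_apply, cellMatrix_castAdd, this]
        split_ifs <;> simp
      | right i => rw [Matrix.map_apply, cellMatrix_natAdd, aeval_X]; rfl
    have hev : ∀ R : PlRing K q (q + m),
        aeval (fun p : Fin m × Fin q => Z p.1 p.2) (cellMap K q m R) = evalMinors K q (q + m) A R := by
      intro R
      rw [cellMap, comp_evalMat, hAcell, ← evalMinors_eq]
    have hAw : ∀ θ : Idx q (q + m), ¬ θ ≤ w → (A.submatrix θ.1 id).det = 0 := fun θ hθ =>
      hA θ fun hle => hθ (hle.trans hφ.1.le)
    rw [← hev, hcellQH, MvPolynomial.aeval_eq_eval]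
    refine h Z (exists_factor Z fun a b => ?_) ?_
    · have hmem : ((genMatrix K m q).submatrix a b).det ∈ cellIdeal K w := by
        rw [cellIdeal_detIdx]
        exact Ideal.subset_span ⟨(a, b), rfl⟩
      have hle : cellIdeal K w ≤
          RingHom.ker (aeval (fun p : Fin m × Fin q => Z p.1 p.2) : CellRing K q m →ₐ[K] K) := by
        refine Ideal.span_le.2 ?_
        rintro _ ⟨θ, hθ, rfl⟩
        rw [SetLike.mem_coe, RingHom.mem_ker, ← cellMap_X, hev, evalMinors_eq, evalMat_X]
        exact hAw θ hθ
      have h0 := hle hmem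
      rw [RingHom.mem_ker, AlgHom.map_det] at h0
      rw [← h0]
      congr 1
      ext i j
      simp [genMatrix]
    · have h0 : aeval (fun p : Fin m × Fin q => Z p.1 p.2) (cellMap K q m (X (minorToIdx M₀))) = 0 := by
        rw [hev, evalMinors_eq, evalMat_X, hM₀w]
        exact hA w hφ.1.not_ge
      rw [cellMap_X, hδ, map_mul, AlgHom.map_det] at h0
      have hεne : aeval (fun p : Fin m × Fin q => Z p.1 p.2) ε ≠ 0 := by
        rcases hε with rfl | rfl <;> simp
      rw [← (mul_eq_zero.1 h0).resolve_left hεne]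
      congr 1
      ext i j
      simp [genMatrix, M₀]
  rw [← hcellQH]
  obtain ⟨G, hG, R, hR, hGR⟩ := Submodule.mem_sup.1 hHmem
  obtain ⟨R', rfl⟩ := Ideal.mem_span_singleton.1 hR
  rw [← hGR, map_add, map_mul, cellMap_X, ← hM₀w, hδ]
  refine add_mem (Ideal.mem_sup_left ?_) (Ideal.mem_sup_right ?_)
  · rw [← cellIdeal_detIdx (K := K) (d := q) (r := m) (t := s + 1 + 1) (by omega) (by omega) (by omega)]
    have : G ∈ (cellIdeal K w).comap (cellMap K q m) := by
      rw [comap_cellIdeal hd]
      exact Ideal.mem_sup_left hG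
    exact this
  · exact Ideal.mul_mem_right _ _ (Ideal.mul_mem_left _ _ (Ideal.subset_span rfl))

/-- The theorem when both matrices have at least `n` rows resp. columns. -/
theorem fft_GL_large (hm : n ≤ m) (hq : n ≤ q) (f : PairRing K n m q)
    (hinv : ∀ A : GL (Fin n) K, glTranslate K n m q A f = f) :
    f ∈ (pairingMap K n m q).range := by
  classical
  set a₀ : Fin n → Fin m := fun j => (Fin.castLE hm j).rev with ha₀
  set b₀ : Fin n → Fin q := Fin.castLE hq with hb₀
  set G := genMatrix K m q with hG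
  set δ := (G.submatrix a₀ b₀).det with hδ
  have key : ∀ f : PairRing K n m q, ∃ (Q : MvPolynomial (Fin m × Fin q) K) (N : ℕ),
      ∀ (U : Matrix (Fin m) (Fin n) K) (W : Matrix (Fin n) (Fin q) K),
      (U.submatrix a₀ id).det ≠ 0 → (W.submatrix id b₀).det ≠ 0 →
      eval (pairPt (U * (U.submatrix a₀ id)⁻¹) (U.submatrix a₀ id * W)) f *
        ((U * W).submatrix a₀ b₀).det ^ N = eval (fun p => (U * W) p.1 p.2) Q := by
    have hdelta : ∀ Z : Matrix (Fin m) (Fin q) K,
        eval (fun p => Z p.1 p.2) δ = (Z.submatrix a₀ b₀).det := by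
      intro Z
      rw [hδ, RingHom.map_det]
      congr 1
      ext i j
      simp [hG, genMatrix]
    intro f
    induction f using MvPolynomial.induction_on with
    | C a => exact ⟨C a, 0, fun U W _ _ => by simp⟩
    | add p p' hp hp' =>
      obtain ⟨P, k, hP⟩ := hp
      obtain ⟨Q, l, hQ⟩ := hp'
      refine ⟨P * δ ^ l + Q * δ ^ k, k + l, fun U W hU hW => ?_⟩
      simp only [map_add, map_mul, map_pow]
      rw [← hP U W hU hW, ← hQ U W hU hW, hdelta, pow_add]
      ring
    | mul_X p v hp =>
      obtain ⟨P, k, hP⟩ := hp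
      rcases v with ⟨i, j⟩ | ⟨j, l⟩
      · refine ⟨P * (G.submatrix id b₀ * (G.submatrix a₀ b₀).adjugate) i j, k + 1, fun U W hU hW => ?_⟩
        rw [map_mul, map_mul, eval_X, ← hP U W hU hW]
        set Y := (U * W).submatrix a₀ b₀ with hY
        have hYeq : Y = U.submatrix a₀ id * W.submatrix id b₀ := by
          rw [hY, Matrix.submatrix_mul U W a₀ id b₀ Function.bijective_id]
        have hYdet : Y.det ≠ 0 := by rw [hYeq, Matrix.det_mul]; exact mul_ne_zero hU hW
        have h1 : (U * W).submatrix id b₀ * Y.adjugate = Y.det • (U * (U.submatrix a₀ id)⁻¹) := by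
          have h2 : (U * W).submatrix id b₀ = U * (U.submatrix a₀ id)⁻¹ * Y := by
            rw [hYeq, ← Matrix.mul_assoc, Matrix.nonsing_inv_mul_cancel_right _ _ (isUnit_iff_ne_zero.2 hU)]
            rw [Matrix.submatrix_mul U W id id b₀ Function.bijective_id, Matrix.submatrix_id_id]
          rw [h2, Matrix.mul_assoc, Matrix.mul_adjugate, Matrix.mul_smul, Matrix.mul_one]
        have h3 : eval (fun p => (U * W) p.1 p.2) ((G.submatrix id b₀ * (G.submatrix a₀ b₀).adjugate) i j) =
            (Y.det • (U * (U.submatrix a₀ id)⁻¹)) i j := by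
          rw [← h1]
          have hmap : ∀ a : Fin n → Fin m, (eval (fun p => (U * W) p.1 p.2)).mapMatrix
              (G.submatrix a b₀) = (U * W).submatrix a b₀ := fun a => by
            ext s t; simp [hG, genMatrix]
          rw [Matrix.mul_apply, Matrix.mul_apply, map_sum]
          refine Finset.sum_congr rfl fun x _ => ?_
          rw [map_mul, hY, ← hmap a₀, ← RingHom.map_adjugate]
          simp [hG, genMatrix]
        rw [h3]
        simp only [pairPt, Sum.elim_inl, Matrix.smul_apply, smul_eq_mul]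
        rw [pow_succ]
        ring
      · refine ⟨P * X (a₀ j, l), k, fun U W hU hW => ?_⟩
        rw [map_mul, map_mul, eval_X, eval_X, ← hP U W hU hW]
        simp only [pairPt, Sum.elim_inr, Matrix.mul_apply, Matrix.submatrix_apply, id_eq]
        ring
  obtain ⟨Q, N, hQ⟩ := key f
  -- the identity of polynomials
  have hπδne : pairingMap K n m q δ ≠ 0 := by
    intro h0
    have h1 := congrArg (eval (pairPt
      (Matrix.of fun (i : Fin m) (k : Fin n) => if i = a₀ k then (1 : K) else 0)
      (Matrix.of fun (k : Fin n) (j : Fin q) => if j = b₀ k then (1 : K) else 0))) h0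
    rw [eval_pairingMap, map_zero, hδ, RingHom.map_det] at h1
    refine one_ne_zero (α := K) (Eq.trans ?_ h1)
    refine (Matrix.det_one (n := Fin n)).symm.trans (congrArg Matrix.det ?_)
    have hinja : Function.Injective a₀ := Fin.rev_injective.comp (Fin.castLE_injective hm)
    ext s t
    simp [hG, genMatrix, Matrix.mul_apply, Matrix.one_apply, hinja.eq_iff,
      (Fin.castLE_injective hq).eq_iff, hb₀, eq_comm]
  have hdelta : ∀ Z : Matrix (Fin m) (Fin q) K,
      eval (fun p => Z p.1 p.2) δ = (Z.submatrix a₀ b₀).det := by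
    intro Z
    rw [hδ, RingHom.map_det]
    congr 1
    ext i j
    simp [hG, genMatrix]
  have hid : f * pairingMap K n m q δ ^ N = pairingMap K n m q Q := by
    refine mul_right_cancel₀ hπδne ?_
    refine MvPolynomial.funext fun x => ?_
    obtain ⟨U, W, rfl⟩ : ∃ U W, x = pairPt U W :=
      ⟨Matrix.of fun i k => x (Sum.inl (i, k)), Matrix.of fun k j => x (Sum.inr (k, j)),
        funext fun p => by rcases p with ⟨i, k⟩ | ⟨k, j⟩ <;> rfl⟩
    simp only [map_mul, map_pow, eval_pairingMap, hdelta]
    have hsplit : ((U * W).submatrix a₀ b₀).det = (U.submatrix a₀ id).det * (W.submatrix id b₀).det := by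
      rw [Matrix.submatrix_mul U W a₀ id b₀ Function.bijective_id, Matrix.det_mul]
    by_cases hU : (U.submatrix a₀ id).det = 0
    · simp [hsplit, hU]
    by_cases hW : (W.submatrix id b₀).det = 0
    · simp [hsplit, hW]
    rw [← hQ U W hU hW]
    congr 2
    let A : GL (Fin n) K := Matrix.GeneralLinearGroup.mkOfDetNeZero (U.submatrix a₀ id) hU
    have hAinv : ((A⁻¹ : GL (Fin n) K) : Matrix (Fin n) (Fin n) K) = (U.submatrix a₀ id)⁻¹ := by
      rw [Matrix.coe_units_inv]
      rfl
    have h1 := eval_glTranslate A U W f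
    rw [hinv A, hAinv] at h1
    exact h1
  clear hQ key
  induction N generalizing Q with
  | zero => exact ⟨Q, hid.symm.trans (by rw [pow_zero, mul_one])⟩
  | succ N ih =>
    rcases Nat.eq_zero_or_pos n with hn | hn
    · refine ih Q ?_
      have hone : δ = 1 := by
        subst hn
        rw [hδ]
        exact Matrix.det_isEmpty
      rw [hone, map_one, one_pow] at hid ⊢
      exact hid
    have hmem := mem_of_vanish_det hn hm hq Q fun Z ⟨U, W, hZ⟩ hdet => by
      subst hZ
      have h1 := congrArg (eval (pairPt U W)) hid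
      simp only [map_mul, map_pow, eval_pairingMap, hdelta] at h1
      rw [hdet, zero_pow N.succ_ne_zero, mul_zero] at h1
      exact h1.symm
    obtain ⟨P, hP, R, hR, rfl⟩ := Submodule.mem_sup.1 hmem
    obtain ⟨Q', rfl⟩ := Ideal.mem_span_singleton.1 hR
    refine ih Q' (mul_right_cancel₀ hπδne ?_)
    rw [← ker_pairingMap, RingHom.mem_ker] at hP
    rw [mul_assoc, ← pow_succ, hid, map_add, hP, zero_add, map_mul, mul_comm]

/-- The first fundamental theorem for the general linear group. -/
theorem fft_GL (f : PairRing K n m q) :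
    (∀ A : GL (Fin n) K, glTranslate K n m q A f = f) ↔ f ∈ (pairingMap K n m q).range := by
  classical
  refine ⟨fun hinv => ?_, fun ⟨P, hP⟩ A => hP ▸ pairing_translate A P⟩
  set em : Fin m ↪ Fin (m + n) := Fin.castAddEmb n
  set eq : Fin q ↪ Fin (q + n) := Fin.castAddEmb n
  let ι : PairRing K n m q →ₐ[K] PairRing K n (m + n) (q + n) :=
    rename (Sum.map (fun p => (em p.1, p.2)) (fun p => (p.1, eq p.2)))
  let π : PairRing K n (m + n) (q + n) →ₐ[K] PairRing K n m q :=
    aeval (Sum.elim
      (fun p => Fin.addCases (fun i => X (Sum.inl (i, p.2))) (fun _ => 0) p.1)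
      (fun p => Fin.addCases (fun j => X (Sum.inr (p.1, j))) (fun _ => 0) p.2))
  let π' : MvPolynomial (Fin (m + n) × Fin (q + n)) K →ₐ[K] MvPolynomial (Fin m × Fin q) K :=
    aeval fun p => Fin.addCases (fun i => Fin.addCases (fun j => X (i, j)) (fun _ => 0) p.2)
      (fun _ => 0) p.1
  have hπι : ∀ g, π (ι g) = g := by
    intro g
    have h : π.comp ι = AlgHom.id K _ := by
      refine MvPolynomial.algHom_ext fun v => ?_
      rcases v with ⟨i, k⟩ | ⟨k, j⟩ <;> simp [π, ι, em, eq]
    exact AlgHom.congr_fun h g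
  have hcomm : ∀ P, π (pairingMap K n (m + n) (q + n) P) = pairingMap K n m q (π' P) := by
    intro P
    have h : π.comp (pairingMap K n (m + n) (q + n)) = (pairingMap K n m q).comp π' := by
      refine MvPolynomial.algHom_ext fun ⟨i, j⟩ => ?_
      simp only [AlgHom.coe_comp, Function.comp_apply, pairingMap, aeval_X, map_sum, map_mul, π, π',
        Sum.elim_inl, Sum.elim_inr]
      induction i using Fin.addCases with
      | left i =>
        induction j using Fin.addCases with
        | left j => simp
        | right j => simp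
      | right i => simp
    exact AlgHom.congr_fun h P
  have hinv' : ∀ A : GL (Fin n) K, glTranslate K n (m + n) (q + n) A (ι f) = ι f := by
    intro A
    have h : (glTranslate K n (m + n) (q + n) A).comp ι = ι.comp (glTranslate K n m q A) := by
      refine MvPolynomial.algHom_ext fun v => ?_
      rcases v with ⟨i, k⟩ | ⟨k, j⟩ <;> simp [glTranslate, ι, em, eq]
    have := AlgHom.congr_fun h f
    simp only [AlgHom.coe_comp, Function.comp_apply, hinv A] at this
    exact this
  obtain ⟨P, hP⟩ := fft_GL_large (by omega) (by omega) (ι f) hinv'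
  refine ⟨π' P, ?_⟩
  show pairingMap K n m q (π' P) = f
  rw [← hcomm, show pairingMap K n (m + n) (q + n) P = ι f from hP, hπι]

end GrassLib
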