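import Groth.Agent.GrassLib.SMT
import Groth.Agent.GrassLib.Rank

/-!
The first fundamental theorem for the special linear group.
-/

universe u

open MvPolynomial Matrix

namespace GrassLib

open W4bk4grassmannian

variable {d n : ℕ}

/-- The largest index. -/
def topIdx (h : d ≤ n) : Idx d n :=
  ⟨fun t => ⟨t.val + (n - d), by omega⟩, fun a b hab => Fin.mk_lt_mk.2 (Nat.add_lt_add_right (Fin.lt_def.1 hab) _)⟩

theorem le_topIdx (h : d ≤ n) (θ : Idx d n) : θ ≤ topIdx h := fun s => by
  rw [Fin.le_def]
  simp only [topIdx]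
  have key : ∀ k, ∀ hk : s.val + k < d, (θ.1 s).val + k ≤ (θ.1 ⟨s.val + k, hk⟩).val := by
    intro k
    induction k with
    | zero => intro hk; exact le_rfl
    | succ k ih =>
      intro hk
      have h1 := ih (by omega)
      have h2 := Fin.lt_def.1 (θ.2 (show (⟨s.val + k, by omega⟩ : Fin d) < ⟨s.val + (k + 1), hk⟩ from
        Fin.lt_def.2 (by simp only; omega)))
      omega
  have h2 := key (d - 1 - s.val) (by omega)
  have h3 := (θ.1 ⟨s.val + (d - 1 - s.val), by omega⟩).isLt
  omega

theorem exists_lt_topIdx (hd : 0 < d) (h : d < n) : ∃ φ : Idx d n, φ < topIdx h.le := by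
  refine ⟨⟨fun t => ⟨t.val, by omega⟩, fun a b hab => Fin.mk_lt_mk.2 (Fin.lt_def.1 hab)⟩,
    lt_of_le_of_ne (le_topIdx _ _) fun he => ?_⟩
  have := congrArg (fun θ : Idx d n => (θ.1 ⟨0, hd⟩).val) he
  simp only [topIdx] at this
  omega

variable {K : Type u} [Field K]

theorem eval_pluckerMap (x : Fin n × Fin d → K) (Q : PlRing K d n) :
    eval x (pluckerMap K d n Q) = evalMinors K d n (Matrix.of fun i t => x (i, t)) Q := by
  rw [← MvPolynomial.coe_aeval_eq_eval, RingHom.coe_coe,
    show pluckerMap K d n = evalMat (Matrix.of fun i t => (X (i, t) : MatRing K d n)) from rfl,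
    comp_evalMat, evalMinors_eq]
  congr 2
  ext i t
  simp

theorem eval_rightTranslate (g : Matrix.SpecialLinearGroup (Fin d) K) (f : MatRing K d n)
    (x : Fin n × Fin d → K) :
    eval x (rightTranslate K d n g f) =
      eval (fun p => ((Matrix.of fun i t => x (i, t)) * (g : Matrix (Fin d) (Fin d) K)) p.1 p.2) f := by
  rw [← MvPolynomial.coe_aeval_eq_eval, RingHom.coe_coe, ← AlgHom.comp_apply, rightTranslate,
    MvPolynomial.comp_aeval, ← MvPolynomial.coe_aeval_eq_eval, RingHom.coe_coe]
  refine congrArg (fun v => MvPolynomial.aeval (R := K) v f) (funext fun p => ?_)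
  simp [Matrix.mul_apply]

theorem rightTranslate_minor (g : Matrix.SpecialLinearGroup (Fin d) K) (a : Fin d → Fin n) :
    rightTranslate K d n g (minor K d n a) = minor K d n a := by
  rw [W4bk4grassmannian.minor, AlgHom.map_det]
  have h : ((rightTranslate K d n g).mapMatrix (Matrix.of fun s t => (X (a s, t) : MatRing K d n))) =
      (Matrix.of fun s t => (X (a s, t) : MatRing K d n)) *
        ((g : Matrix (Fin d) (Fin d) K).map (C : K → MatRing K d n)) := by
    ext s t : 2
    simp [rightTranslate, Matrix.mul_apply]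
  rw [h, Matrix.det_mul, show ((g : Matrix (Fin d) (Fin d) K).map (C : K → MatRing K d n)) =
    (C : K →+* MatRing K d n).mapMatrix (g : Matrix (Fin d) (Fin d) K) from rfl, ← RingHom.map_det,
    g.det_coe, map_one, mul_one]

variable [Infinite K]

theorem fft_SL (hd : 0 < d) (hdn : d < n) (f : MatRing K d n) :
    (∀ g : Matrix.SpecialLinearGroup (Fin d) K, rightTranslate K d n g f = f) ↔
      f ∈ Algebra.adjoin K (Set.range fun θ : Idx d n => minor K d n θ.1) := by
  classical
  constructor
  swap
  · intro hf g
    induction hf using Algebra.adjoin_induction with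
    | mem x hx => obtain ⟨θ, rfl⟩ := hx; exact rightTranslate_minor g θ.1
    | algebraMap r => exact AlgHom.commutes _ r
    | add x y _ _ hx hy => rw [map_add, hx, hy]
    | mul x y _ _ hx hy => rw [map_mul, hx, hy]
  intro hinv
  have hrange : Algebra.adjoin K (Set.range fun θ : Idx d n => minor K d n θ.1) =
      (pluckerMap K d n).range := by
    rw [pluckerMap, ← Algebra.adjoin_range_eq_range_aeval]
  rw [hrange]
  set ω := topIdx (d := d) (n := n) hdn.le
  set t₀ : Fin d := ⟨0, hd⟩
  -- normalisation on the big cell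
  have key : ∀ f : MatRing K d n, ∃ (Q : PlRing K d n) (k : ℕ), ∀ A : Matrix (Fin n) (Fin d) K,
      (A.submatrix ω.1 id).det ≠ 0 →
      eval (fun p => (A * ((A.submatrix ω.1 id)⁻¹ *
        (Matrix.diagonal (Function.update (fun _ => (1 : K)) t₀ (A.submatrix ω.1 id).det) :
          Matrix (Fin d) (Fin d) K))) p.1 p.2) f * (A.submatrix ω.1 id).det ^ k =
        evalMinors K d n A Q := by
    intro f
    induction f using MvPolynomial.induction_on with
    | C a => exact ⟨C a, 0, fun A _ => by simp [evalMinors]⟩
    | add p q hp hq =>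
      obtain ⟨P, k, hP⟩ := hp
      obtain ⟨Q, l, hQ⟩ := hq
      refine ⟨P * X ω ^ l + Q * X ω ^ k, k + l, fun A hA => ?_⟩
      rw [map_add, map_add, map_mul, map_mul, map_pow, map_pow, ← hP A hA, ← hQ A hA,
        evalMinors_eq, evalMat_X, pow_add]
      ring
    | mul_X p v hp =>
      obtain ⟨P, k, hP⟩ := hp
      refine ⟨P * coord K d n (Function.update ω.1 v.2 v.1), if v.2 = t₀ then k else k + 1,
        fun A hA => ?_⟩
      rw [map_mul, map_mul, eval_X, ← hP A hA, evalMinors_eq, evalMat_coord]
      rw [← Matrix.mul_assoc, Matrix.mul_diagonal, normalized_entry A ω hA]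
      simp only [← Matrix.mul_assoc, Function.update_apply]
      split_ifs with h
      · field_simp
      · rw [pow_succ]; field_simp
  obtain ⟨Q, k, hQ⟩ := key f
  -- the identity in the coordinate ring of matrices
  have hpX : pluckerMap K d n (X ω) = minor K d n ω.1 := by simp [pluckerMap]
  have hid : f * pluckerMap K d n (X ω) ^ k = pluckerMap K d n Q := by
    have h0 : (f * pluckerMap K d n (X ω) ^ k - pluckerMap K d n Q) * pluckerMap K d n (X ω) = 0 := by
      refine MvPolynomial.funext fun x => ?_
      rw [map_mul, map_sub, map_mul, map_pow, map_zero, eval_pluckerMap, eval_pluckerMap,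
        evalMinors_eq, evalMat_X]
      set A : Matrix (Fin n) (Fin d) K := Matrix.of fun i t => x (i, t)
      by_cases hA : (A.submatrix ω.1 id).det = 0
      · rw [hA, mul_zero]
      refine mul_eq_zero_of_left ?_ _
      rw [sub_eq_zero, ← evalMinors_eq, ← hQ A hA]
      congr 1
      let g : Matrix.SpecialLinearGroup (Fin d) K := ⟨(A.submatrix ω.1 id)⁻¹ *
        (Matrix.diagonal (Function.update (fun _ => (1 : K)) t₀ (A.submatrix ω.1 id).det) :
          Matrix (Fin d) (Fin d) K), by
        rw [Matrix.det_mul, Matrix.det_diagonal, Matrix.det_nonsing_inv, Ring.inverse_eq_inv',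
          Finset.prod_update_of_mem (Finset.mem_univ _)]
        simp [hA]⟩
      conv_lhs => rw [← hinv g]
      exact eval_rightTranslate g f x
    rcases mul_eq_zero.1 h0 with h | h
    · exact sub_eq_zero.1 h
    · exfalso
      have hω : X ω ∈ vanishing K d n := by rw [vanishing_eq_ker, RingHom.mem_ker]; exact h
      exact (X_mem_schubertVanishing_iff (K := K) hd (τ := ω) (θ := ω)).1
        (vanishing_le_schubertVanishing ω hω) le_rfl
  clear hQ key
  induction k generalizing Q with
  | zero => exact ⟨Q, hid.symm.trans (by rw [pow_zero, mul_one])⟩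
  | succ k ih =>
    have hmem : Q ∈ schubertVanishing K d n ω ⊔ Ideal.span {X ω} := by
      rw [sup_span_X_eq_iInf hd ω (exists_lt_topIdx hd hdn)]
      simp only [Ideal.mem_iInf]
      intro φ hφ
      rw [mem_schubertVanishing_iff]
      intro A hA
      have h1 := congrArg (eval fun p : Fin n × Fin d => A p.1 p.2) hid
      rw [map_mul, map_pow, eval_pluckerMap, eval_pluckerMap, evalMinors_eq, evalMat_X] at h1
      rw [evalMinors_eq]
      rw [show (Matrix.of fun i t => A i t) = A from rfl, hA ω hφ.1.not_ge, zero_pow k.succ_ne_zero,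
        mul_zero] at h1
      exact h1.symm
    obtain ⟨P, hP, R, hR, rfl⟩ := Submodule.mem_sup.1 hmem
    obtain ⟨Q', rfl⟩ := Ideal.mem_span_singleton.1 hR
    refine ih Q' ?_
    have hP0 : pluckerMap K d n P = 0 := by
      have hle : schubertVanishing K d n ω ≤ vanishing K d n := by
        intro P hP
        simp only [vanishing, Ideal.mem_iInf, RingHom.mem_ker, AlgHom.toRingHom_eq_coe, RingHom.coe_coe]
        exact fun A => (mem_schubertVanishing_iff ω P).1 hP A fun φ h => absurd (le_topIdx _ φ) h
      have := hle hP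
      rwa [vanishing_eq_ker, RingHom.mem_ker] at this
    have hne : pluckerMap K d n (X ω) ≠ 0 := fun h => by
      have hω : X ω ∈ vanishing K d n := by rw [vanishing_eq_ker, RingHom.mem_ker]; exact h
      exact (X_mem_schubertVanishing_iff (K := K) hd (τ := ω) (θ := ω)).1
        (vanishing_le_schubertVanishing ω hω) le_rfl
    refine mul_right_cancel₀ hne ?_
    rw [mul_assoc, ← pow_succ, hid, map_add, hP0, zero_add, map_mul, mul_comm]

end GrassLib
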