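import Mathlib
import Groth.Agent.GrassLib.Nagata

/-!
The localization of a graded domain at a homogeneous element as an extension of the degree zero part.
-/

universe u v

open HomogeneousLocalization

namespace GrassLib

variable {K : Type u} [Field K] {R : Type v} [CommRing R] [IsDomain R] [Algebra K R]
  (𝒜 : ℕ → Submodule K R) [GradedAlgebra 𝒜]

theorem transcendental_away {e : ℕ} (he : 0 < e) {s : R} (hs : s ∈ 𝒜 e) (hs0 : s ≠ 0) :
    Transcendental (HomogeneousLocalization.Away 𝒜 s) (algebraMap R (Localization.Away s) s) := by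
  classical
  rw [transcendental_iff]
  intro p hp
  have hinj : Function.Injective (algebraMap R (Localization.Away s)) :=
    IsLocalization.injective _ (powers_le_nonZeroDivisors_of_noZeroDivisors hs0)
  set u := algebraMap R (Localization.Away s) s with hu
  have hunit : IsUnit u := IsLocalization.Away.algebraMap_isUnit s
  choose n g hg hgc using fun j => Away.mk_surjective 𝒜 hs (p.coeff j)
  set N := (Finset.range (p.natDegree + 1)).sum n with hN
  have hval : ∀ j ∈ Finset.range (p.natDegree + 1),
      (p.coeff j).val * u ^ N = algebraMap R _ (g j * s ^ (N - n j)) := by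
    intro j hj
    have hle : n j ≤ N := Finset.single_le_sum (fun i _ => Nat.zero_le (n i)) hj
    have h1 : (p.coeff j).val * u ^ n j = algebraMap R _ (g j) := by
      rw [← hgc j, Away.val_mk, hu, ← map_pow, Localization.mk_eq_mk']
      exact IsLocalization.mk'_spec _ (g j) (⟨s ^ n j, n j, rfl⟩ : Submonoid.powers s)
    conv_lhs => rw [← Nat.add_sub_cancel' hle, pow_add, ← mul_assoc, h1]
    rw [map_mul, map_pow]
  have hsum : ∑ j ∈ Finset.range (p.natDegree + 1), g j * s ^ (N - n j) * s ^ j = 0 := by
    apply hinj
    rw [map_zero, map_sum]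
    have h := congrArg (· * u ^ N) hp
    rw [zero_mul, Polynomial.aeval_eq_sum_range, Finset.sum_mul] at h
    rw [← h]
    refine Finset.sum_congr rfl fun j hj => ?_
    rw [map_mul, map_pow, ← hval j hj, Algebra.smul_def, HomogeneousLocalization.algebraMap_apply, ← hu]
    ring
  have hdeg : ∀ j ∈ Finset.range (p.natDegree + 1),
      g j * s ^ (N - n j) * s ^ j ∈ 𝒜 ((N + j) • e) := by
    intro j hj
    have hle : n j ≤ N := Finset.single_le_sum (fun i _ => Nat.zero_le (n i)) hj
    have h := SetLike.GradedMul.mul_mem (SetLike.GradedMul.mul_mem (hg j)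
      (SetLike.pow_mem_graded (N - n j) hs)) (SetLike.pow_mem_graded j hs)
    rwa [← add_nsmul, ← add_nsmul, Nat.add_sub_cancel' hle] at h
  have hzero : ∀ j ∈ Finset.range (p.natDegree + 1), g j = 0 := by
    intro j hj
    have h := congrArg (fun x => ((DirectSum.decompose 𝒜 x) ((N + j) • e) : R)) hsum
    simp only [DirectSum.decompose_sum, DirectSum.decompose_zero, DirectSum.zero_apply,
      ZeroMemClass.coe_zero] at h
    rw [DFinsupp.finset_sum_apply, Submodule.coe_sum, Finset.sum_eq_single j] at h
    · rw [DirectSum.decompose_of_mem_same 𝒜 (hdeg j hj)] at h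
      rcases mul_eq_zero.1 h with h' | h'
      · exact (mul_eq_zero.1 h').resolve_right (pow_ne_zero _ hs0)
      · exact absurd h' (pow_ne_zero _ hs0)
    · intro i hi hij
      refine DirectSum.decompose_of_mem_ne 𝒜 (hdeg i hi) fun h' => hij ?_
      simp only [smul_eq_mul] at h'
      have := Nat.eq_of_mul_eq_mul_right he h'
      omega
    · exact fun h' => absurd hj h'
  refine Polynomial.ext fun j => ?_
  rw [Polynomial.coeff_zero]
  by_cases hj : j ∈ Finset.range (p.natDegree + 1)
  · refine HomogeneousLocalization.val_injective (𝒜 := 𝒜) (Submonoid.powers s) ?_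
    have h := hval j hj
    rw [hzero j hj, zero_mul, map_zero] at h
    rw [HomogeneousLocalization.val_zero]
    exact (hunit.pow N).mul_left_eq_zero.1 h
  · refine Polynomial.coeff_eq_zero_of_natDegree_lt ?_
    simp only [Finset.mem_range] at hj
    omega

theorem ufd_of_homogeneous_away [IsNoetherianRing R] {s : R} (hs : s ∈ 𝒜 1) (hp : Prime s)
    (h : UniqueFactorizationMonoid (HomogeneousLocalization.Away 𝒜 s)) :
    UniqueFactorizationMonoid R := by
  classical
  set A0 := HomogeneousLocalization.Away 𝒜 s
  set L := Localization.Away s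
  have hle : Submonoid.powers s ≤ nonZeroDivisors R :=
    powers_le_nonZeroDivisors_of_noZeroDivisors hp.ne_zero
  have : IsDomain L := IsLocalization.isDomain_localization hle
  have : IsDomain A0 := Function.Injective.isDomain (algebraMap A0 L)
    (HomogeneousLocalization.val_injective (𝒜 := 𝒜) (Submonoid.powers s))
  let φ : Polynomial A0 →ₐ[A0] L := Polynomial.aeval (algebraMap R L s)
  have hφ : Function.Injective φ :=
    transcendental_iff_injective.1 (transcendental_away 𝒜 Nat.one_pos hs hp.ne_zero)
  letI : Algebra (Polynomial A0) L := φ.toRingHom.toAlgebra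
  have hmem : ∀ r : R, ∃ q, φ q = algebraMap R L r := by
    intro r
    induction r using DirectSum.Decomposition.inductionOn 𝒜 with
    | zero => exact ⟨0, by simp⟩
    | @homogeneous i a =>
      refine ⟨Polynomial.C (Away.mk 𝒜 hs i a.1 (by simpa using a.2)) * Polynomial.X ^ i, ?_⟩
      rw [map_mul, Polynomial.aeval_C, map_pow, Polynomial.aeval_X,
        HomogeneousLocalization.algebraMap_apply, Away.val_mk, Localization.mk_eq_mk', ← map_pow]
      exact IsLocalization.mk'_spec L a.1 (⟨s ^ i, i, rfl⟩ : Submonoid.powers s)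
    | add a b ha hb =>
      obtain ⟨qa, hqa⟩ := ha
      obtain ⟨qb, hqb⟩ := hb
      exact ⟨qa + qb, by rw [map_add, map_add, hqa, hqb]⟩
  have : IsLocalization.Away (Polynomial.X : Polynomial A0) L :=
    { map_units := by
        rintro ⟨_, k, rfl⟩
        show IsUnit (φ (Polynomial.X ^ k))
        rw [map_pow, Polynomial.aeval_X]
        exact (IsLocalization.Away.algebraMap_isUnit s).pow k
      surj := fun z => by
        obtain ⟨⟨r, ⟨_, k, rfl⟩⟩, hr⟩ := IsLocalization.surj (Submonoid.powers s) z
        obtain ⟨q, hq⟩ := hmem r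
        refine ⟨⟨q, ⟨Polynomial.X ^ k, k, rfl⟩⟩, ?_⟩
        show z * φ (Polynomial.X ^ k) = φ q
        rw [map_pow, Polynomial.aeval_X, hq, ← map_pow]
        exact hr
      exists_of_eq := fun {a b} hab => ⟨1, by rw [hφ hab]⟩ }
  have := ufd_of_isLocalization (Submonoid.powers (Polynomial.X : Polynomial A0)) L
  exact ufd_of_away s hp L

end GrassLib
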