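import Mathlib
import Groth.Agent.DimTheory.Algebra
import Groth.Agent.Depth.CM
import Groth.Agent.LocCohBasic.FaltingsRegular

/-!
Regular sequences modulo an ideal, gluing, and Cohen–Macaulayness of algebras free over a polynomial ring.
-/

universe u v

open RingTheory.Sequence

namespace GrassLib

variable {R : Type u} [CommRing R]

/-- `fs` is a (weakly) regular sequence modulo `I`. -/
def RegMod : Ideal R → List R → Prop
  | _, [] => True
  | I, f :: fs => (∀ x, f * x ∈ I → x ∈ I) ∧ RegMod (I ⊔ Ideal.span {f}) fs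

theorem regMod_top : ∀ fs : List R, RegMod ⊤ fs
  | [] => trivial
  | _ :: fs => ⟨fun _ _ => Submodule.mem_top, by rw [top_sup_eq]; exact regMod_top fs⟩

theorem mem_inf_sup_span {A B : Ideal R} {g x : R} (hg : ∀ t, g * t ∈ A ⊔ B → t ∈ A ⊔ B)
    (hA : x ∈ A ⊔ Ideal.span {g}) (hB : x ∈ B ⊔ Ideal.span {g}) : x ∈ A ⊓ B ⊔ Ideal.span {g} := by
  obtain ⟨a, ha, r, hr, rfl⟩ := Submodule.mem_sup.1 hA
  obtain ⟨r', rfl⟩ := Ideal.mem_span_singleton.1 hr
  obtain ⟨b, hb, s, hs, hbs⟩ := Submodule.mem_sup.1 hB
  obtain ⟨s', rfl⟩ := Ideal.mem_span_singleton.1 hs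
  have hmem : r' - s' ∈ A ⊔ B := hg _ (by
    rw [show g * (r' - s') = b - a by linear_combination -hbs]
    exact sub_mem (Ideal.mem_sup_right hb) (Ideal.mem_sup_left ha))
  obtain ⟨a', ha', b', hb', hab⟩ := Submodule.mem_sup.1 hmem
  refine Submodule.mem_sup.2 ⟨a + g * a', ⟨add_mem ha (A.mul_mem_left g ha'), ?_⟩, g * (r' - a'),
    Ideal.mem_span_singleton.2 ⟨_, rfl⟩, by ring⟩
  rw [show a + g * a' = b - g * b' by linear_combination -hbs + g * hab]
  exact sub_mem hb (B.mul_mem_left g hb')

theorem regMod_inf : ∀ (fs : List R) (A B : Ideal R), RegMod A fs → RegMod B fs →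
    RegMod (A ⊔ B) fs → RegMod (A ⊓ B) fs
  | [], _, _, _, _, _ => trivial
  | g :: fs, A, B, hA, hB, hC => by
    refine ⟨fun x hx => ⟨hA.1 x hx.1, hB.1 x hx.2⟩, ?_⟩
    have h : A ⊓ B ⊔ Ideal.span {g} = (A ⊔ Ideal.span {g}) ⊓ (B ⊔ Ideal.span {g}) :=
      le_antisymm (le_inf (sup_le_sup_right inf_le_left _) (sup_le_sup_right inf_le_right _))
        fun x hx => mem_inf_sup_span hC.1 hx.1 hx.2
    rw [h]
    refine regMod_inf fs _ _ hA.2 hB.2 ?_
    rw [← sup_sup_distrib_right]
    exact hC.2

theorem regMod_ext : ∀ (fs : List R) (I C : Ideal R) (e : R),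
    (∀ t, t * e ∈ I ↔ t ∈ C) → RegMod (I ⊔ Ideal.span {e}) fs → RegMod C fs → RegMod I fs
  | [], _, _, _, _, _, _ => trivial
  | g :: fs, I, C, e, he, h2, hC => by
    refine ⟨fun x hx => ?_, ?_⟩
    · have hx2 := h2.1 x (Ideal.mem_sup_left hx)
      obtain ⟨i, hi, y, hy, rfl⟩ := Submodule.mem_sup.1 hx2
      obtain ⟨t, rfl⟩ := Ideal.mem_span_singleton.1 hy
      have h1 : g * t ∈ C := (he _).1 (by
        rw [show g * t * e = g * (i + e * t) - g * i by ring]
        exact sub_mem hx (I.mul_mem_left g hi))
      refine add_mem hi ?_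
      rw [mul_comm]
      exact (he t).2 (hC.1 t h1)
    · refine regMod_ext fs (I ⊔ Ideal.span {g}) (C ⊔ Ideal.span {g}) e (fun t => ⟨fun ht => ?_, fun ht => ?_⟩) ?_ hC.2
      · obtain ⟨i, hi, y, hy, hiy⟩ := Submodule.mem_sup.1 ht
        obtain ⟨r, rfl⟩ := Ideal.mem_span_singleton.1 hy
        have hr := h2.1 r (by
          rw [show g * r = t * e - i by linear_combination hiy]
          exact sub_mem (Ideal.mem_sup_right (Ideal.mul_mem_left _ t (Ideal.subset_span rfl)))
            (Ideal.mem_sup_left hi))
        obtain ⟨i', hi', y', hy', rfl⟩ := Submodule.mem_sup.1 hr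
        obtain ⟨u, rfl⟩ := Ideal.mem_span_singleton.1 hy'
        have h1 : t - g * u ∈ C := (he _).1 (by
          rw [show (t - g * u) * e = i + g * i' by linear_combination -hiy]
          exact add_mem hi (I.mul_mem_left g hi'))
        exact Submodule.mem_sup.2 ⟨t - g * u, h1, g * u, Ideal.mem_span_singleton.2 ⟨u, rfl⟩, by ring⟩
      · obtain ⟨c, hc, y, hy, rfl⟩ := Submodule.mem_sup.1 ht
        obtain ⟨u, rfl⟩ := Ideal.mem_span_singleton.1 hy
        rw [add_mul]
        exact add_mem (Ideal.mem_sup_left ((he c).2 hc))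
          (Ideal.mem_sup_right (Ideal.mem_span_singleton.2 ⟨u * e, by ring⟩))
      · rw [sup_right_comm]
        exact h2.2

/-- Gluing of regular sequences. -/
theorem regMod_glue (A B : Ideal R) (f : R) (fs : List R) (hA : RegMod A (f :: fs))
    (hB : RegMod B (f :: fs)) (hf : f ∈ A ⊔ B) (hC : RegMod (A ⊔ B) fs) :
    RegMod (A ⊓ B) (f :: fs) := by
  obtain ⟨α, hα, β, hβ, hαβ⟩ := Submodule.mem_sup.1 hf
  refine ⟨fun x hx => ⟨hA.1 x hx.1, hB.1 x hx.2⟩, regMod_ext fs _ (A ⊔ B) α (fun t => ⟨fun ht => ?_, fun ht => ?_⟩) ?_ hC⟩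
  · obtain ⟨i, hi, y, hy, hiy⟩ := Submodule.mem_sup.1 ht
    obtain ⟨u, rfl⟩ := Ideal.mem_span_singleton.1 hy
    have hu : u ∈ A := hA.1 u (by
      rw [show f * u = t * α - i by linear_combination hiy]
      exact sub_mem (A.mul_mem_left t hα) hi.1)
    have htu : t - u ∈ B := hB.1 _ (by
      rw [show f * (t - u) = i + t * β by linear_combination -hiy - t * hαβ]
      exact add_mem hi.2 (B.mul_mem_left t hβ))
    exact Submodule.mem_sup.2 ⟨u, hu, t - u, htu, by ring⟩
  · obtain ⟨a, ha, b, hb, rfl⟩ := Submodule.mem_sup.1 ht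
    refine Submodule.mem_sup.2 ⟨b * α - a * β, ⟨sub_mem (A.mul_mem_left b hα) (A.mul_mem_right β ha),
      sub_mem (B.mul_mem_right α hb) (B.mul_mem_left a hβ)⟩, f * a, Ideal.mem_span_singleton.2 ⟨a, rfl⟩, ?_⟩
    linear_combination -a * hαβ
  · have h : A ⊓ B ⊔ Ideal.span {f} ⊔ Ideal.span {α} =
        (A ⊔ Ideal.span {f}) ⊓ (B ⊔ Ideal.span {f}) := by
      refine le_antisymm (sup_le (le_inf (sup_le_sup_right inf_le_left _) (sup_le_sup_right inf_le_right _))
        ((Ideal.span_singleton_le_iff_mem _).2 ⟨Ideal.mem_sup_left hα, ?_⟩)) fun x hx => ?_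
      · rw [show α = f - β by linear_combination hαβ]
        exact sub_mem (Ideal.mem_sup_right (Ideal.subset_span rfl)) (Ideal.mem_sup_left hβ)
      · obtain ⟨a, ha, y, hy, rfl⟩ := Submodule.mem_sup.1 hx.1
        obtain ⟨r, rfl⟩ := Ideal.mem_span_singleton.1 hy
        obtain ⟨b, hb, z, hz, hbz⟩ := Submodule.mem_sup.1 hx.2
        obtain ⟨s, rfl⟩ := Ideal.mem_span_singleton.1 hz
        refine Submodule.mem_sup.2 ⟨(a - (s - r) * α) + f * r, Submodule.mem_sup.2
          ⟨a - (s - r) * α, ⟨sub_mem ha (A.mul_mem_left _ hα), ?_⟩, f * r,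
            Ideal.mem_span_singleton.2 ⟨r, rfl⟩, rfl⟩, (s - r) * α,
          Ideal.mem_span_singleton.2 ⟨s - r, by ring⟩, by ring⟩
        rw [show a - (s - r) * α = b + (s - r) * β by linear_combination -hbz - (s - r) * hαβ]
        exact add_mem hb (B.mul_mem_left _ hβ)
    rw [h]
    refine regMod_inf fs _ _ hA.2 hB.2 ?_
    rwa [← sup_sup_distrib_right, sup_eq_left.2 ((Ideal.span_singleton_le_iff_mem _).2 hf)]

theorem isCohenMacaulayLocalRing_of_ringEquiv {A B : Type u} [CommRing A] [CommRing B]
    [h : LocCoh.IsCohenMacaulayLocalRing A] (e : A ≃+* B) : LocCoh.IsCohenMacaulayLocalRing B := by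
  have : IsNoetherianRing B := isNoetherianRing_of_ringEquiv A e
  have : IsLocalRing B := e.isLocalRing
  letI : Algebra A B := e.toRingHom.toAlgebra
  refine Groth.Agent.Depth.isCohenMacaulayLocalRing_iff.2 ?_
  rw [← ringKrullDim_eq_of_ringEquiv e, Groth.Agent.Depth.ringKrullDim_eq_depth,
    Groth.Agent.Depth.depth_eq_of_surjective (R := A) (S := B) (M := B) e.surjective]
  exact congrArg _ (Groth.Agent.Depth.depth_congr
    ({ e with map_smul' := fun a x => e.map_mul a x } : A ≃ₗ[A] B))

variable {K : Type u} [Field K] [Algebra K R]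

/-- Lifts of elements independent modulo a regular sequence are independent over the polynomial ring. -/
theorem regMod_indep {ι : Type v} [Fintype ι] (b : ι → R) :
    ∀ (fs : List R) (I : Ideal R), RegMod I fs →
      (∀ c : ι → K, ∑ i, c i • b i ∈ I ⊔ Ideal.ofList fs → c = 0) →
      ∀ p : ι → MvPolynomial (Fin fs.length) K,
        ∑ i, MvPolynomial.aeval fs.get (p i) * b i ∈ I → p = 0
  | [], I, _, hind, p, h => by
    funext i
    obtain ⟨c, hc⟩ : ∃ c : ι → K, ∀ i, p i = MvPolynomial.C (c i) :=
      ⟨fun i => (p i).coeff 0, fun i =>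
        letI : IsEmpty (Fin ([] : List R).length) := show IsEmpty (Fin 0) from inferInstance
        MvPolynomial.eq_C_of_isEmpty (p i)⟩
    have h0 := hind c (Ideal.mem_sup_left (by
      simpa [hc, Algebra.smul_def] using h))
    rw [hc i, h0, Pi.zero_apply, map_zero, Pi.zero_apply]
  | f :: fs, I, hreg, hind, p, h => by
    classical
    have hind' : ∀ c : ι → K, ∑ i, c i • b i ∈ (I ⊔ Ideal.span {f}) ⊔ Ideal.ofList fs → c = 0 := by
      intro c hc
      refine hind c ?_
      rw [Ideal.ofList_cons, ← sup_assoc]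
      exact hc
    let ev : MvPolynomial (Fin fs.length) K →+* R :=
      (MvPolynomial.aeval fs.get : MvPolynomial (Fin fs.length) K →ₐ[K] R).toRingHom
    let e := MvPolynomial.finSuccEquiv K fs.length
    have hev : ∀ q : MvPolynomial (Fin (fs.length + 1)) K,
        MvPolynomial.aeval (f :: fs).get q = Polynomial.eval₂ ev f (e q) := by
      intro q
      induction q using MvPolynomial.induction_on with
      | C a => simp [e, ev, MvPolynomial.finSuccEquiv_apply]
      | add x y hx hy =>
        rw [map_add, map_add, Polynomial.eval₂_add]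
        exact congrArg₂ (· + ·) hx hy
      | mul_X x j hx =>
        rw [map_mul, map_mul, Polynomial.eval₂_mul, MvPolynomial.aeval_X]
        refine congrArg₂ (· * ·) hx ?_
        refine Fin.cases ?_ (fun j => ?_) j
        · simp [e, MvPolynomial.finSuccEquiv_X_zero]
        · simp [e, MvPolynomial.finSuccEquiv_X_succ, ev]
    suffices H : ∀ N (q : ι → Polynomial (MvPolynomial (Fin fs.length) K)),
        (∀ i, (q i).natDegree < N ∨ q i = 0) → ∑ i, Polynomial.eval₂ ev f (q i) * b i ∈ I → q = 0 by
      have h' := H ((Finset.univ.sup fun i => (e (p i)).natDegree) + 1) (fun i => e (p i))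
        (fun i => Or.inl (Nat.lt_succ_of_le (Finset.le_sup (f := fun i => (e (p i)).natDegree) (Finset.mem_univ i))))
        (by
          rw [← Finset.sum_congr rfl fun i _ => congrArg (· * b i) (hev (p i))]
          exact h)
      funext i
      exact (map_eq_zero_iff e e.injective).1 (congrFun h' i)
    intro N
    induction N with
    | zero =>
      intro q hq _
      funext i
      exact (hq i).resolve_left (Nat.not_lt_zero _)
    | succ N ih =>
      intro q hq h
      have hsplit : ∀ i, Polynomial.eval₂ ev f (q i) =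
          f * Polynomial.eval₂ ev f (q i).divX + ev ((q i).coeff 0) := by
        intro i
        conv_lhs => rw [← Polynomial.X_mul_divX_add (q i)]
        rw [Polynomial.eval₂_add, Polynomial.eval₂_mul, Polynomial.eval₂_X, Polynomial.eval₂_C]
      have h0 : (fun i => (q i).coeff 0) = 0 := by
        refine regMod_indep b fs (I ⊔ Ideal.span {f}) hreg.2 hind' _ ?_
        have : ∑ i, ev ((q i).coeff 0) * b i =
            ∑ i, Polynomial.eval₂ ev f (q i) * b i - f * ∑ i, Polynomial.eval₂ ev f (q i).divX * b i := by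
          rw [Finset.mul_sum, ← Finset.sum_sub_distrib]
          refine Finset.sum_congr rfl fun i _ => ?_
          rw [hsplit i]; ring
        show ∑ i, ev ((q i).coeff 0) * b i ∈ _
        rw [this]
        exact sub_mem (Ideal.mem_sup_left h) (Ideal.mem_sup_right (Ideal.mem_span_singleton.2 ⟨_, rfl⟩))
      have hdiv : (fun i => (q i).divX) = 0 := by
        refine ih _ (fun i => ?_) (hreg.1 _ ?_)
        · rcases hq i with h' | h'
          · by_cases hn : (q i).natDegree = 0
            · right
              rw [Polynomial.divX_eq_zero_iff]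
              exact Polynomial.eq_C_of_natDegree_eq_zero hn
            · left
              rw [Polynomial.natDegree_divX_eq_natDegree_tsub_one]
              omega
          · right
            rw [h', Polynomial.divX_zero]
        · rw [Finset.mul_sum]
          convert h using 1
          refine Finset.sum_congr rfl fun i _ => ?_
          rw [hsplit i, congrFun h0 i, Pi.zero_apply, map_zero, add_zero, mul_assoc]
      funext i
      rw [← Polynomial.X_mul_divX_add (q i), congrFun hdiv i, congrFun h0 i]
      simp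

open LocCoh in
/-- An algebra finite free over a polynomial ring is Cohen–Macaulay. -/
theorem isCohenMacaulayRing_of_free {e : ℕ} [Nontrivial R]
    [Algebra (MvPolynomial (Fin e) K) R] [Module.Finite (MvPolynomial (Fin e) K) R]
    [Module.Free (MvPolynomial (Fin e) K) R] :
    LocCoh.IsCohenMacaulayRing R ∧ ringKrullDim R = (e : WithBot ℕ∞) := by
  have : IsNoetherianRing R := IsNoetherianRing.of_finite (MvPolynomial (Fin e) K) R
  have : FaithfulSMul (MvPolynomial (Fin e) K) R :=
    (faithfulSMul_iff_algebraMap_injective _ _).2 fun x y hxy => by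
      obtain ⟨⟨i, B⟩⟩ := Module.Free.exists_basis (R := MvPolynomial (Fin e) K) (M := R)
      have hne : Nonempty i := B.index_nonempty
      obtain ⟨j⟩ := hne
      have h1 : x • B j = y • B j := by rw [Algebra.smul_def, Algebra.smul_def, hxy]
      simpa using congrArg (fun z => B.repr z j) h1
  have hdim : ringKrullDim R = (e : WithBot ℕ∞) := by
    rw [Groth.Agent.DimTheory.ringKrullDim_eq_of_integral (MvPolynomial (Fin e) K) R,
      Groth.Agent.DimTheory.ringKrullDim_mvPolynomial_fin]
  refine ⟨?_, hdim⟩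
  have hmax : ∀ (m : Ideal R) [m.IsMaximal], IsCohenMacaulayLocalRing (Localization.AtPrime m) := by
    intro m hm
    have : IsNoetherianRing (Localization.AtPrime m) :=
      IsLocalization.isNoetherianRing m.primeCompl _ inferInstance
    set q := m.under (MvPolynomial (Fin e) K) with hq
    have : q.IsMaximal := Ideal.IsMaximal.under _ m
    have : IsCohenMacaulayRing (MvPolynomial (Fin e) K) :=
      Groth.Agent.LocCohBasic.isCohenMacaulayRing_of_isRegularRing
    have hdepth : (e : ℕ∞) ≤ idealDepth q (MvPolynomial (Fin e) K) := by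
      rw [Groth.Agent.Depth.idealDepth_eq_height, Groth.Agent.DimTheory.height_maximal_mvPolynomial]
    obtain ⟨rs, hlen, hmem, hreg⟩ := (Groth.Agent.Depth.le_idealDepth_iff_exists
      (Groth.Agent.Depth.smul_top_ne_top_self (Ideal.IsPrime.ne_top'))).1 hdepth
    have h1 : IsWeaklyRegular R (rs.map (algebraMap (MvPolynomial (Fin e) K) R)) :=
      hreg.of_flat
    have h2 := h1.of_isLocalization (Localization.AtPrime m) m.primeCompl
    have h3 : ((rs.map (algebraMap (MvPolynomial (Fin e) K) R)).map
        (algebraMap R (Localization.AtPrime m))).length = e := by simp [hlen]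
    refine Groth.Agent.Depth.isCohenMacaulayLocalRing_iff.2
      (le_antisymm ?_ Groth.Agent.Depth.depth_le_ringKrullDim)
    calc ringKrullDim (Localization.AtPrime m) = (m.height : WithBot ℕ∞) :=
          IsLocalization.AtPrime.ringKrullDim_eq_height m _
      _ ≤ ringKrullDim R := Ideal.height_le_ringKrullDim_of_ne_top hm.ne_top
      _ = ((e : ℕ∞) : WithBot ℕ∞) := hdim
      _ ≤ _ := by
        refine WithBot.coe_le_coe.2 ?_
        rw [← h3]
        refine Groth.Agent.Depth.le_idealDepth_of_isWeaklyRegular h2 fun r hr => ?_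
        simp only [List.map_map, List.mem_map, Function.comp_apply] at hr
        obtain ⟨x, hx, rfl⟩ := hr
        rw [← Localization.AtPrime.map_eq_maximalIdeal]
        exact Ideal.mem_map_of_mem _ (hmem x hx)
  refine { isCohenMacaulayLocalRing_localization := fun p hp => ?_ }
  obtain ⟨m, hm, hpm⟩ := Ideal.exists_le_maximal p hp.ne_top
  have := hmax m
  have : (p.map (algebraMap R (Localization.AtPrime m))).IsPrime :=
    IsLocalization.isPrime_of_isPrime_disjoint m.primeCompl _ p hp
      (Set.disjoint_left.2 fun x hx hxp => hx (hpm hxp))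
  have h := Groth.Agent.Depth.isCohenMacaulayLocalRing_atPrime
    (p.map (algebraMap R (Localization.AtPrime m)))
  have : IsLocalization.AtPrime
      (Localization.AtPrime (p.map (algebraMap R (Localization.AtPrime m)))) p := by
    have h' := IsLocalization.isLocalization_atPrime_localization_atPrime m.primeCompl
      (p.map (algebraMap R (Localization.AtPrime m)))
    have hh : Ideal.comap (algebraMap R (Localization m.primeCompl))
        (p.map (algebraMap R (Localization.AtPrime m))) = p :=
      IsLocalization.under_map_of_isPrime_disjoint m.primeCompl _ hp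
        (Set.disjoint_left.2 fun x hx hxp => hx (hpm hxp))
    simpa only [hh] using h'
  exact isCohenMacaulayLocalRing_of_ringEquiv
    (IsLocalization.algEquiv p.primeCompl
      (Localization.AtPrime (p.map (algebraMap R (Localization.AtPrime m))))
      (Localization.AtPrime p)).toRingEquiv

end GrassLib
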