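import Groth.Agent.GrassLib.Straighten

/-!
Schubert varieties in the Plücker embedding: their homogeneous ideals and their standard monomial bases.
-/

universe u v

open MvPolynomial Matrix

namespace GrassLib

open W4bk4grassmannian

variable {d n : ℕ}

theorem det_submatrix_eq_zero_of_support {R : Type v} [CommRing R] (B : Matrix (Fin n) (Fin d) R)
    (τ : Idx d n) (hB : ∀ i t, τ.1 t < i → B i t = 0) (θ : Idx d n) (h : ¬ θ ≤ τ) :
    (B.submatrix θ.1 id).det = 0 := by
  obtain ⟨t₀, ht₀⟩ : ∃ t₀, τ.1 t₀ < θ.1 t₀ := by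
    by_contra hcon
    push Not at hcon
    exact h fun t => hcon t
  rw [Matrix.det_apply]
  refine Finset.sum_eq_zero fun σ _ => smul_eq_zero_of_right _ ?_
  obtain ⟨c, hc, hc'⟩ : ∃ c, c ≤ t₀ ∧ t₀ ≤ σ c := by
    by_contra hcon
    push Not at hcon
    have := Finset.card_le_card_of_injOn σ
      (s := Finset.Iic t₀) (t := Finset.Iio t₀)
      (fun x hx => by
        simpa using hcon x (by simpa using hx)) σ.injective.injOn
    simp only [Fin.card_Iic, Fin.card_Iio] at this
    omega
  refine Finset.prod_eq_zero (Finset.mem_univ c) ?_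
  simp only [Matrix.submatrix_apply, id_eq]
  exact hB _ _ (lt_of_le_of_lt (τ.2.monotone hc) (lt_of_lt_of_le ht₀ (θ.2.monotone hc')))

theorem det_eq_of_rows_diagonal {R : Type v} [CommRing R] (M : Matrix (Fin d) (Fin d) R)
    (t : Fin d) (v : Fin d → R) (hM : ∀ s, s ≠ t → ∀ k, M s k = if s = k then v s else 0) :
    M.det = M t t * ∏ s ∈ Finset.univ.erase t, v s := by
  rw [Matrix.det_apply, Finset.sum_eq_single 1]
  · rw [Equiv.Perm.sign_one, one_smul]
    rw [← Finset.mul_prod_erase _ _ (Finset.mem_univ t)]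
    congr 1
    refine Finset.prod_congr rfl fun s hs => ?_
    simp [hM s (Finset.ne_of_mem_erase hs)]
  · intro σ _ hσ
    refine smul_eq_zero_of_right _ ?_
    obtain ⟨c, hc, hct⟩ : ∃ c, σ c ≠ c ∧ σ c ≠ t := by
      obtain ⟨c, hc⟩ : ∃ c, σ c ≠ c := by
        by_contra hcon
        push Not at hcon
        exact hσ (Equiv.ext hcon)
      by_cases hct : σ c = t
      · refine ⟨t, fun h => ?_, fun h => ?_⟩
        · exact hc (by rw [hct]; exact (σ.injective (hct.trans h.symm)).symm)
        · exact hc (by rw [hct]; exact (σ.injective (hct.trans h.symm)).symm)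
      · exact ⟨c, hc, hct⟩
    refine Finset.prod_eq_zero (Finset.mem_univ c) ?_
    rw [hM _ hct, if_neg hc]
  · intro h
    exact absurd (Finset.mem_univ _) h

variable {K : Type u} [Field K]

/-- Every matrix whose minors outside `{≤ τ}` vanish has the same minors as one supported below `τ`. -/
theorem exists_tri (hd : 0 < d) (τ : Idx d n) (A : Matrix (Fin n) (Fin d) K)
    (hA : ∀ φ : Idx d n, ¬ φ ≤ τ → (A.submatrix φ.1 id).det = 0) :
    ∃ E : Matrix (Fin n) (Fin d) K, (∀ i t, τ.1 t < i → E i t = 0) ∧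
      ∀ θ : Idx d n, (E.submatrix θ.1 id).det = (A.submatrix θ.1 id).det := by
  classical
  have : Nonempty (Fin d) := ⟨⟨0, hd⟩⟩
  by_cases hz : ∀ θ : Idx d n, (A.submatrix θ.1 id).det = 0
  · exact ⟨0, fun _ _ _ => rfl, fun θ => by rw [hz θ]; simp⟩
  push Not at hz
  obtain ⟨θ, hθmem, hmax⟩ := (Finset.univ.filter fun θ : Idx d n =>
    (A.submatrix θ.1 id).det ≠ 0).exists_max_image wt
      (by obtain ⟨θ, hθ⟩ := hz; exact ⟨θ, by simp [hθ]⟩)
  have hθ : (A.submatrix θ.1 id).det ≠ 0 := (Finset.mem_filter.1 hθmem).2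
  set M := A.submatrix θ.1 id with hM
  set v : Fin d → K := Function.update (fun _ => 1) ⟨0, hd⟩ M.det with hv
  have hvne : ∀ s, v s ≠ 0 := fun s => by
    rw [hv, Function.update_apply]
    split_ifs <;> simp [hθ]
  set g := M⁻¹ * Matrix.diagonal v with hg
  have hgdet : g.det = 1 := by
    rw [hg, Matrix.det_mul, Matrix.det_diagonal, Matrix.det_nonsing_inv, hv,
      Finset.prod_update_of_mem (Finset.mem_univ _)]
    simp [Ring.inverse_eq_inv', inv_mul_cancel₀ hθ]
  have hsub : ∀ a : Fin d → Fin n, (A * g).submatrix a id = A.submatrix a id * g := fun a => by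
    ext s t
    simp [Matrix.mul_apply]
  refine ⟨A * g, ?_, fun φ => by rw [hsub, Matrix.det_mul, hgdet, mul_one]⟩
  have hθdiag : (A * g).submatrix θ.1 id = Matrix.diagonal v := by
    rw [hsub, ← hM, hg, Matrix.mul_nonsing_inv_cancel_left _ _ (isUnit_iff_ne_zero.2 hθ)]
  intro i t hit
  have hθle : θ ≤ τ := by
    by_contra hcon
    exact hθ (hA θ hcon)
  have hti : θ.1 t < i := lt_of_le_of_lt (hθle t) hit
  by_contra hne
  have hdet : ((A * g).submatrix (Function.update θ.1 t i) id).det ≠ 0 := by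
    rw [det_eq_of_rows_diagonal _ t v]
    · simp only [Matrix.submatrix_apply, Function.update_self, id_eq]
      exact mul_ne_zero hne (Finset.prod_ne_zero_iff.2 fun s _ => hvne s)
    · intro s hs k
      have := congrFun (congrFun hθdiag s) k
      simp only [Matrix.submatrix_apply, id_eq, Matrix.diagonal_apply] at this
      simp [Function.update_of_ne hs, this]
  have hinj : (Finset.univ.image (Function.update θ.1 t i)).card = d := by
    by_contra hcard
    exact hdet (det_tuple_eq_zero _ _ hcard)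
  rw [det_tuple_eq _ _ hinj] at hdet
  have hnz : (A.submatrix (sortIdx d n _ hinj).1 id).det ≠ 0 := by
    have := right_ne_zero_of_mul hdet
    rwa [hsub, Matrix.det_mul, hgdet, mul_one] at this
  have hle := hmax (sortIdx d n _ hinj) (Finset.mem_filter.2 ⟨Finset.mem_univ _, hnz⟩)
  have hw : wt (sortIdx d n _ hinj) = ∑ s, (Function.update θ.1 t i s).val :=
    sum_sortIdx (fun v => v.val) _ hinj
  have hlt : wt θ < ∑ s, (Function.update θ.1 t i s).val := by
    refine Finset.sum_lt_sum (fun s _ => ?_) ⟨t, Finset.mem_univ _, ?_⟩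
    · rw [Function.update_apply]
      split_ifs with hs
      · subst hs; exact le_of_lt hti
      · exact le_rfl
    · rw [Function.update_self]; exact hti
  omega

/-- The generic matrix supported below `τ`. -/
noncomputable def triMat (K : Type u) [CommRing K] {d n : ℕ} (τ : Idx d n) :
    Matrix (Fin n) (Fin d) (MatRing K d n) :=
  Matrix.of fun i t => if i ≤ τ.1 t then X (i, t) else 0

/-- The comorphism of the generic matrix supported below `τ`. -/
noncomputable def triMap (K : Type u) [CommRing K] {d n : ℕ} (τ : Idx d n) :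
    PlRing K d n →ₐ[K] MatRing K d n :=
  evalMat (triMat K τ)

theorem triMat_of_lt (τ : Idx d n) (i : Fin n) (t : Fin d) (h : τ.1 t < i) :
    triMat K τ i t = 0 := by
  simp [triMat, not_le.2 h]

theorem triMap_X_eq_zero (τ θ : Idx d n) (h : ¬ θ ≤ τ) : triMap K τ (X θ) = 0 := by
  rw [triMap, evalMat_X]
  exact det_submatrix_eq_zero_of_support _ τ (triMat_of_lt τ) θ h

theorem triMap_X_ne_zero {τ θ : Idx d n} (h : θ ≤ τ) : triMap K τ (X θ) ≠ 0 := by
  intro h0
  have h1 := congrArg (aeval fun p : Fin n × Fin d => if p.1 = θ.1 p.2 then (1 : K) else 0) h0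
  rw [map_zero, triMap, comp_evalMat, evalMat_X] at h1
  refine one_ne_zero (α := K) ?_
  rw [← h1]
  refine (Matrix.det_one (n := Fin d)).symm.trans (congrArg Matrix.det ?_)
  ext s t
  simp only [Matrix.submatrix_apply, Matrix.map_apply, triMat, Matrix.of_apply, id_eq,
    Matrix.one_apply]
  by_cases hst : s = t
  · subst hst
    simp [h s]
  · have : θ.1 s ≠ θ.1 t := θ.2.injective.ne hst
    split_ifs <;> simp [this]

theorem mem_schubertVanishing_iff (τ : Idx d n) (P : PlRing K d n) :
    P ∈ schubertVanishing K d n τ ↔ ∀ A : Matrix (Fin n) (Fin d) K,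
      (∀ φ : Idx d n, ¬ φ ≤ τ → (A.submatrix φ.1 id).det = 0) → evalMinors K d n A P = 0 := by
  simp [schubertVanishing]

theorem schubertVanishing_eq_ker [Infinite K] (hd : 0 < d) (τ : Idx d n) :
    schubertVanishing K d n τ = RingHom.ker (triMap K τ) := by
  ext P
  rw [mem_schubertVanishing_iff, RingHom.mem_ker]
  constructor
  · intro h
    refine MvPolynomial.funext fun x => ?_
    rw [map_zero, ← MvPolynomial.coe_aeval_eq_eval, RingHom.coe_coe, triMap, comp_evalMat, ← evalMinors_eq]
    refine h _ fun φ hφ => det_submatrix_eq_zero_of_support _ τ (fun i t hit => ?_) φ hφ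
    simp [triMat_of_lt τ i t hit]
  · intro h A hA
    obtain ⟨E, hE, hEA⟩ := exists_tri hd τ A hA
    have h1 : evalMinors K d n A = evalMat E := by
      refine MvPolynomial.algHom_ext fun θ => ?_
      simp [evalMinors, hEA]
    have h2 : (triMat K τ).map (aeval fun p : Fin n × Fin d => E p.1 p.2) = E := by
      ext i t
      simp only [Matrix.map_apply, triMat, Matrix.of_apply]
      split_ifs with hit
      · simp
      · rw [map_zero, hE i t (not_le.1 hit)]
    rw [h1, ← h2, ← comp_evalMat, ← triMap, h, map_zero]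

theorem vanishing_eq_ker [Infinite K] :
    vanishing K d n = RingHom.ker (pluckerMap K d n) := by
  ext P
  simp only [vanishing, Ideal.mem_iInf, RingHom.mem_ker, AlgHom.toRingHom_eq_coe, RingHom.coe_coe]
  have hgen : pluckerMap K d n =
      evalMat (Matrix.of fun i t => (X (i, t) : MatRing K d n)) := rfl
  constructor
  · intro h
    refine MvPolynomial.funext fun x => ?_
    rw [map_zero, ← MvPolynomial.coe_aeval_eq_eval, RingHom.coe_coe, hgen, comp_evalMat, ← evalMinors_eq]
    exact h _
  · intro h A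
    have h2 : (Matrix.of fun i t => (X (i, t) : MatRing K d n)).map
        (aeval fun p : Fin n × Fin d => A p.1 p.2) = A := by
      ext i t; simp
    rw [evalMinors_eq, ← h2, ← comp_evalMat, ← hgen, h, map_zero]

theorem schubertVanishing_isPrime [Infinite K] (hd : 0 < d) (τ : Idx d n) :
    (schubertVanishing K d n τ).IsPrime := by
  rw [schubertVanishing_eq_ker hd]
  exact RingHom.ker_isPrime _

theorem X_mem_schubertVanishing {τ θ : Idx d n} (h : ¬ θ ≤ τ) :
    X θ ∈ schubertVanishing K d n τ := by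
  rw [mem_schubertVanishing_iff]
  intro A hA
  rw [evalMinors_eq, evalMat_X]
  exact hA θ h

theorem X_mem_schubertVanishing_iff [Infinite K] (hd : 0 < d) {τ θ : Idx d n} :
    X θ ∈ schubertVanishing K d n τ ↔ ¬ θ ≤ τ := by
  refine ⟨fun h hle => ?_, X_mem_schubertVanishing⟩
  rw [schubertVanishing_eq_ker hd, RingHom.mem_ker] at h
  exact triMap_X_ne_zero hle h

theorem plIdealTop_le_vanishing : plIdealTop K ≤ vanishing K d n := by
  refine Ideal.span_le.2 ?_
  rintro f ⟨i, j, r, -, rfl⟩
  simp only [vanishing, SetLike.mem_coe, Ideal.mem_iInf, RingHom.mem_ker, AlgHom.toRingHom_eq_coe,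
    RingHom.coe_coe]
  exact fun A => by rw [evalMinors_eq]; exact evalMat_shuffleRel A i j r

theorem vanishing_le_schubertVanishing (τ : Idx d n) :
    vanishing K d n ≤ schubertVanishing K d n τ :=
  le_iInf fun A => le_iInf fun _ => iInf_le _ A

theorem schubertVanishing_mono {τ' τ : Idx d n} (h : τ' ≤ τ) :
    schubertVanishing K d n τ ≤ schubertVanishing K d n τ' := by
  intro P hP
  rw [mem_schubertVanishing_iff] at hP ⊢
  exact fun A hA => hP A fun φ hφ => hA φ fun hle => hφ (hle.trans h)

theorem mon_mem_of_mem {I : Ideal (PlRing K d n)} {θ : Idx d n} (hI : X θ ∈ I)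
    {s : Multiset (Idx d n)} (hs : θ ∈ s) : mon K s ∈ I := by
  obtain ⟨s', rfl⟩ := Multiset.exists_cons_of_mem hs
  rw [mon_cons]
  exact Ideal.mul_mem_right _ _ hI

/-- Standard multisets below `τ`. -/
def StdBelow (τ : Idx d n) (s : Multiset (Idx d n)) : Prop := IsStd s ∧ ∀ θ ∈ s, θ ≤ τ

theorem IsStd.exists_max {s : Multiset (Idx d n)} (hs : IsStd s) (hne : s ≠ 0) :
    ∃ m ∈ s, ∀ x ∈ s, x ≤ m := by
  classical
  obtain ⟨m, hm⟩ := s.toFinset.exists_maximal (Multiset.toFinset_nonempty.2 hne)
  have hms : m ∈ s := Multiset.mem_toFinset.1 hm.prop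
  refine ⟨m, hms, fun x hx => ?_⟩
  rcases hs x hx m hms with h | h
  · exact h
  · exact hm.le_of_ge (Multiset.mem_toFinset.2 hx) h

theorem IsStd.mono {s t : Multiset (Idx d n)} (hs : IsStd s) (h : t ≤ s) : IsStd t :=
  fun a ha b hb => hs a (Multiset.mem_of_le h ha) b (Multiset.mem_of_le h hb)

/-- Independence of the standard monomials below `τ` on the cone over X(τ). -/
theorem triMap_mon_indep (hd : 0 < d) (τ : Idx d n) (S : Finset (Multiset (Idx d n)))
    (c : Multiset (Idx d n) → K) (hS : ∀ s ∈ S, StdBelow τ s)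
    (h : triMap K τ (∑ s ∈ S, c s • mon K s) = 0) : ∀ s ∈ S, c s = 0 := by
  classical
  induction τ using WellFoundedLT.induction generalizing S c with
  | _ τ ih =>
    suffices H : ∀ N, ∀ (S : Finset (Multiset (Idx d n))) (c : Multiset (Idx d n) → K),
        (∀ s ∈ S, StdBelow τ s ∧ s.card < N) →
        triMap K τ (∑ s ∈ S, c s • mon K s) = 0 → ∀ s ∈ S, c s = 0 from
      H (S.sup Multiset.card + 1) S c
        (fun s hs => ⟨hS s hs, Nat.lt_succ_of_le (Finset.le_sup hs)⟩) h
    intro N
    induction N with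
    | zero => intro S c hS _ s hs; exact absurd (hS s hs).2 (Nat.not_lt_zero _)
    | succ N ihN =>
      intro S c hS h
      have hsmall : ∀ τ' < τ, ∀ s ∈ S, (∀ θ ∈ s, θ ≤ τ') → c s = 0 := by
        intro τ' hτ' s hs hsτ'
        let ρ : MatRing K d n →ₐ[K] MatRing K d n :=
          aeval fun p => if p.1 ≤ τ'.1 p.2 then X p else 0
        have hρmat : (triMat K τ).map ρ = triMat K τ' := by
          ext i t : 2
          simp only [Matrix.map_apply, triMat, Matrix.of_apply]
          by_cases hit : i ≤ τ.1 t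
          · rw [if_pos hit]; simp [ρ]
          · rw [if_neg hit, map_zero, if_neg fun h' => hit (h'.trans (hτ'.le t))]
        have hρ : ∀ P, ρ (triMap K τ P) = triMap K τ' P := fun P => by
          rw [triMap, comp_evalMat, hρmat]; rfl
        refine ih τ' hτ' (S.filter fun s => ∀ θ ∈ s, θ ≤ τ') c ?_ ?_ s
          (Finset.mem_filter.2 ⟨hs, hsτ'⟩)
        · intro s hs
          exact ⟨(hS s (Finset.mem_filter.1 hs).1).1.1, (Finset.mem_filter.1 hs).2⟩
        · have h' := congrArg ρ h
          rw [hρ, map_zero, map_sum] at h'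
          rw [map_sum, Finset.sum_filter]
          refine Eq.trans (Finset.sum_congr rfl fun s _ => ?_) h'
          split_ifs with hle
          · rfl
          · push Not at hle
            obtain ⟨θ, hθ, hθ'⟩ := hle
            obtain ⟨s', rfl⟩ := Multiset.exists_cons_of_mem hθ
            rw [map_smul, mon_cons, map_mul, triMap_X_eq_zero τ' θ hθ', zero_mul, smul_zero]
      have hzero : ∀ s ∈ S, s = 0 → c s = 0 := by
        intro s hs hs0
        have h' := congrArg (constantCoeff (R := K) (σ := Fin n × Fin d)) h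
        rw [map_zero, map_sum, map_sum, Finset.sum_eq_single s] at h'
        · subst hs0
          simpa [constantCoeff_smul, smul_eq_mul] using h'
        · intro b _ hb
          obtain ⟨θ, hθ⟩ := Multiset.exists_mem_of_ne_zero (hs0 ▸ hb)
          obtain ⟨b', rfl⟩ := Multiset.exists_cons_of_mem hθ
          have h0 : constantCoeff (triMap K τ (X θ)) = 0 := by
            rw [triMap, evalMat_X, RingHom.map_det]
            refine Matrix.det_eq_zero_of_row_eq_zero ⟨0, hd⟩ fun j => ?_
            simp only [RingHom.mapMatrix_apply, Matrix.map_apply, Matrix.submatrix_apply, triMat,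
              Matrix.of_apply, id_eq]
            split_ifs <;> simp
          rw [map_smul, constantCoeff_smul, mon_cons, map_mul, map_mul, h0, zero_mul, smul_zero]
        · exact fun hn => absurd hs hn
      intro s hs
      by_contra hcs
      have htop : ∀ s ∈ S, c s ≠ 0 → τ ∈ s := by
        intro s hs hcs
        obtain ⟨m, hm, hmax⟩ := (hS s hs).1.1.exists_max fun h0 => hcs (hzero s hs h0)
        rcases eq_or_lt_of_le ((hS s hs).1.2 m hm) with h | h
        · exact h ▸ hm
        · exact absurd (hsmall m h s hs hmax) hcs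
      set S' := (S.filter fun s => c s ≠ 0).image fun s => s.erase τ with hS'
      have hinj : ∀ a ∈ S.filter (fun s => c s ≠ 0), ∀ b ∈ S.filter (fun s => c s ≠ 0),
          a.erase τ = b.erase τ → a = b := by
        intro a ha b hb hab
        rw [Finset.mem_filter] at ha hb
        rw [← Multiset.cons_erase (htop a ha.1 ha.2), ← Multiset.cons_erase (htop b hb.1 hb.2), hab]
      have hsum : ∑ s ∈ S, c s • mon K s = X τ * ∑ t ∈ S', c (τ ::ₘ t) • mon K t := by
        rw [hS', Finset.sum_image hinj, Finset.mul_sum, Finset.sum_filter]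
        refine Finset.sum_congr rfl fun s hs => ?_
        split_ifs with hcs
        · rw [Multiset.cons_erase (htop s hs hcs), mul_smul_comm, ← mon_cons,
            Multiset.cons_erase (htop s hs hcs)]
        · rw [not_not.1 hcs, zero_smul]
      rw [hsum, map_mul] at h
      have h' := (mul_eq_zero.1 h).resolve_left (triMap_X_ne_zero le_rfl)
      have hfil : s ∈ S.filter (fun s => c s ≠ 0) := Finset.mem_filter.2 ⟨hs, hcs⟩
      have h0 := ihN S' (fun t => c (τ ::ₘ t)) ?_ h' (s.erase τ) (Finset.mem_image_of_mem _ hfil)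
      · simp only [Multiset.cons_erase (htop s hs hcs)] at h0
        exact hcs h0
      · intro t ht
        obtain ⟨s, hs, rfl⟩ := Finset.mem_image.1 ht
        rw [Finset.mem_filter] at hs
        refine ⟨⟨(hS s hs.1).1.1.mono (Multiset.erase_le _ _),
          fun θ hθ => (hS s hs.1).1.2 θ (Multiset.mem_of_mem_erase hθ)⟩, ?_⟩
        have := (hS s hs.1).2
        have := Multiset.card_erase_add_one (htop s hs.1 hs.2)
        omega

/-- The standard monomials satisfying `U`. -/
noncomputable def stdSpan (K : Type u) [CommRing K] {d n : ℕ} (U : Multiset (Idx d n) → Prop) :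
    Submodule K (PlRing K d n) :=
  Submodule.span K {f | ∃ s, IsStd s ∧ U s ∧ f = mon K s}

theorem mon_mem_stdSpan {U : Multiset (Idx d n) → Prop} {s : Multiset (Idx d n)} (hs : IsStd s)
    (hU : U s) : mon K s ∈ stdSpan K U :=
  Submodule.subset_span ⟨s, hs, hU, rfl⟩

theorem exists_sum_of_mem_stdSpan {U : Multiset (Idx d n) → Prop} {P : PlRing K d n}
    (h : P ∈ stdSpan K U) : ∃ (S : Finset (Multiset (Idx d n))) (c : Multiset (Idx d n) → K),
      (∀ s ∈ S, IsStd s ∧ U s) ∧ P = ∑ s ∈ S, c s • mon K s := by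
  have h' : P ∈ Submodule.span K (mon K '' {s | IsStd s ∧ U s}) := by
    refine Submodule.span_mono ?_ h
    rintro _ ⟨s, h1, h2, rfl⟩
    exact ⟨s, ⟨h1, h2⟩, rfl⟩
  obtain ⟨l, hl, rfl⟩ := Finsupp.mem_span_image_iff_linearCombination K |>.1 h'
  exact ⟨l.support, l, fun s hs => hl hs, by rw [Finsupp.linearCombination_apply]; rfl⟩

theorem mem_stdSpan_sup (I : Ideal (PlRing K d n)) (hI : plIdealTop K ≤ I) (P : PlRing K d n) :
    P ∈ stdSpan K (fun _ => True) ⊔ I.restrictScalars K := by
  refine (Submodule.span_le.2 ?_ : _ ≤ _) (mem_span_mons P)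
  rintro _ ⟨s, rfl⟩
  refine SetLike.le_def.1 (sup_le_sup_right (Submodule.span_mono ?_) _)
    (straighten I (fun i j r hr => hI (Ideal.subset_span ⟨i, j, r, hr, rfl⟩)) s)
  rintro _ ⟨t, ht, rfl⟩
  exact ⟨t, ht.1, trivial, rfl⟩

theorem coeff_eq_zero_of_mem [Infinite K] (hd : 0 < d) {τ : Idx d n}
    {S : Finset (Multiset (Idx d n))} {c : Multiset (Idx d n) → K} (hS : ∀ s ∈ S, IsStd s)
    (h : ∑ s ∈ S, c s • mon K s ∈ schubertVanishing K d n τ) :
    ∀ s ∈ S, (∀ θ ∈ s, θ ≤ τ) → c s = 0 := by
  classical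
  intro s hs hle
  rw [schubertVanishing_eq_ker hd, RingHom.mem_ker] at h
  refine triMap_mon_indep hd τ (S.filter fun s => ∀ θ ∈ s, θ ≤ τ) c
    (fun s hs => ⟨hS s (Finset.mem_filter.1 hs).1, (Finset.mem_filter.1 hs).2⟩) ?_ s
    (Finset.mem_filter.2 ⟨hs, hle⟩)
  rw [map_sum] at h
  rw [map_sum, Finset.sum_filter]
  refine Eq.trans (Finset.sum_congr rfl fun s _ => ?_) h
  split_ifs with hle
  · rfl
  · push Not at hle
    obtain ⟨θ, hθ, hθ'⟩ := hle
    obtain ⟨s', rfl⟩ := Multiset.exists_cons_of_mem hθ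
    rw [map_smul, mon_cons, map_mul, triMap_X_eq_zero τ θ hθ', zero_mul, smul_zero]

/-- Elements of the homogeneous ideal of a union of Schubert varieties. -/
theorem mem_iInf_schubert [Infinite K] (hd : 0 < d) (T : Set (Idx d n)) {P : PlRing K d n}
    (hP : ∀ τ ∈ T, P ∈ schubertVanishing K d n τ) :
    P ∈ stdSpan K (fun s => ∀ τ ∈ T, ∃ θ ∈ s, ¬ θ ≤ τ) ⊔ (plIdealTop K).restrictScalars K := by
  classical
  obtain ⟨y, hy, z, hz, rfl⟩ := Submodule.mem_sup.1 (mem_stdSpan_sup (plIdealTop K) le_rfl P)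
  refine add_mem (Submodule.mem_sup_left ?_) (Submodule.mem_sup_right hz)
  obtain ⟨S, c, hS, rfl⟩ := exists_sum_of_mem_stdSpan hy
  refine Submodule.sum_mem _ fun s hs => ?_
  by_cases hcs : c s = 0
  · rw [hcs, zero_smul]; exact Submodule.zero_mem _
  refine Submodule.smul_mem _ _ (mon_mem_stdSpan (hS s hs).1 fun τ hτ => ?_)
  by_contra hle
  push Not at hle
  refine hcs (coeff_eq_zero_of_mem hd (fun s hs => (hS s hs).1) ?_ s hs hle)
  have hzmem : z ∈ schubertVanishing K d n τ :=
    vanishing_le_schubertVanishing τ (plIdealTop_le_vanishing hz)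
  exact ((schubertVanishing K d n τ).add_mem_iff_left hzmem).1 (hP τ hτ)

theorem plIdeal_le_schubertVanishing (τ : Idx d n) :
    plIdeal K τ ≤ schubertVanishing K d n τ := by
  refine Ideal.span_le.2 ?_
  rintro f (⟨i, j, r, hr, rfl⟩ | ⟨φ, hφ, rfl⟩)
  · exact vanishing_le_schubertVanishing τ
      (plIdealTop_le_vanishing (Ideal.subset_span ⟨i, j, r, hr, rfl⟩))
  · exact X_mem_schubertVanishing hφ

theorem plIdealTop_le_plIdeal (τ : Idx d n) : plIdealTop K ≤ plIdeal K τ :=
  Ideal.span_mono Set.subset_union_left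

theorem plIdeal_eq [Infinite K] (hd : 0 < d) (τ : Idx d n) :
    plIdeal K τ = schubertVanishing K d n τ := by
  refine le_antisymm (plIdeal_le_schubertVanishing τ) fun P hP => ?_
  obtain ⟨y, hy, z, hz, rfl⟩ := Submodule.mem_sup.1
    (mem_iInf_schubert hd {τ} (P := P) fun x hx => by rw [Set.mem_singleton_iff.1 hx]; exact hP)
  refine add_mem ?_ (plIdealTop_le_plIdeal τ hz)
  refine (Submodule.span_le.2 ?_ : stdSpan K _ ≤ (plIdeal K τ).restrictScalars K) hy
  rintro _ ⟨s, -, hU, rfl⟩
  obtain ⟨θ, hθ, hθτ⟩ := hU τ rfl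
  exact mon_mem_of_mem (Ideal.subset_span (Or.inr ⟨θ, hθτ, rfl⟩)) hθ

end GrassLib
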