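import Groth.Agent.GrassLib.Basic

/-!
The shuffle relations vanish at the minors of every matrix over every commutative ring.
-/

universe u v

open MvPolynomial Equiv Matrix
open scoped TensorProduct

namespace GrassLib

open W4bk4grassmannian

variable {d n : ℕ}

/-- The reference identification of `Fin (r + 1) ⊕ Fin (d - r)` with `Fin (d + 1)`. -/
def shuffleRef (r : Fin d) : Fin (r.val + 1) ⊕ Fin (d - r.val) ≃ Fin (d + 1) :=
  finSumFinEquiv.trans (finCongr (by have := r.isLt; omega))

@[simp] theorem shuffleRef_inl (r : Fin d) (s : Fin (r.val + 1)) :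
    (shuffleRef r (Sum.inl s)).val = s.val := by
  simp [shuffleRef]

@[simp] theorem shuffleRef_inr (r : Fin d) (t : Fin (d - r.val)) :
    (shuffleRef r (Sum.inr t)).val = r.val + 1 + t.val := by
  simp [shuffleRef]

theorem card_compl_of_card (r : Fin d) {A : Finset (Fin (d + 1))} (hA : A.card = r.val + 1) :
    Aᶜ.card = d - r.val := by
  rw [Finset.card_compl, hA, Fintype.card_fin]; omega

/-- The permutation listing `A` increasingly first, then its complement. -/
def shufflePerm (r : Fin d) (A : Finset (Fin (d + 1))) (hA : A.card = r.val + 1) :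
    Equiv.Perm (Fin (r.val + 1) ⊕ Fin (d - r.val)) :=
  (finSumEquivOfFinset hA (card_compl_of_card r hA)).trans (shuffleRef r).symm

theorem sign_shufflePerm (r : Fin d) (A : Finset (Fin (d + 1))) (hA : A.card = r.val + 1) :
    Equiv.Perm.sign (shufflePerm r A hA) = (-1 : ℤˣ) ^ shuffleSign r A := by
  set e := finSumEquivOfFinset hA (card_compl_of_card r hA) with he
  have h0 : Equiv.Perm.sign (shufflePerm r A hA) =
      Equiv.Perm.sign ((shuffleRef r).symm.trans e) := by
    have h := Equiv.Perm.sign_symm_trans_trans (shufflePerm r A hA) (shuffleRef r)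
    rw [← h, shufflePerm]
    congr 1
    ext x
    simp [he]
  rw [h0, sign_eq_pow_inv]
  congr 1
  set π := (shuffleRef r).symm.trans e with hπ
  have hl : ∀ s, π (shuffleRef r (Sum.inl s)) = A.orderEmbOfFin hA s := by
    intro s; simp [hπ, he]
  have hr : ∀ t, π (shuffleRef r (Sum.inr t)) =
      Aᶜ.orderEmbOfFin (card_compl_of_card r hA) t := by
    intro t; simp [hπ, he]
  have hin : ∀ (s : Fin (r.val + 1)) (t : Fin (d + 1)),
      (shuffleRef r (Sum.inl s) < t ∧ π t < π (shuffleRef r (Sum.inl s))) ↔
        (π t ∉ A ∧ π t < π (shuffleRef r (Sum.inl s))) := by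
    intro s t
    obtain ⟨x, rfl⟩ := (shuffleRef r).surjective t
    rcases x with s' | t'
    · rw [hl, hl]
      refine ⟨fun h => ?_, fun h => absurd (Finset.orderEmbOfFin_mem A hA s') h.1⟩
      have h1 : s' < s := (A.orderEmbOfFin hA).lt_iff_lt.1 h.2
      have h2 : s < s' := by
        have := h.1
        rw [Fin.lt_def, shuffleRef_inl, shuffleRef_inl] at this
        exact this
      exact absurd h1 (lt_asymm h2)
    · rw [hr]
      refine and_congr_left fun _ => iff_of_true ?_ ?_
      · rw [Fin.lt_def, shuffleRef_inl, shuffleRef_inr]; omega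
      · exact Finset.mem_compl.1 (Finset.orderEmbOfFin_mem Aᶜ _ t')
  have hout : ∀ (t' : Fin (d - r.val)) (t : Fin (d + 1)),
      ¬ (shuffleRef r (Sum.inr t') < t ∧ π t < π (shuffleRef r (Sum.inr t'))) := by
    intro t' t
    obtain ⟨x, rfl⟩ := (shuffleRef r).surjective t
    rcases x with s | t''
    · intro h
      have := h.1
      rw [Fin.lt_def, shuffleRef_inl, shuffleRef_inr] at this
      omega
    · rw [hr, hr, (Aᶜ.orderEmbOfFin _).lt_iff_lt, Fin.lt_def, shuffleRef_inr, shuffleRef_inr,
        Fin.lt_def]
      omega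
  have hcount : ∀ s : Fin (r.val + 1),
      (Finset.univ.filter fun t : Fin (d + 1) =>
          shuffleRef r (Sum.inl s) < t ∧ π t < π (shuffleRef r (Sum.inl s))).card + s.val =
        (A.orderEmbOfFin hA s).val := by
    intro s
    rw [Finset.filter_congr fun t _ => hin s t, hl]
    have h1 : (Finset.univ.filter fun t : Fin (d + 1) =>
          π t ∉ A ∧ π t < A.orderEmbOfFin hA s).card =
        ((Finset.Iio (A.orderEmbOfFin hA s)).filter fun b => b ∉ A).card := by
      refine Finset.card_equiv π fun t => ?_
      simp [and_comm]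
    have h2 : ((Finset.Iio (A.orderEmbOfFin hA s)).filter fun b => b ∈ A) =
        (Finset.Iio s).map (A.orderEmbOfFin hA).toEmbedding := by
      ext b
      simp only [Finset.mem_filter, Finset.mem_Iio, Finset.mem_map, RelEmbedding.coe_toEmbedding]
      constructor
      · rintro ⟨hb, hbA⟩
        have hbr : b ∈ Set.range (A.orderEmbOfFin hA) := by
          rw [Finset.range_orderEmbOfFin]; exact hbA
        obtain ⟨s', rfl⟩ := hbr
        exact ⟨s', (A.orderEmbOfFin hA).lt_iff_lt.1 hb, rfl⟩
      · rintro ⟨s', hs', rfl⟩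
        exact ⟨(A.orderEmbOfFin hA).lt_iff_lt.2 hs', Finset.orderEmbOfFin_mem A hA s'⟩
    have h3 := Finset.card_filter_add_card_filter_not
      (s := Finset.Iio (A.orderEmbOfFin hA s)) (fun b => b ∈ A)
    rw [h2, Finset.card_map, Fin.card_Iio, Fin.card_Iio] at h3
    rw [h1]
    omega
  have hsplit : (Finset.univ.filter fun p : Fin (d + 1) × Fin (d + 1) =>
        p.1 < p.2 ∧ π p.2 < π p.1).card =
      ∑ s : Fin (r.val + 1), (Finset.univ.filter fun t : Fin (d + 1) =>
          shuffleRef r (Sum.inl s) < t ∧ π t < π (shuffleRef r (Sum.inl s))).card := by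
    rw [Finset.card_filter, Fintype.sum_prod_type]
    rw [← (shuffleRef r).sum_comp, Fintype.sum_sum_type]
    have hz : ∀ t' : Fin (d - r.val), (∑ t : Fin (d + 1),
        if shuffleRef r (Sum.inr t') < t ∧ π t < π (shuffleRef r (Sum.inr t')) then 1 else 0) = 0 :=
      fun t' => Finset.sum_eq_zero fun t _ => if_neg (hout t' t)
    rw [Finset.sum_eq_zero fun t' _ => hz t', add_zero]
    exact Finset.sum_congr rfl fun s _ => (Finset.card_filter _ _).symm
  have hA' : (A.sum fun a => a.val) = ∑ s : Fin (r.val + 1), (A.orderEmbOfFin hA s).val := by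
    conv_lhs => rw [← Finset.map_orderEmbOfFin_univ A hA, Finset.sum_map]
    rfl
  have hs : ∑ s : Fin (r.val + 1), s.val = r.val * (r.val + 1) / 2 := by
    rw [Fin.sum_univ_eq_sum_range (fun x => x), Finset.sum_range_id, Nat.add_sub_cancel,
      Nat.mul_comm]
  rw [hsplit, shuffleSign, hA', ← hs, ← Finset.sum_congr rfl fun s _ => hcount s,
    Finset.sum_add_distrib, Nat.add_sub_cancel]

variable {K : Type u} [CommRing K] {R : Type v} [CommRing R] [Algebra K R]

theorem movingRows_first (i j : Idx d n) (r : Fin d) (k : Fin (d + 1)) (h : k.val ≤ r.val) :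
    movingRows i j r k = i.1 ⟨k.val, lt_of_le_of_lt h r.isLt⟩ := by
  rw [movingRows, dif_pos h]

/-- The places of `i` receiving moving rows. -/
def frontPos (r : Fin d) (s : Fin (r.val + 1)) : Fin d :=
  ⟨s.val, by have := s.isLt; have := r.isLt; omega⟩

/-- The places of `j` receiving moving rows. -/
def backPos (r : Fin d) (t : Fin (d - r.val)) : Fin d :=
  ⟨r.val + t.val, by have := t.isLt; omega⟩

theorem frontPos_injective (r : Fin d) : Function.Injective (frontPos r) := fun a b h => by
  simpa [frontPos, Fin.ext_iff] using h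

theorem backPos_injective (r : Fin d) : Function.Injective (backPos r) := fun a b h => by
  simpa [backPos, Fin.ext_iff] using h

theorem extend_front {γ : Type*} (g : Fin n → γ) (i j : Idx d n) (r : Fin d)
    (A : Finset (Fin (d + 1))) (hA : A.card = r.val + 1) (t : Fin d) :
    Function.extend (frontPos r) (fun s => g (movingRows i j r (A.orderEmbOfFin hA s)))
      (fun t => g (i.1 t)) t = g (shuffleI i j r A hA t) := by
  by_cases h : t.val ≤ r.val
  · rw [show shuffleI i j r A hA t =
        movingRows i j r (A.orderEmbOfFin hA ⟨t.val, by omega⟩) by rw [shuffleI, dif_pos h]]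
    conv_lhs => rw [show t = frontPos r ⟨t.val, by omega⟩ from Fin.ext rfl]
    rw [(frontPos_injective r).extend_apply]
  · rw [show shuffleI i j r A hA t = i.1 t by rw [shuffleI, dif_neg h], Function.extend_apply']
    rintro ⟨s, rfl⟩
    exact h (by have := s.isLt; simp only [frontPos]; omega)

theorem extend_back {γ : Type*} (g : Fin n → γ) (i j : Idx d n) (r : Fin d)
    (A : Finset (Fin (d + 1))) (hA : A.card = r.val + 1) (t : Fin d) :
    Function.extend (backPos r)
      (fun s => g (movingRows i j r (Aᶜ.orderEmbOfFin (card_compl_of_card r hA) s)))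
      (fun t => g (j.1 t)) t = g (shuffleJ i j r A hA t) := by
  by_cases h : t.val < r.val
  · rw [show shuffleJ i j r A hA t = j.1 t by simp only [shuffleJ, dif_pos h],
      Function.extend_apply']
    rintro ⟨s, rfl⟩
    simp only [backPos] at h
    omega
  · rw [show shuffleJ i j r A hA t = movingRows i j r (Aᶜ.orderEmbOfFin (card_compl_of_card r hA)
        ⟨t.val - r.val, by have := t.isLt; omega⟩) by simp only [shuffleJ, dif_neg h]]
    conv_lhs => rw [show t = backPos r ⟨t.val - r.val, by have := t.isLt; omega⟩ from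
      Fin.ext (by simp only [backPos]; omega)]
    rw [(backPos_injective r).extend_apply]

/-- The shuffle relations vanish at the minors of every matrix. -/
theorem evalMat_shuffleRel (B : Matrix (Fin n) (Fin d) R) (i j : Idx d n) (r : Fin d) :
    evalMat (K := K) B (shuffleRel K i j r) = 0 := by
  classical
  let a := fixRows (frontPos r) (frontPos_injective r) (fun t => B (i.1 t))
  let b := fixRows (backPos r) (backPos_injective r) (fun t => B (j.1 t))
  let D : (Fin d → R) [⋀^Fin (r.val + 1) ⊕ Fin (d - r.val)]→ₗ[R] R :=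
    (LinearMap.mul' R R).compAlternatingMap (AlternatingMap.domCoprod a b)
  have hD : D = 0 := by
    have h0 : D.domDomCongr (shuffleRef r) = 0 := alternating_eq_zero_of_lt (Nat.lt_succ_self d) _
    ext w
    have := DFunLike.congr_fun h0 (w ∘ (shuffleRef r).symm)
    simpa [Function.comp_def] using this
  let w : Fin (r.val + 1) ⊕ Fin (d - r.val) → Fin d → R :=
    fun x => B (movingRows i j r (shuffleRef r x))
  have hDw : D w = ∑ σ : Equiv.Perm.ModSumCongr (Fin (r.val + 1)) (Fin (d - r.val)),
      LinearMap.mul' R R (AlternatingMap.domCoprod.summand a b σ w) := by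
    simp only [D, LinearMap.compAlternatingMap_apply, AlternatingMap.domCoprod_apply,
      _root_.sum_apply, map_sum]
  have hfilter : evalMat (K := K) B (shuffleRel K i j r) =
      ∑ A ∈ Finset.univ.filter (fun A : Finset (Fin (d + 1)) => A.card = r.val + 1),
        evalMat (K := K) B (shuffleTerm K i j r A) := by
    rw [shuffleRel, map_sum, Finset.sum_filter]
    refine Finset.sum_congr rfl fun A _ => ?_
    split_ifs with h
    · rfl
    · rw [shuffleTerm, dif_neg h, map_zero]
  rw [hfilter]
  have h0 : D w = 0 := by rw [hD]; rfl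
  rw [← h0, hDw]
  refine Finset.sum_bij (fun A hA => Quotient.mk'' (shufflePerm r A (Finset.mem_filter.1 hA).2))
    (fun A hA => Finset.mem_univ _) ?_ ?_ ?_
  · intro A hA A' hA' heq
    have h1 := (Finset.mem_filter.1 hA).2
    have h1' := (Finset.mem_filter.1 hA').2
    obtain ⟨⟨sl, sr⟩, hσ⟩ := QuotientGroup.leftRel_apply.1 (Quotient.exact' heq)
    ext x
    have hx : ∀ {A : Finset (Fin (d + 1))} (hA : A.card = r.val + 1),
        x ∈ A ↔ ∃ s, shufflePerm r A hA (Sum.inl s) = (shuffleRef r).symm x := by
      intro A hA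
      simp only [shufflePerm, Equiv.trans_apply, EmbeddingLike.apply_eq_iff_eq,
        finSumEquivOfFinset_inl]
      rw [← Set.mem_range, Finset.range_orderEmbOfFin, Finset.mem_coe]
    have hσ' : shufflePerm r A' h1' = shufflePerm r A h1 * Equiv.Perm.sumCongrHom _ _ (sl, sr) :=
      inv_mul_eq_iff_eq_mul.1 hσ.symm
    rw [hx h1, hx h1', hσ']
    constructor
    · rintro ⟨s, hs⟩
      exact ⟨sl⁻¹ s, by simpa [Equiv.Perm.sumCongrHom_apply] using hs⟩
    · rintro ⟨s, hs⟩
      exact ⟨sl s, by simpa [Equiv.Perm.sumCongrHom_apply] using hs⟩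
  · intro q _
    induction q using Quotient.inductionOn' with
    | _ σ =>
      let A : Finset (Fin (d + 1)) := Finset.univ.image fun s => shuffleRef r (σ (Sum.inl s))
      have hA : A.card = r.val + 1 := by
        rw [Finset.card_image_of_injective _ ?_, Finset.card_fin]
        exact (shuffleRef r).injective.comp (σ.injective.comp Sum.inl_injective)
      refine ⟨A, Finset.mem_filter.2 ⟨Finset.mem_univ _, hA⟩, Quotient.sound' ?_⟩
      rw [QuotientGroup.leftRel_apply]
      refine Equiv.Perm.mem_sumCongrHom_range_of_perm_mapsTo_inl ?_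
      rintro _ ⟨s, rfl⟩
      have hmem : shuffleRef r (σ (Sum.inl s)) ∈ A :=
        Finset.mem_image_of_mem _ (Finset.mem_univ s)
      rw [← Finset.mem_coe, ← Finset.range_orderEmbOfFin A hA] at hmem
      obtain ⟨s', hs'⟩ := hmem
      refine ⟨s', ?_⟩
      rw [Equiv.Perm.mul_apply, Equiv.Perm.eq_inv_iff_eq]
      simp [shufflePerm, hs']
  · intro A hA
    have h1 := (Finset.mem_filter.1 hA).2
    rw [shuffleTerm, dif_pos h1, AlternatingMap.domCoprod.summand_mk'', map_mul, map_mul,
      map_pow, map_neg, map_one, evalMat_coord, evalMat_coord]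
    simp only [_root_.smul_apply, MultilinearMap.domDomCongr_apply,
      MultilinearMap.domCoprod_apply, AlternatingMap.coe_multilinearMap, sign_shufflePerm,
      Units.smul_def]
    rw [map_zsmul, LinearMap.mul'_apply, zsmul_eq_mul]
    push_cast
    rw [mul_assoc]
    congr 1
    congr 1
    · simp only [a, fixRows_apply, w, shufflePerm, Equiv.trans_apply, Equiv.apply_symm_apply,
        finSumEquivOfFinset_inl]
      congr 1
      ext t k
      exact (congrFun (extend_front B i j r A h1 t) k).symm
    · simp only [b, fixRows_apply, w, shufflePerm, Equiv.trans_apply, Equiv.apply_symm_apply,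
        finSumEquivOfFinset_inr]
      congr 1
      ext t k
      exact (congrFun (extend_back B i j r A h1 t) k).symm

end GrassLib
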