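import Groth.Agent.GrassLib.Shuffle

/-!
The straightening law: monomials in the Plücker coordinates are combinations of standard monomials modulo the
shuffle relations.
-/

universe u

open MvPolynomial

namespace GrassLib

open W4bk4grassmannian

variable {K : Type u} [CommRing K] {d n : ℕ}

/-- The monomial of a multiset of indices. -/
noncomputable def mon (K : Type u) [CommRing K] {d n : ℕ} (s : Multiset (Idx d n)) : PlRing K d n :=
  (s.map fun θ => X θ).prod

@[simp] theorem mon_zero : mon K (0 : Multiset (Idx d n)) = 1 := by simp [mon]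

@[simp] theorem mon_cons (a : Idx d n) (s : Multiset (Idx d n)) :
    mon K (a ::ₘ s) = X a * mon K s := by simp [mon]

theorem mon_add (s t : Multiset (Idx d n)) : mon K (s + t) = mon K s * mon K t := by simp [mon]

/-- A multiset of indices is standard when it is a chain. -/
def IsStd (s : Multiset (Idx d n)) : Prop := ∀ a ∈ s, ∀ b ∈ s, a ≤ b ∨ b ≤ a

/-- The sum of the entries of an index. -/
def wt (θ : Idx d n) : ℕ := ∑ t, (θ.1 t).val

/-- The sum of the squares of the weights. -/
def sq (s : Multiset (Idx d n)) : ℕ := (s.map fun θ => wt θ ^ 2).sum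

/-- The multiset of rows of an index. -/
def rowsOf (θ : Idx d n) : Multiset (Fin n) := ∑ t, {θ.1 t}

/-- The multiset of all rows of a multiset of indices. -/
def content (s : Multiset (Idx d n)) : Multiset (Fin n) := (s.map rowsOf).sum

@[simp] theorem sq_cons (a : Idx d n) (s : Multiset (Idx d n)) :
    sq (a ::ₘ s) = wt a ^ 2 + sq s := by simp [sq]

@[simp] theorem content_cons (a : Idx d n) (s : Multiset (Idx d n)) :
    content (a ::ₘ s) = rowsOf a + content s := by simp [content]

theorem sum_sortIdx {M : Type*} [AddCommMonoid M] (f : Fin n → M) (a : Fin d → Fin n)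
    (h : (Finset.univ.image a).card = d) :
    ∑ t, f ((sortIdx d n a h).1 t) = ∑ t, f (a t) := by
  rw [← Equiv.sum_comp (sortPerm a h)]
  exact Finset.sum_congr rfl fun t _ => by rw [sortIdx_sortPerm]

theorem coord_idx (i : Idx d n) : coord K d n i.1 = X i := by
  have h : (Finset.univ.image i.1).card = d := (image_card_iff_injective _).2 i.2.injective
  have h0 : invCount d n i.1 = 0 := by
    rw [invCount, Finset.card_eq_zero, Finset.filter_eq_empty_iff]
    exact fun p _ hp => lt_asymm (i.2 hp.1) hp.2
  have h1 : sortIdx d n i.1 h = i :=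
    Subtype.ext (Finset.orderEmbOfFin_unique h
      (fun t => Finset.mem_image_of_mem _ (Finset.mem_univ t)) i.2).symm
  rw [coord, dif_pos h, h0, h1, pow_zero, one_mul]

theorem coord_mem_span (a : Fin d → Fin n) :
    coord K d n a ∈ Submodule.span K {f : PlRing K d n | ∃ θ : Idx d n,
      (∀ {M : Type} [AddCommMonoid M] (f : Fin n → M), ∑ t, f (θ.1 t) = ∑ t, f (a t)) ∧ f = X θ} := by
  unfold coord
  split_ifs with h
  · have hX : (X (sortIdx d n a h) : PlRing K d n) ∈ Submodule.span K {f : PlRing K d n |
        ∃ θ : Idx d n, (∀ {M : Type} [AddCommMonoid M] (f : Fin n → M),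
          ∑ t, f (θ.1 t) = ∑ t, f (a t)) ∧ f = X θ} :=
      Submodule.subset_span ⟨_, fun f => sum_sortIdx f a h, rfl⟩
    rcases Nat.even_or_odd (invCount d n a) with he | he
    · rw [he.neg_one_pow, one_mul]; exact hX
    · rw [he.neg_one_pow, neg_one_mul]; exact Submodule.neg_mem _ hX
  · exact Submodule.zero_mem _

section Pair

variable (i j : Idx d n) (r : Fin d)

/-- The identity shuffle. -/
def baseSet : Finset (Fin (d + 1)) := Finset.Iic ⟨r.val, by have := r.isLt; omega⟩

theorem baseSet_card : (baseSet r).card = r.val + 1 := by simp [baseSet]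

theorem baseSet_emb (s : Fin (r.val + 1)) :
    ((baseSet r).orderEmbOfFin (baseSet_card r) s).val = s.val := by
  have h := Finset.orderEmbOfFin_unique (baseSet_card r)
    (f := fun s : Fin (r.val + 1) => (⟨s.val, by have := s.isLt; have := r.isLt; omega⟩ : Fin (d + 1)))
    (fun x => Finset.mem_Iic.2 (Fin.le_def.2 (Nat.lt_succ_iff.1 x.isLt))) (fun a b hab => Fin.mk_lt_mk.2 (Fin.lt_def.1 hab))
  rw [← h]

theorem baseSet_compl_emb (t : Fin (d - r.val)) :
    ((baseSet r)ᶜ.orderEmbOfFin (card_compl_of_card r (baseSet_card r)) t).val =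
      r.val + 1 + t.val := by
  have h := Finset.orderEmbOfFin_unique (card_compl_of_card r (baseSet_card r))
    (f := fun t : Fin (d - r.val) => (⟨r.val + 1 + t.val, by have := t.isLt; omega⟩ : Fin (d + 1)))
    (fun x => Finset.mem_compl.2 fun hx => by
      have := Fin.le_def.1 (Finset.mem_Iic.1 hx); simp only at this; omega) (fun a b hab => Fin.mk_lt_mk.2 (Nat.add_lt_add_left (Fin.lt_def.1 hab) _))
  rw [← h]

theorem shuffleI_base : shuffleI i j r (baseSet r) (baseSet_card r) = i.1 := by
  funext t
  unfold shuffleI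
  split_ifs with h
  · rw [movingRows_first]
    · exact congrArg i.1 (Fin.ext (baseSet_emb r _))
    · rw [baseSet_emb]; exact h
  · rfl

theorem shuffleJ_base : shuffleJ i j r (baseSet r) (baseSet_card r) = j.1 := by
  funext t
  by_cases h : t.val < r.val
  · simp only [shuffleJ, dif_pos h]
  · simp only [shuffleJ, dif_neg h, movingRows]
    rw [dif_neg]
    · refine congrArg j.1 (Fin.ext ?_)
      show _ - 1 = t.val
      rw [baseSet_compl_emb]
      simp only
      omega
    · rw [baseSet_compl_emb]
      omega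

theorem shuffleSign_base : shuffleSign r (baseSet r) = 0 := by
  have h : ((baseSet r).sum fun a => a.val) = ∑ s : Fin (r.val + 1), s.val := by
    conv_lhs => rw [← Finset.map_orderEmbOfFin_univ _ (baseSet_card r), Finset.sum_map]
    exact Finset.sum_congr rfl fun s _ => baseSet_emb r s
  rw [shuffleSign, h, Fin.sum_univ_eq_sum_range (fun x => x), Finset.sum_range_id,
    Nat.add_sub_cancel, Nat.mul_comm, Nat.sub_self]

theorem shuffleTerm_base : shuffleTerm K i j r (baseSet r) = X i * X j := by
  rw [shuffleTerm, dif_pos (baseSet_card r), shuffleSign_base, shuffleI_base, shuffleJ_base,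
    coord_idx, coord_idx, pow_zero, one_mul]

theorem sum_shuffleI {M : Type*} [AddCommMonoid M] (f : Fin n → M) (A : Finset (Fin (d + 1)))
    (hA : A.card = r.val + 1) :
    ∑ t, f (shuffleI i j r A hA t) =
      ∑ s, f (movingRows i j r (A.orderEmbOfFin hA s)) +
        ∑ t ∈ Finset.univ.filter (fun t : Fin d => ¬ t.val ≤ r.val), f (i.1 t) := by
  rw [← Finset.sum_filter_add_sum_filter_not Finset.univ (fun t : Fin d => t.val ≤ r.val)]
  congr 1
  · refine (Finset.sum_bij (fun s _ => frontPos r s) ?_ ?_ ?_ ?_).symm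
    · intro s _; simp only [Finset.mem_filter, Finset.mem_univ, true_and, frontPos]; omega
    · exact fun a _ b _ h => frontPos_injective r h
    · intro t ht
      exact ⟨⟨t.val, Nat.lt_succ_of_le (Finset.mem_filter.1 ht).2⟩, Finset.mem_univ _, rfl⟩
    · intro s _
      have hs : (frontPos r s).val ≤ r.val := by simp only [frontPos]; omega
      rw [shuffleI, dif_pos hs]
      rfl
  · refine Finset.sum_congr rfl fun t ht => ?_
    rw [shuffleI, dif_neg (Finset.mem_filter.1 ht).2]

theorem sum_shuffleJ {M : Type*} [AddCommMonoid M] (f : Fin n → M) (A : Finset (Fin (d + 1)))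
    (hA : A.card = r.val + 1) :
    ∑ t, f (shuffleJ i j r A hA t) =
      ∑ u, f (movingRows i j r (Aᶜ.orderEmbOfFin (card_compl_of_card r hA) u)) +
        ∑ t ∈ Finset.univ.filter (fun t : Fin d => t.val < r.val), f (j.1 t) := by
  rw [← Finset.sum_filter_add_sum_filter_not Finset.univ (fun t : Fin d => ¬ t.val < r.val)]
  congr 1
  · refine (Finset.sum_bij (fun s _ => backPos r s) ?_ ?_ ?_ ?_).symm
    · intro s _; simp only [Finset.mem_filter, Finset.mem_univ, true_and, backPos]; omega
    · exact fun a _ b _ h => backPos_injective r h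
    · intro t ht
      have ht' := (Finset.mem_filter.1 ht).2
      refine ⟨⟨t.val - r.val, by have := t.isLt; omega⟩, Finset.mem_univ _, Fin.ext ?_⟩
      simp only [backPos]
      omega
    · intro s _
      have hs : ¬ (backPos r s).val < r.val := by simp only [backPos]; omega
      simp only [shuffleJ, dif_neg hs]
      congr 1
      exact congrArg _ (congrArg _ (Fin.ext (by simp only [backPos]; omega)))
  · refine Finset.sum_congr ?_ fun t ht => ?_
    · simp only [not_not]
    · have ht' : t.val < r.val := by simpa using (Finset.mem_filter.1 ht).2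
      simp only [shuffleJ, dif_pos ht']

theorem sum_shuffle {M : Type*} [AddCommMonoid M] (f : Fin n → M) (A : Finset (Fin (d + 1)))
    (hA : A.card = r.val + 1) :
    ∑ t, f (shuffleI i j r A hA t) + ∑ t, f (shuffleJ i j r A hA t) =
      ∑ t, f (i.1 t) + ∑ t, f (j.1 t) := by
  have key : ∀ (A : Finset (Fin (d + 1))) (hA : A.card = r.val + 1),
      ∑ t, f (shuffleI i j r A hA t) + ∑ t, f (shuffleJ i j r A hA t) =
        (∑ k, f (movingRows i j r k)) +
          (∑ t ∈ Finset.univ.filter (fun t : Fin d => ¬ t.val ≤ r.val), f (i.1 t) +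
           ∑ t ∈ Finset.univ.filter (fun t : Fin d => t.val < r.val), f (j.1 t)) := by
    intro A hA
    rw [sum_shuffleI i j r f A hA, sum_shuffleJ i j r f A hA,
      ← (finSumEquivOfFinset hA (card_compl_of_card r hA)).sum_comp, Fintype.sum_sum_type]
    simp only [finSumEquivOfFinset_inl, finSumEquivOfFinset_inr]
    abel
  rw [key A hA, ← key (baseSet r) (baseSet_card r), shuffleI_base, shuffleJ_base]

variable {i j r}

theorem movingRows_strictMono (hr : i.1 r < j.1 r) : StrictMono (movingRows i j r) := by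
  intro a b hab
  have hab' : a.val < b.val := hab
  unfold movingRows
  split_ifs with ha hb hb
  · exact i.2 hab
  · refine lt_of_le_of_lt (i.2.monotone (show (⟨a.val, _⟩ : Fin d) ≤ r from ha)) ?_
    refine lt_of_lt_of_le hr (j.2.monotone ?_)
    rw [Fin.le_def]
    simp only
    omega
  · omega
  · refine j.2 ?_
    rw [Fin.lt_def]
    simp only
    omega

theorem le_orderEmbOfFin (A : Finset (Fin (d + 1))) (hA : A.card = r.val + 1)
    (s : Fin (r.val + 1)) : s.val ≤ (A.orderEmbOfFin hA s).val := by
  have h : (Finset.Iio s).card ≤ (Finset.Iio (A.orderEmbOfFin hA s)).card :=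
    Finset.card_le_card_of_injOn (A.orderEmbOfFin hA)
      (fun x hx => by simpa using hx) (A.orderEmbOfFin hA).injective.injOn
  simpa using h

theorem wt_lt_sum_shuffleI (hr : i.1 r < j.1 r) (A : Finset (Fin (d + 1)))
    (hA : A.card = r.val + 1) (hne : A ≠ baseSet r) :
    wt i < ∑ t, (shuffleI i j r A hA t).val := by
  rw [wt, sum_shuffleI i j r (fun v => v.val) A hA]
  conv_lhs => rw [← Finset.sum_filter_add_sum_filter_not Finset.univ (fun t : Fin d => t.val ≤ r.val)]
  refine Nat.add_lt_add_right ?_ _
  have h0 : ∑ t ∈ Finset.univ.filter (fun t : Fin d => t.val ≤ r.val), (i.1 t).val =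
      ∑ s, (movingRows i j r ((baseSet r).orderEmbOfFin (baseSet_card r) s)).val := by
    have := sum_shuffleI i j r (fun v => v.val) (baseSet r) (baseSet_card r)
    rw [shuffleI_base, ← Finset.sum_filter_add_sum_filter_not Finset.univ
      (fun t : Fin d => t.val ≤ r.val)] at this
    exact Nat.add_right_cancel this
  rw [h0]
  have hle : ∀ s, (baseSet r).orderEmbOfFin (baseSet_card r) s ≤ A.orderEmbOfFin hA s := fun s =>
    (baseSet_emb r s).trans_le (le_orderEmbOfFin A hA s)
  refine Finset.sum_lt_sum (fun s _ => (movingRows_strictMono hr).monotone (hle s)) ?_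
  by_contra hcon
  push Not at hcon
  apply hne
  have heq : ∀ s, (baseSet r).orderEmbOfFin (baseSet_card r) s = A.orderEmbOfFin hA s := fun s => by
    rcases eq_or_lt_of_le (hle s) with h | h
    · exact h
    · exact absurd (hcon s (Finset.mem_univ s)) (not_le_of_gt (movingRows_strictMono hr h))
  rw [← Finset.map_orderEmbOfFin_univ A hA, ← Finset.map_orderEmbOfFin_univ _ (baseSet_card r)]
  ext x
  simp only [Finset.mem_map, Finset.mem_univ, true_and, RelEmbedding.coe_toEmbedding, heq]

end Pair

/-- The products which may appear when rewriting `X i * X j`. -/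
def pairTargets (K : Type u) [CommRing K] {d n : ℕ} (i j : Idx d n) : Set (PlRing K d n) :=
  {f | ∃ a b : Idx d n, wt i < wt a ∧ wt a + wt b = wt i + wt j ∧
    rowsOf a + rowsOf b = rowsOf i + rowsOf j ∧ f = X a * X b}

theorem straighten_pair (i j : Idx d n) (h : ¬ j ≤ i) :
    ∃ r : Fin d, IsPivot i j r ∧
      X i * X j - shuffleRel K i j r ∈ Submodule.span K (pairTargets K i j) := by
  have hne : (Finset.univ.filter fun t : Fin d => i.1 t < j.1 t).Nonempty := by
    by_contra hcon
    rw [Finset.not_nonempty_iff_eq_empty, Finset.filter_eq_empty_iff] at hcon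
    exact h fun t => not_lt.1 (hcon (Finset.mem_univ t))
  obtain ⟨r, hrmem, hrmin⟩ :=
    (Finset.univ.filter fun t : Fin d => i.1 t < j.1 t).exists_min_image id hne
  have hr : i.1 r < j.1 r := (Finset.mem_filter.1 hrmem).2
  refine ⟨r, ⟨fun t ht => not_lt.1 fun hlt => ?_, hr⟩, ?_⟩
  · exact absurd (hrmin t (Finset.mem_filter.2 ⟨Finset.mem_univ _, hlt⟩)) (not_le_of_gt ht)
  rw [shuffleRel, ← Finset.add_sum_erase _ _ (Finset.mem_univ (baseSet r)), shuffleTerm_base,
    sub_add_cancel_left]
  refine Submodule.neg_mem _ (Submodule.sum_mem _ fun A hA => ?_)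
  have hAne : A ≠ baseSet r := (Finset.mem_erase.1 hA).1
  rw [shuffleTerm]
  split_ifs with hc
  · have hpow : (-1 : PlRing K d n) ^ shuffleSign r A = C ((-1 : K) ^ shuffleSign r A) := by simp
    rw [hpow, mul_assoc, C_mul']
    refine Submodule.smul_mem _ _ ?_
    have hmem := Submodule.mul_mem_mul (coord_mem_span (K := K) (shuffleI i j r A hc))
      (coord_mem_span (K := K) (shuffleJ i j r A hc))
    rw [Submodule.span_mul_span] at hmem
    refine Submodule.span_mono ?_ hmem
    intro f hf
    obtain ⟨x, ⟨a, ha, rfl⟩, y, ⟨b, hb, rfl⟩, rfl⟩ := Set.mem_mul.1 hf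
    refine ⟨a, b, ?_, ?_, ?_, rfl⟩
    · rw [show wt a = ∑ t, (shuffleI i j r A hc t).val from ha (fun v => v.val)]
      exact wt_lt_sum_shuffleI hr A hc hAne
    · rw [show wt a = ∑ t, (shuffleI i j r A hc t).val from ha (fun v => v.val),
        show wt b = ∑ t, (shuffleJ i j r A hc t).val from hb (fun v => v.val)]
      exact sum_shuffle i j r (fun v => v.val) A hc
    · rw [show rowsOf a = ∑ t, {shuffleI i j r A hc t} from ha (fun v => ({v} : Multiset (Fin n))),
        show rowsOf b = ∑ t, {shuffleJ i j r A hc t} from hb (fun v => ({v} : Multiset (Fin n)))]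
      exact sum_shuffle i j r (fun v => ({v} : Multiset (Fin n))) A hc
  · exact Submodule.zero_mem _

/-- A standard multiset appearing in the straightening of `s`. -/
def Straight (s t : Multiset (Idx d n)) : Prop :=
  IsStd t ∧ t.card = s.card ∧ content t = content s ∧ (t = s ∨ sq s < sq t)

theorem wt_le (θ : Idx d n) : wt θ ≤ d * n := by
  refine le_trans (Finset.sum_le_card_nsmul _ _ n fun t _ => le_of_lt (θ.1 t).isLt) ?_
  simp

theorem sq_le (s : Multiset (Idx d n)) : sq s ≤ s.card * (d * n) ^ 2 := by
  refine le_trans (Multiset.sum_le_card_nsmul _ ((d * n) ^ 2) ?_) (by simp)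
  intro x hx
  obtain ⟨θ, -, rfl⟩ := Multiset.mem_map.1 hx
  exact Nat.pow_le_pow_left (wt_le θ) 2

/-- The straightening law. -/
theorem straighten (I : Ideal (PlRing K d n))
    (hI : ∀ i j r, IsPivot i j r → shuffleRel K i j r ∈ I) (s : Multiset (Idx d n)) :
    mon K s ∈ Submodule.span K {f | ∃ t, Straight s t ∧ f = mon K t} ⊔ I.restrictScalars K := by
  classical
  generalize hN : s.card * (d * n) ^ 2 - sq s = N
  induction N using Nat.strong_induction_on generalizing s with
  | _ N ih =>
    by_cases hs : IsStd s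
    · exact Submodule.mem_sup_left (Submodule.subset_span ⟨s, ⟨hs, rfl, rfl, Or.inl rfl⟩, rfl⟩)
    · simp only [IsStd, not_forall, not_or] at hs
      obtain ⟨i₀, hi₀, j₀, hj₀, h1, h2⟩ := hs
      obtain ⟨i, j, hi, hj, hne, hij, hwt⟩ : ∃ i j, i ∈ s ∧ j ∈ s ∧ j ≠ i ∧ ¬ j ≤ i ∧ wt j ≤ wt i := by
        rcases le_total (wt j₀) (wt i₀) with h | h
        · exact ⟨i₀, j₀, hi₀, hj₀, fun e => h2 (le_of_eq e), h2, h⟩
        · exact ⟨j₀, i₀, hj₀, hi₀, fun e => h1 (le_of_eq e), h1, h⟩
      obtain ⟨s', rfl⟩ := Multiset.exists_cons_of_mem hi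
      have hj' : j ∈ s' := (Multiset.mem_cons.1 hj).resolve_left hne
      obtain ⟨s'', rfl⟩ := Multiset.exists_cons_of_mem hj'
      obtain ⟨r, hr, hmem⟩ := straighten_pair (K := K) i j hij
      have hdec : mon K (i ::ₘ j ::ₘ s'') =
          (X i * X j - shuffleRel K i j r) * mon K s'' + shuffleRel K i j r * mon K s'' := by
        simp only [mon_cons]; ring
      rw [hdec]
      refine Submodule.add_mem _ ?_
        (Submodule.mem_sup_right (Ideal.mul_mem_right _ _ (hI i j r hr)))
      have hmem' := Submodule.apply_mem_span_image_of_mem_span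
        (LinearMap.mulRight K (mon K s'')) hmem
      refine (Submodule.span_le.2 ?_ : _ ≤ _) hmem'
      rintro _ ⟨_, ⟨a, b, hwa, hwab, hrows, rfl⟩, rfl⟩
      have hnew : mon K (a ::ₘ b ::ₘ s'') = LinearMap.mulRight K (mon K s'') (X a * X b) := by
        simp [mul_assoc]
      rw [SetLike.mem_coe, ← hnew]
      have hsq : sq (i ::ₘ j ::ₘ s'') < sq (a ::ₘ b ::ₘ s'') := by
        simp only [sq_cons]
        nlinarith
      have hcard : (a ::ₘ b ::ₘ s'').card = (i ::ₘ j ::ₘ s'').card := by simp
      have hb := sq_le (a ::ₘ b ::ₘ s'')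
      rw [hcard] at hb
      have hrec := ih _ (by rw [hcard]; omega) (a ::ₘ b ::ₘ s'') rfl
      obtain ⟨y, hy, z, hz, hyz⟩ := Submodule.mem_sup.1 hrec
      rw [← hyz]
      refine add_mem (Submodule.mem_sup_left (Submodule.span_mono ?_ hy)) (Submodule.mem_sup_right hz)
      rintro _ ⟨t, ⟨ht1, ht2, ht3, ht4⟩, rfl⟩
      refine ⟨t, ⟨ht1, ht2.trans hcard, ?_, Or.inr ?_⟩, rfl⟩
      · rw [ht3]
        simp only [content_cons, ← add_assoc, hrows]
      · rcases ht4 with rfl | h
        · exact hsq
        · exact hsq.trans h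

theorem exists_antitone_of_isStd {s : Multiset (Idx d n)} (hs : IsStd s) :
    ∃ c : Fin s.card → Idx d n, Antitone c ∧ (∀ k, c k ∈ s) ∧ Multiset.ofList (List.ofFn c) = s := by
  classical
  induction hk : s.card generalizing s with
  | zero =>
    rw [Multiset.card_eq_zero] at hk
    subst hk
    exact ⟨Fin.elim0, fun a => a.elim0, fun a => a.elim0, by simp⟩
  | succ k ih =>
    have hne : s.toFinset.Nonempty := by
      rw [Finset.nonempty_iff_ne_empty]
      intro h
      rw [Multiset.toFinset_eq_empty] at h
      simp [h] at hk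
    obtain ⟨m, hm⟩ := s.toFinset.exists_maximal hne
    have hms : m ∈ s := Multiset.mem_toFinset.1 hm.prop
    have hmax : ∀ x ∈ s, x ≤ m := fun x hx => by
      rcases hs x hx m hms with h | h
      · exact h
      · exact hm.le_of_ge (Multiset.mem_toFinset.2 hx) h
    obtain ⟨s', rfl⟩ := Multiset.exists_cons_of_mem hms
    obtain ⟨c, hc, hcm, hce⟩ := ih (s := s')
      (fun a ha b hb => hs a (Multiset.mem_cons_of_mem ha) b (Multiset.mem_cons_of_mem hb))
      (by simpa using hk)
    refine ⟨Fin.cons m c, ?_, ?_, ?_⟩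
    · intro a b hab
      induction a using Fin.cases with
      | zero =>
        induction b using Fin.cases with
        | zero => exact le_rfl
        | succ b => simpa using hmax _ (Multiset.mem_cons_of_mem (hcm b))
      | succ a =>
        induction b using Fin.cases with
        | zero => exact absurd hab (not_le_of_gt a.succ_pos)
        | succ b => simpa using hc (Fin.succ_le_succ_iff.1 hab)
    · intro a
      induction a using Fin.cases with
      | zero => simp
      | succ a => simpa using Multiset.mem_cons_of_mem (hcm a)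
    · simp only [List.ofFn_succ, Fin.cons_zero, Fin.cons_succ]
      rw [← Multiset.cons_coe, ← hce]

theorem chainMon_eq_mon {m : ℕ} (c : Fin m → Idx d n) :
    chainMon K c = mon K (Multiset.ofList (List.ofFn c)) := by
  simp [chainMon, mon, List.map_ofFn, List.prod_ofFn]

theorem isStd_of_antitone {m : ℕ} {c : Fin m → Idx d n} (hc : Antitone c) :
    IsStd (Multiset.ofList (List.ofFn c)) := by
  intro a ha b hb
  simp only [Multiset.mem_coe, List.mem_ofFn] at ha hb
  obtain ⟨i, rfl⟩ := ha
  obtain ⟨j, rfl⟩ := hb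
  rcases le_total i j with h | h
  · exact Or.inr (hc h)
  · exact Or.inl (hc h)

theorem antitone_multiset_injective {m m' : ℕ} {c : Fin m → Idx d n} {c' : Fin m' → Idx d n}
    (hc : Antitone c) (hc' : Antitone c')
    (h : Multiset.ofList (List.ofFn c) = Multiset.ofList (List.ofFn c')) :
    (⟨m, c⟩ : Σ m, Fin m → Idx d n) = ⟨m', c'⟩ := by
  have hm : m = m' := by simpa using congrArg Multiset.card h
  subst hm
  have hp : List.Perm (List.ofFn c) (List.ofFn c') := Multiset.coe_eq_coe.1 h
  have := hp.eq_of_pairwise (le := (· ≥ ·)) (fun a b _ _ h1 h2 => le_antisymm h2 h1)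
    (List.pairwise_ofFn.2 fun i j hij => hc hij.le)
    (List.pairwise_ofFn.2 fun i j hij => hc' hij.le)
  exact congrArg _ (List.ofFn_injective this)

theorem mem_span_mons (p : PlRing K d n) : p ∈ Submodule.span K (Set.range (mon K)) := by
  induction p using MvPolynomial.induction_on with
  | C a =>
    rw [show (C a : PlRing K d n) = a • mon K 0 by simp [smul_eq_C_mul]]
    exact Submodule.smul_mem _ _ (Submodule.subset_span ⟨0, rfl⟩)
  | add p q hp hq => exact add_mem hp hq
  | mul_X p θ hp =>
    have := Submodule.apply_mem_span_image_of_mem_span (LinearMap.mulRight K (X θ)) hp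
    refine Submodule.span_mono ?_ this
    rintro _ ⟨_, ⟨s, rfl⟩, rfl⟩
    exact ⟨θ ::ₘ s, by simp [mul_comm]⟩

end GrassLib
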