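import Groth.Agent.GrassLib.Degeneration

/-!
The two weight functions of the degenerations.
-/

universe u

open MvPolynomial

namespace GrassLib

open W4bk4grassmannian

variable {d n : ℕ}

theorem wt_eq_sum_cnt (θ : Idx d n) : wt θ = ∑ v ∈ Finset.range n, cnt (v + 1) θ := by
  simp only [wt, cnt_eq_sum]
  rw [Finset.sum_comm]
  refine Finset.sum_congr rfl fun t _ => ?_
  rw [← Finset.card_filter]
  have h : ((Finset.range n).filter fun v => v + 1 ≤ (θ.1 t).val) = Finset.range (θ.1 t).val := by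
    ext v
    simp only [Finset.mem_filter, Finset.mem_range]
    have := (θ.1 t).isLt
    omega
  rw [h, Finset.card_range]

theorem wt_add_of_cnt {i j α β : Idx d n} (h : ∀ v, cnt v α + cnt v β = cnt v i + cnt v j) :
    wt α + wt β = wt i + wt j := by
  simp only [wt_eq_sum_cnt, ← Finset.sum_add_distrib]
  exact Finset.sum_congr rfl fun v _ => h (v + 1)

/-- The weight of the Hibi degeneration. -/
def hibiWt (θ : Idx d n) : ℕ := ∑ v ∈ Finset.range n, cnt v θ ^ 2

theorem hibiWt_le (θ : Idx d n) : hibiWt θ ≤ n * d ^ 2 := by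
  refine le_trans (Finset.sum_le_card_nsmul _ _ (d ^ 2) fun v _ => Nat.pow_le_pow_left ?_ 2) (by simp)
  exact le_trans (Finset.card_filter_le _ _) (Finset.card_fin d).le

theorem srWt_le (θ : Idx d n) : wt θ ^ 2 ≤ (d * n) ^ 2 := Nat.pow_le_pow_left (wt_le θ) 2

theorem hibiWt_sup_inf (i j : Idx d n) :
    hibiWt (W4bk4grassmannian.sup i j) + hibiWt (W4bk4grassmannian.inf i j) = hibiWt i + hibiWt j := by
  simp only [hibiWt, ← Finset.sum_add_distrib, cnt_sup, cnt_inf]
  refine Finset.sum_congr rfl fun v _ => ?_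
  rcases le_total (cnt v i) (cnt v j) with h | h
  · rw [max_eq_right h, min_eq_left h, add_comm]
  · rw [max_eq_left h, min_eq_right h]

theorem sq_add_le_of_le {a b x y : ℕ} (h : x + y = a + b) (ha : a ≤ x) (hb : b ≤ x) :
    a ^ 2 + b ^ 2 ≤ x ^ 2 + y ^ 2 ∧ (a < x → b < x → a ^ 2 + b ^ 2 < x ^ 2 + y ^ 2) := by
  obtain ⟨p, rfl⟩ := Nat.exists_eq_add_of_le ha
  have hb' : b = y + p := by omega
  subst hb'
  constructor
  · nlinarith
  · intro h1 h2
    nlinarith

theorem hibiWt_lt (i j α β : Idx d n) (hα : W4bk4grassmannian.sup i j < α)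
    (h : ∀ v, cnt v α + cnt v β = cnt v i + cnt v j) :
    hibiWt i + hibiWt j < hibiWt α + hibiWt β := by
  simp only [hibiWt, ← Finset.sum_add_distrib]
  have hge : ∀ v, cnt v i ≤ cnt v α ∧ cnt v j ≤ cnt v α := fun v => by
    have := cnt_le_cnt hα.le v
    rw [cnt_sup] at this
    omega
  refine Finset.sum_lt_sum (fun v _ => (sq_add_le_of_le (h v) (hge v).1 (hge v).2).1) ?_
  obtain ⟨v, hv, hlt⟩ : ∃ v, v < n ∧ cnt v (W4bk4grassmannian.sup i j) < cnt v α := by
    by_contra hcon
    push Not at hcon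
    exact hα.not_ge (le_of_cnt hcon)
  rw [cnt_sup] at hlt
  exact ⟨v, Finset.mem_range.2 hv, (sq_add_le_of_le (h v) (hge v).1 (hge v).2).2 (by omega) (by omega)⟩

theorem srIdeal_eq (K : Type u) [CommRing K] (w : Idx d n) :
    srIdeal K w = Ideal.span {f | ∃ i j : Below w, ¬ i.1 ≤ j.1 ∧ ¬ j.1 ≤ i.1 ∧
      f = X i * X j - C (0 : K) * (X (Below.sup i j) * X (Below.inf i j))} := by
  rw [srIdeal]
  simp only [map_zero, zero_mul, sub_zero]
  rfl

theorem hibiIdeal_eq (K : Type u) [CommRing K] (w : Idx d n) :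
    hibiIdeal K w = Ideal.span {f | ∃ i j : Below w, ¬ i.1 ≤ j.1 ∧ ¬ j.1 ≤ i.1 ∧
      f = X i * X j - C (1 : K) * (X (Below.sup i j) * X (Below.inf i j))} := by
  refine le_antisymm (Ideal.span_le.2 ?_) (Ideal.span_mono ?_)
  · rintro _ ⟨i, j, rfl⟩
    by_cases h1 : i.1 ≤ j.1
    · have hs : Below.sup i j = j := Subtype.ext (Subtype.ext (funext fun t => max_eq_right (h1 t)))
      have hi : Below.inf i j = i := Subtype.ext (Subtype.ext (funext fun t => min_eq_left (h1 t)))
      rw [hs, hi, SetLike.mem_coe, mul_comm, sub_self]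
      exact Ideal.zero_mem _
    by_cases h2 : j.1 ≤ i.1
    · have hs : Below.sup i j = i := Subtype.ext (Subtype.ext (funext fun t => max_eq_left (h2 t)))
      have hi : Below.inf i j = j := Subtype.ext (Subtype.ext (funext fun t => min_eq_right (h2 t)))
      rw [hs, hi, SetLike.mem_coe, sub_self]
      exact Ideal.zero_mem _
    exact Ideal.subset_span ⟨i, j, h1, h2, by rw [map_one, one_mul]⟩
  · rintro _ ⟨i, j, -, -, rfl⟩
    exact ⟨i, j, by rw [map_one, one_mul]⟩

end GrassLib
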